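import Cfsg.Agent.Lib.Transfer.UFLyons.ShapeLines
import Cfsg.Agent.Lib.Transfer.UnitaryCore.Data
import Cfsg.Agent.Lib.Transfer.UnitaryFour.Exclude
import Cfsg.Agent.Lib.Invol.G1Local.Setup
import Cfsg.Agent.Lib.Invol.Core2.RankTwoPSL
import Cfsg.Agent.Lib.Block.AbelianTwo.SLTwo
import Cfsg.Agent.S3188

/-!
# A simple group with a Sylow 2-subgroup of `PSU(3, 4)` shape: the centraliser of a central involution

`C(A) = O(C A) (N(S) ∩ C(A))` for the four-group `A = Z(S)`, because `C(A)/A` has abelian Sylow 2-subgroups,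
solvable centralisers of involutions and no four-group of fused involutions.  The automiser of `S` in `C(A)` is
cyclic of order five without fixed point on `S/A`, since otherwise the centralisers of involutions have normal
2-complements.  This gives the data for the character argument with `M = ⊥`.
-/

set_option autoImplicit false
set_option linter.unusedSectionVars false
set_option linter.style.haveILetI false

namespace Cfsg.Agent.Transfer.UFLyons.Cover

open Subgroup UnitaryFour Invol.G1Local Invol.CentRank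

universe u

variable {G : Type u} [Group G] [Finite G] {S : Sylow 2 G}

/-- A subgroup containing the square and an odd power of an element contains it. -/
theorem mem_of_sq_pow {K : Subgroup G} {n : G} (h2 : n ^ 2 ∈ K) {m : ℕ} (hm : Odd m) (hm' : n ^ m ∈ K) :
    n ∈ K := by
  obtain ⟨i, rfl⟩ := hm
  have e : n = ((n ^ 2) ^ i)⁻¹ * n ^ (2 * i + 1) := by rw [pow_succ n (2 * i), pow_mul, inv_mul_cancel_left]
  rw [e]
  exact mul_mem (inv_mem (pow_mem h2 i)) hm'

theorem pow_odd_mem {W : Subgroup G} {N : Subgroup W} [N.Normal] {m : ℕ} (hm : N.index = m) {n : G}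
    (hn : n ∈ W) : (⟨n, hn⟩ : W) ^ m ∈ N := by
  rw [← QuotientGroup.eq_one_iff, ← hm, index_eq_card, QuotientGroup.mk_pow]
  exact pow_card_eq_one'

theorem comm_mem' (hS : Shape ↥(S : Subgroup G)) {a b : G} (ha : a ∈ (S : Subgroup G)) (hb : b ∈ (S : Subgroup G)) :
    a * b * a⁻¹ * b⁻¹ ∈ cen S :=
  ⟨_, hS.comm ⟨a, ha⟩ ⟨b, hb⟩, rfl⟩

theorem sq_mem' (hS : Shape ↥(S : Subgroup G)) {a : G} (ha : a ∈ (S : Subgroup G)) : a * a ∈ cen S :=
  ⟨_, hS.sq ⟨a, ha⟩, rfl⟩

theorem mem_cen' (hS : Shape ↥(S : Subgroup G)) {a : G} (ha : a ∈ (S : Subgroup G)) (h : a * a = 1) :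
    a ∈ cen S :=
  (mem_cen ha).2 (hS.inv _ (Subtype.ext h))

theorem cen_sq' (hS : Shape ↥(S : Subgroup G)) {v : G} (hv : v ∈ cen S) : v * v = 1 :=
  congrArg Subtype.val (hS.exp _ ((mem_cen (cen_le hv)).1 hv))

theorem cen_order' (hS : Shape ↥(S : Subgroup G)) {v : G} (hv : v ∈ cen S) (h1 : v ≠ 1) : orderOf v = 2 :=
  orderOf_eq_prime (by rw [pow_two, cen_sq' hS hv]) h1

theorem S_le : (S : Subgroup G) ≤ centralizer (cen S : Set G) := fun s hs =>
  mem_centralizer_iff.2 fun _ hv => comm_of_cen hv hs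

theorem cen_le_cent : cen S ≤ centralizer (cen S : Set G) := cen_le.trans S_le

theorem conj_sq {g p : G} : g * p * g⁻¹ * (g * p * g⁻¹) = g * (p * p) * g⁻¹ := by group

/-- An element moving every element of `A` into `S` normalises `A`. -/
theorem mem_normalizer_cen (hS : Shape ↥(S : Subgroup G)) {g : G}
    (hg : ∀ v ∈ cen S, g * v * g⁻¹ ∈ (S : Subgroup G)) : g ∈ normalizer (cen S : Set G) := by
  refine mem_normalizer_iff_map_conj_eq.2 (Subgroup.eq_of_le_of_card_ge ?_ (le_of_eq ?_))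
  · rintro _ ⟨v, hv, rfl⟩
    exact mem_cen' hS (hg v hv) (by
      show g * v * g⁻¹ * (g * v * g⁻¹) = 1
      rw [conj_sq, cen_sq' hS hv, mul_one, mul_inv_cancel])
  · exact (card_map_of_injective (MulAut.conj g).injective).symm

/-- An element of `N(A)` whose square centralises `A` centralises `A`. -/
theorem mem_cent_of_sq {g : G} (hg : g ∈ normalizer (cen S : Set G))
    (h2 : g ^ 2 ∈ centralizer (cen S : Set G)) : g ∈ centralizer (cen S : Set G) := by
  set W := normalizer (cen S : Set G)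
  set N := (centralizer (cen S : Set G)).subgroupOf W
  haveI : N.Normal := by
    refine ⟨fun y hy c => mem_centralizer_iff.2 fun v hv => ?_⟩
    have hv' : (c : G)⁻¹ * v * c ∈ cen S := (mem_normalizer_iff''.1 c.2 v).1 hv
    show v * ((c : G) * y * (c : G)⁻¹) = (c : G) * y * (c : G)⁻¹ * v
    calc v * ((c : G) * y * (c : G)⁻¹) = (c : G) * ((c : G)⁻¹ * v * c * y) * (c : G)⁻¹ := by group
      _ = (c : G) * (y * ((c : G)⁻¹ * v * c)) * (c : G)⁻¹ := by rw [mem_centralizer_iff.1 (show (y : G) ∈ centralizer (cen S : Set G) from hy) _ hv']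
      _ = _ := by group
  have hSW : (S : Subgroup G) ≤ W := S_le.trans (centralizer_le_normalizer _)
  have hodd : Odd N.index := by
    refine Odd.of_dvd_nat ?_ (index_dvd_of_le (fun x hx => S_le hx : (S : Subgroup G).subgroupOf W ≤ N))
    have h1 : (S : Subgroup G).relIndex W * W.index = (S : Subgroup G).index := relIndex_mul_index hSW
    haveI : Fact (Nat.Prime 2) := ⟨Nat.prime_two⟩
    rw [Nat.odd_iff, ← Nat.two_dvd_ne_zero]
    exact fun hd => S.not_dvd_index (h1 ▸ hd.mul_right _)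
  have h3 := pow_odd_mem (N := N) rfl hg
  exact mem_of_sq_pow h2 hodd h3

/-- A 2-subgroup containing `A` is moved into `S` by an element normalising `A`. -/
theorem exists_conj_le (hS : Shape ↥(S : Subgroup G)) {P : Subgroup G} (hP : IsPGroup 2 P)
    (hA : cen S ≤ P) : ∃ g ∈ normalizer (cen S : Set G), ∀ p ∈ P, g * p * g⁻¹ ∈ (S : Subgroup G) := by
  haveI : Fact (Nat.Prime 2) := ⟨Nat.prime_two⟩
  obtain ⟨T, hT⟩ := hP.exists_le_sylow
  obtain ⟨g, hg⟩ := MulAction.exists_smul_eq G T S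
  have h1 : ∀ p ∈ P, g * p * g⁻¹ ∈ (S : Subgroup G) := fun p hp => by
    rw [← hg, Sylow.coe_subgroup_smul, ← Grp.map_conj_eq_smul]
    exact ⟨p, hT hp, rfl⟩
  exact ⟨g, mem_normalizer_cen hS fun v hv => h1 v (hA hv), h1⟩

/-- Fusion of the elements of `A`. -/
theorem fusion_cen {a b g : G} (ha : a ∈ cen S) (hb : b ∈ cen S) (hg : g * a * g⁻¹ = b) :
    ∃ n ∈ normalizer ((S : Subgroup G) : Set G), n * a * n⁻¹ = b := by
  haveI : Fact (Nat.Prime 2) := ⟨Nat.prime_two⟩
  have h1 : ((g • S : Sylow 2 G) : Subgroup G) ≤ centralizer ({b} : Set G) := by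
    intro w hw
    rw [Sylow.coe_subgroup_smul, ← Grp.map_conj_eq_smul] at hw
    obtain ⟨s, hs, rfl⟩ := hw
    refine mem_cent_of_comm ?_
    rw [← hg]
    show g * s * g⁻¹ * (g * a * g⁻¹) = g * a * g⁻¹ * (g * s * g⁻¹)
    calc g * s * g⁻¹ * (g * a * g⁻¹) = g * (s * a) * g⁻¹ := by group
      _ = g * (a * s) * g⁻¹ := by rw [comm_of_cen ha hs]
      _ = _ := by group
  obtain ⟨c, hc⟩ := MulAction.exists_smul_eq ↥(centralizer ({b} : Set G)) ((g • S : Sylow 2 G).subtype h1)
    (S.subtype (Hyp.le_cent hb))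
  rw [Sylow.smul_subtype] at hc
  have hn : (c : G) * g ∈ normalizer ((S : Subgroup G) : Set G) :=
    Sylow.smul_eq_iff_mem_normalizer.1 (by rw [mul_smul]; exact Sylow.subtype_injective hc)
  refine ⟨_, hn, ?_⟩
  have hcb : (c : G) * b = b * c := mem_centralizer_singleton_iff.1 c.2
  rw [show (c : G) * g * a * ((c : G) * g)⁻¹ = c * (g * a * g⁻¹) * (c : G)⁻¹ by group, hg, hcb,
    mul_inv_cancel_right]

theorem not_comm (hS : Shape ↥(S : Subgroup G)) [IsSimpleGroup G] : ¬ IsMulCommutative G := fun hc => by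
  have h1 := hS.centre
  rw [show center ↥(S : Subgroup G) = ⊤ from eq_top_iff.2 fun x _ => mem_center_iff.2 fun g => Subtype.ext
    (hc.is_comm.comm (g : G) x), Subgroup.card_top, hS.card] at h1
  omega

/-- In a simple group an involution of `A` is moved by `N(S)`. -/
theorem exists_mover (hS : Shape ↥(S : Subgroup G)) [IsSimpleGroup G] {v : G} (hv : v ∈ cen S) (hv1 : v ≠ 1) :
    ∃ m ∈ normalizer ((S : Subgroup G) : Set G), m * v * m⁻¹ ≠ v := by
  by_contra hno
  push Not at hno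
  have hiso : Cfsg.IsIsolatedInvolution v := by
    refine ZStar.isIsolated_of_sylow (P := S) (cen_le hv) (cen_order' hS hv hv1) fun g hg => ?_
    obtain ⟨n, hn, hne⟩ := fusion_cen (g := g) hv (mem_cen' hS hg (by
      rw [conj_sq, cen_sq' hS hv, mul_one, mul_inv_cancel])) rfl
    exact hne.symm.trans (hno n hn)
  obtain ⟨N, hN, hNo, hc⟩ := ZStar.exists_odd_normal hiso
  have hvc : ∀ g : G, g * v = v * g := fun g => by
    rcases hN.eq_bot_or_eq_top with e | e
    · have h1 := hc g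
      rw [e, mem_bot] at h1
      exact (mul_inv_eq_iff_eq_mul.1 (mul_inv_eq_one.1 h1)).symm
    · rw [e] at hNo
      have h2 : orderOf v ∣ Nat.card (⊤ : Subgroup G) := by rw [Subgroup.card_top]; exact orderOf_dvd_natCard v
      rw [cen_order' hS hv hv1] at h2
      exact absurd (even_iff_two_dvd.2 h2) (Nat.not_even_iff_odd.2 hNo)
  rcases (inferInstance : (center G).Normal).eq_bot_or_eq_top with e | e
  · exact hv1 (mem_bot.1 (e ▸ mem_center_iff.2 hvc))
  · exact not_comm hS ⟨⟨fun a b => mem_center_iff.1 (e ▸ mem_top b) a⟩⟩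

theorem eq_or' (hS : Shape ↥(S : Subgroup G)) {t a v : G} (ht : t ∈ cen S) (ha : a ∈ cen S) (ht1 : t ≠ 1)
    (ha1 : a ≠ 1) (hat : a ≠ t) (hv : v ∈ cen S) : v = 1 ∨ v = t ∨ v = a ∨ v = t * a := by
  have hm : ∀ {x : G} (hx : x ∈ cen S), (⟨x, cen_le hx⟩ : ↥(S : Subgroup G)) ∈ center ↥(S : Subgroup G) :=
    fun {x} hx => (mem_cen (cen_le hx)).1 hx
  have h1 := Lines.center_cases hS (v := ⟨_, hm ht⟩) (u := ⟨_, hm ha⟩)
    (fun e => ht1 (congrArg (fun z : center ↥(S : Subgroup G) => ((z : ↥(S : Subgroup G)) : G)) e))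
    (fun e => ha1 (congrArg (fun z : center ↥(S : Subgroup G) => ((z : ↥(S : Subgroup G)) : G)) e))
    (fun e => hat (congrArg (fun z : center ↥(S : Subgroup G) => ((z : ↥(S : Subgroup G)) : G)) e)) ⟨_, hm hv⟩
  rcases h1 with e | e | e | e
  · exact Or.inl (congrArg (fun z : center ↥(S : Subgroup G) => ((z : ↥(S : Subgroup G)) : G)) e)
  · exact Or.inr (Or.inl (congrArg (fun z : center ↥(S : Subgroup G) => ((z : ↥(S : Subgroup G)) : G)) e))
  · exact Or.inr (Or.inr (Or.inl (congrArg (fun z : center ↥(S : Subgroup G) => ((z : ↥(S : Subgroup G)) : G)) e)))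
  · exact Or.inr (Or.inr (Or.inr (congrArg (fun z : center ↥(S : Subgroup G) => ((z : ↥(S : Subgroup G)) : G)) e)))

/-- `N(S)` fuses the involutions of `A`. -/
theorem fused (hS : Shape ↥(S : Subgroup G)) [IsSimpleGroup G] {z v : G} (hz : z ∈ cen S) (hz1 : z ≠ 1)
    (hv : v ∈ cen S) (hv1 : v ≠ 1) : ∃ n ∈ normalizer ((S : Subgroup G) : Set G), n * z * n⁻¹ = v := by
  by_cases hvz : v = z
  · exact ⟨1, one_mem _, by rw [hvz]; group⟩
  obtain ⟨m, hm, hmz⟩ := exists_mover hS hz hz1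
  have hm1 : m * z * m⁻¹ ≠ 1 := fun e => hz1 (conj_eq_one_iff.1 e)
  have hmA := Hyp.cen_normal hm hz
  rcases eq_or' hS hz hv hz1 hv1 hvz hmA with e | e | e | e
  · exact absurd e hm1
  · exact absurd e hmz
  · exact ⟨m, hm, e⟩
  · obtain ⟨m', hm', hmv⟩ := exists_mover hS hv hv1
    rcases eq_or' hS hz hv hz1 hv1 hvz (Hyp.cen_normal hm' hv) with e' | e' | e' | e'
    · exact absurd (conj_eq_one_iff.1 e') hv1
    · refine ⟨m'⁻¹, inv_mem hm', ?_⟩
      conv_lhs => rw [← e']
      group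
    · exact absurd e' hmv
    · refine ⟨m'⁻¹ * m, mul_mem (inv_mem hm') hm, ?_⟩
      rw [show m'⁻¹ * m * z * (m'⁻¹ * m)⁻¹ = m'⁻¹ * (m * z * m⁻¹) * m' by group, e, ← e']
      group

/-- `C(t) = O(C t) C(A)`. -/
theorem cover (hS : Shape ↥(S : Subgroup G)) {t c : G} (ht : t ∈ cen S) (ht1 : t ≠ 1)
    (hc : c ∈ centralizer ({t} : Set G)) :
    ∃ k ∈ Cfsg.centralizerPPrimeCore 2 t, ∃ d ∈ centralizer (cen S : Set G), c = k * d := by
  haveI : Fact (Nat.Prime 2) := ⟨Nat.prime_two⟩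
  set C := centralizer ({t} : Set G) with hC
  obtain ⟨a, ha, ha1, hat⟩ : ∃ a ∈ cen S, a ≠ 1 ∧ a ≠ t := by
    by_contra hno
    push Not at hno
    have h2 : (cen S : Set G) ⊆ {1, t} := fun x hx => by
      by_cases hx1 : x = 1
      · exact Or.inl hx1
      · exact Or.inr (hno x hx hx1)
    have h3 := (Set.ncard_le_ncard h2 (Set.toFinite _)).trans (Set.ncard_insert_le _ _)
    rw [show (cen S : Set G).ncard = Nat.card (cen S) from rfl, cen,
      Subgroup.card_map_of_injective (S : Subgroup G).subtype_injective, hS.centre, Set.ncard_singleton] at h3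
    omega
  have htC : t ∈ C := Hyp.le_cent ht (cen_le ht)
  have haC : a ∈ C := Hyp.le_cent ht (cen_le ha)
  have hiso : Cfsg.IsIsolatedInvolution (⟨a, haC⟩ : C) := by
    refine ZStar.isIsolated_of_sylow (P := S.subtype (Hyp.le_cent ht))
      (show (⟨a, haC⟩ : C) ∈ ((S.subtype (Hyp.le_cent ht) : Sylow 2 C) : Subgroup C) from cen_le (S := S) ha)
      (by rw [Subgroup.orderOf_mk, cen_order' hS ha ha1]) fun g hg => Subtype.ext ?_
    show (g : G) * a * (g : G)⁻¹ = a
    have hgS : (g : G) * a * (g : G)⁻¹ ∈ (S : Subgroup G) := hg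
    have hgt : (g : G) * t * (g : G)⁻¹ = t := by
      rw [mem_centralizer_singleton_iff.1 g.2, mul_inv_cancel_right]
    have hgA : (g : G) * a * (g : G)⁻¹ ∈ cen S := mem_cen' hS hgS (by
      rw [conj_sq, cen_sq' hS ha, mul_one, mul_inv_cancel])
    have hN : (g : G) ∈ normalizer (cen S : Set G) := mem_normalizer_cen hS fun v hv => by
      rcases eq_or' hS ht ha ht1 ha1 hat hv with rfl | rfl | rfl | rfl
      · simp [one_mem]
      · rw [hgt]; exact cen_le ht
      · exact hgS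
      · rw [show (g : G) * (t * a) * (g : G)⁻¹ = g * t * (g : G)⁻¹ * (g * a * (g : G)⁻¹) by group, hgt]
        exact mul_mem (cen_le ht) hgS
    rcases eq_or' hS ht ha ht1 ha1 hat hgA with e | e | e | e
    · exact absurd (conj_eq_one_iff.1 e) ha1
    · exact absurd (mul_left_cancel (mul_right_cancel (e.trans hgt.symm))) hat
    · exact e
    · have h2 : (g : G) ^ 2 ∈ centralizer (cen S : Set G) := mem_centralizer_iff.2 fun v hv => by
        have key : (g : G) ^ 2 * v * ((g : G) ^ 2)⁻¹ = v := by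
          rw [pow_two, show (g : G) * g * v * ((g : G) * g)⁻¹ = g * (g * v * (g : G)⁻¹) * (g : G)⁻¹ by group]
          have ea : (g : G) * (t * a) * (g : G)⁻¹ = a := by
            rw [show (g : G) * (t * a) * (g : G)⁻¹ = g * t * (g : G)⁻¹ * (g * a * (g : G)⁻¹) by group, hgt, e,
              ← mul_assoc, cen_sq' hS ht, one_mul]
          rcases eq_or' hS ht ha ht1 ha1 hat hv with e1 | e1 | e1 | e1 <;> rw [e1]
          · group
          · rw [hgt, hgt]
          · rw [e, ea]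
          · rw [ea, e]
        exact (mul_inv_eq_iff_eq_mul.1 key).symm
      rw [← mem_centralizer_iff.1 (mem_cent_of_sq hN h2) a ha, mul_inv_cancel_right]
  obtain ⟨N, hN, hNo, hNc⟩ := ZStar.exists_odd_normal hiso
  set K := Cfsg.centralizerPPrimeCore 2 t
  have hNK : N.map C.subtype ≤ K := le_core (map_subtype_le _) (by
      rintro d hd _ ⟨y, hy, rfl⟩
      exact ⟨_, hN.conj_mem y hy ⟨d, hd⟩, rfl⟩)
    (by rwa [card_map_of_injective C.subtype_injective])
  have hta : a * c * a⁻¹ * c⁻¹ ∈ K := hNK ⟨_, hNc ⟨c, hc⟩, rfl⟩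
  have htt : t * c * t⁻¹ * c⁻¹ = 1 := by
    rw [← mem_centralizer_singleton_iff.1 hc, mul_inv_cancel_right, mul_inv_cancel]
  have hcA : ∀ v ∈ cen S, v * c * v⁻¹ * c⁻¹ ∈ K := by
    intro v hv
    rcases eq_or' hS ht ha ht1 ha1 hat hv with rfl | rfl | rfl | rfl
    · simp [one_mem]
    · rw [htt]; exact one_mem _
    · exact hta
    · rw [show t * a * c * (t * a)⁻¹ * c⁻¹ = t * (a * c * a⁻¹ * c⁻¹) * t⁻¹ * (t * c * t⁻¹ * c⁻¹) by group,
        htt, mul_one]
      exact core_conj htC hta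
  obtain ⟨o, ho, hoc⟩ := Grp.FpfThree.exists_rep_centralizer (V := cen S) (K := K)
    (S.2.to_le cen_le) (fun v hv y hy => core_conj (Hyp.le_cent ht (cen_le hv)) hy)
    (Nat.two_dvd_ne_zero.2 (Nat.odd_iff.1 (centralizerCore_odd t))) hcA
  exact ⟨o⁻¹, inv_mem ho, o * c, hoc, by group⟩

/-- The centraliser in `C(A)` of an element of `S` outside `A` is solvable. -/
theorem cent_solvable (hS : Shape ↥(S : Subgroup G)) {s : G} (hs : s ∈ (S : Subgroup G)) (hsA : s ∉ cen S) :
    Group.IsSolvable ↥(centralizer (cen S : Set G) ⊓ centralizer ({s} : Set G)) := by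
  haveI : Fact (Nat.Prime 2) := ⟨Nat.prime_two⟩
  set X := centralizer (cen S : Set G) ⊓ centralizer ({s} : Set G)
  set B := cen S ⊔ zpowers s
  have hBS : B ≤ (S : Subgroup G) := sup_le cen_le (zpowers_le.2 hs)
  have hBX : B ≤ X := sup_le (le_inf cen_le_cent fun v hv => mem_centralizer_singleton_iff.2 (comm_of_cen hv hs))
    (zpowers_le.2 ⟨S_le hs, mem_centralizer_singleton_iff.2 rfl⟩)
  obtain ⟨P, hBP⟩ := ((S.isPGroup'.to_le hBS).of_equiv (subgroupOfEquivOfLe hBX).symm).exists_le_sylow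
  have hP : IsPGroup 2 ↥((P : Subgroup X).map X.subtype) := P.isPGroup'.map _
  have hsP : s ∈ (P : Subgroup X).map X.subtype :=
    ⟨⟨s, hBX (mem_sup_right (mem_zpowers s))⟩, hBP (show s ∈ B from mem_sup_right (mem_zpowers s)), rfl⟩
  obtain ⟨g, hgN, hg⟩ := exists_conj_le hS hP fun v hv =>
    ⟨⟨v, hBX (mem_sup_left hv)⟩, hBP (show v ∈ B from mem_sup_left hv), rfl⟩
  set s' := g * s * g⁻¹
  have hcenN : ∀ v, v ∈ cen S ↔ g * v * g⁻¹ ∈ cen S := mem_normalizer_iff.1 hgN
  have hs'Z : (⟨s', hg s hsP⟩ : ↥(S : Subgroup G)) ∉ center ↥(S : Subgroup G) := fun hh =>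
    hsA ((hcenN s).2 ((mem_cen (hg s hsP)).2 hh))
  have himg : ∀ p : X, p ∈ (P : Subgroup X) → g * (p : G) * g⁻¹ ∈ (S : Subgroup G) := fun p hp =>
    hg _ ⟨p, hp, rfl⟩
  have hsc : ∀ p : X, p ∈ (P : Subgroup X) → g * (p : G) * g⁻¹ * s' = s' * (g * (p : G) * g⁻¹) := fun p _ => by
    rw [show g * (p : G) * g⁻¹ * s' = g * ((p : G) * s) * g⁻¹ by simp only [s']; group,
      mem_centralizer_singleton_iff.1 p.2.2]
    simp only [s']
    group
  have hPc : ∀ p q : X, p ∈ (P : Subgroup X) → q ∈ (P : Subgroup X) → p * q = q * p := fun p q hp hq => by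
    have := congrArg Subtype.val (Lines.comm_of_comm hS hs'Z (p := ⟨_, himg p hp⟩) (p' := ⟨_, himg q hq⟩)
      (Subtype.ext (hsc p hp)) (Subtype.ext (hsc q hq)))
    refine Subtype.ext (mul_left_cancel (a := g) (mul_right_cancel (b := g⁻¹) ?_))
    show g * ((p : G) * q) * g⁻¹ = g * ((q : G) * p) * g⁻¹
    calc g * ((p : G) * q) * g⁻¹ = g * (p : G) * g⁻¹ * (g * (q : G) * g⁻¹) := by group
      _ = g * (q : G) * g⁻¹ * (g * (p : G) * g⁻¹) := this
      _ = _ := by group
  have hsq : ∀ p : X, p ∈ (P : Subgroup X) → (p : G) * p ∈ cen S := fun p hp =>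
    (hcenN _).2 (by rw [← conj_sq]; exact sq_mem' hS (himg p hp))
  have hinv : ∀ p : X, p ∈ (P : Subgroup X) → (p : G) * p = 1 → (p : G) ∈ cen S := fun p hp e =>
    (hcenN _).2 (mem_cen' hS (himg p hp) (by rw [conj_sq, e, mul_one, mul_inv_cancel]))
  have hfix : ∀ (n : X) {v : G}, v ∈ cen S → (n : G) * v * (n : G)⁻¹ = v := fun n v hv => by
    rw [← mem_centralizer_iff.1 n.2.1 v hv, mul_inv_cancel_right]
  have hle : normalizer ((P : Subgroup X) : Set X) ≤ centralizer ((P : Subgroup X) : Set X) := by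
    intro n hn
    obtain ⟨j, m, hm, hnm⟩ := Nat.exists_eq_two_pow_mul_odd (orderOf_pos n).ne'
    refine mem_of_sq_pow (mem_centralizer_iff.2 fun p hp => ?_) hm ?_
    · set δ := n * p * n⁻¹ * p⁻¹ with hδ
      have hδP : δ ∈ (P : Subgroup X) := mul_mem ((mem_normalizer_iff.1 hn p).1 hp) (inv_mem hp)
      have hnp : n * p * n⁻¹ ∈ (P : Subgroup X) := (mem_normalizer_iff.1 hn p).1 hp
      have hδ2 : δ * δ = 1 := by
        have h1 : δ * δ = n * p * n⁻¹ * (n * p * n⁻¹) * (p * p)⁻¹ := by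
          rw [hδ]
          have hcm := hPc _ _ (inv_mem hp) hnp
          calc n * p * n⁻¹ * p⁻¹ * (n * p * n⁻¹ * p⁻¹) = n * p * n⁻¹ * (p⁻¹ * (n * p * n⁻¹)) * p⁻¹ := by group
            _ = n * p * n⁻¹ * (n * p * n⁻¹ * p⁻¹) * p⁻¹ := by rw [hcm]
            _ = _ := by group
        rw [h1]
        refine Subtype.ext ?_
        have h2 := hfix n (hsq p hp)
        show (n : G) * p * (n : G)⁻¹ * ((n : G) * p * (n : G)⁻¹) * ((p : G) * p)⁻¹ = 1
        rw [conj_sq, h2, mul_inv_cancel]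
      have hδA : (δ : G) ∈ cen S := hinv δ hδP (congrArg Subtype.val hδ2)
      have hfixδ : n * δ * n⁻¹ = δ := Subtype.ext (hfix n hδA)
      have e1 : n * p * n⁻¹ = δ * p := by rw [hδ, inv_mul_cancel_right]
      have e2 : n ^ 2 * p * (n ^ 2)⁻¹ = p := by
        rw [pow_two, show n * n * p * (n * n)⁻¹ = n * (n * p * n⁻¹) * n⁻¹ by group, e1,
          show n * (δ * p) * n⁻¹ = n * δ * n⁻¹ * (n * p * n⁻¹) by group, hfixδ, e1, ← mul_assoc, hδ2, one_mul]
      exact (mul_inv_eq_iff_eq_mul.1 e2).symm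
    · have hp : IsPGroup 2 ↥(zpowers (n ^ m)) := by
        obtain ⟨l, -, hl⟩ := (Nat.dvd_prime_pow Nat.prime_two).1 (orderOf_dvd_of_pow_eq_one
          (show (n ^ m) ^ 2 ^ j = 1 by rw [← pow_mul, mul_comm, ← hnm, pow_orderOf_eq_one]))
        exact IsPGroup.of_card (n := l) (by rw [Nat.card_zpowers, hl])
      have hmem : n ^ m ∈ (P : Subgroup X) :=
        P.is_maximal' (hp.to_sup_of_normal_right' P.isPGroup' (zpowers_le.2 (pow_mem hn m))) le_sup_right ▸
          mem_sup_left (mem_zpowers _)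
      exact mem_centralizer_iff.2 fun q hq => hPc _ _ hq hmem
  set N := (MonoidHom.transferSylow P hle).ker with hN
  have hcompl := MonoidHom.ker_transferSylow_isComplement' P hle
  have hNodd : Odd (Nat.card N) := by
    rw [Nat.odd_iff, ← Nat.two_dvd_ne_zero]
    exact MonoidHom.not_dvd_card_ker_transferSylow P hle
  haveI : Group.IsSolvable N := Cfsg.Agent.S0205.result hNodd
  haveI : Group.IsSolvable (X ⧸ N) := by
    obtain ⟨k, hk⟩ := IsPGroup.iff_card.1 P.isPGroup'
    have hp : IsPGroup 2 (X ⧸ N) := IsPGroup.of_card (n := k) (by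
      rw [← index_eq_card, hcompl.symm.index_eq_card, hk])
    haveI := hp.isNilpotent
    infer_instance
  exact (Group.isSolvable_iff_subgroup_quotient N).2 ⟨inferInstance, inferInstance⟩

/-- `A` inside `C(A)`. -/
abbrev cenC (S : Sylow 2 G) : Subgroup ↥(centralizer (cen S : Set G)) :=
  (cen S).subgroupOf (centralizer (cen S : Set G))

theorem cenC_central {a : ↥(centralizer (cen S : Set G))} (ha : a ∈ cenC S)
    (c : ↥(centralizer (cen S : Set G))) : c * a = a * c :=
  Subtype.ext (mem_centralizer_iff.1 c.2 _ ha).symm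

instance cenC_normal : (cenC S).Normal := ⟨fun a ha c => by rw [cenC_central ha c, mul_inv_cancel_right]; exact ha⟩

/-- `C(A)/A` has solvable centralisers of involutions. -/
theorem quot_cent_solvable (hS : Shape ↥(S : Subgroup G))
    (q : ↥(centralizer (cen S : Set G)) ⧸ cenC S) (hq : orderOf q = 2) :
    Group.IsSolvable ↥(centralizer ({q} : Set (↥(centralizer (cen S : Set G)) ⧸ cenC S))) := by
  haveI : Fact (Nat.Prime 2) := ⟨Nat.prime_two⟩
  set C := centralizer (cen S : Set G)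
  set f := QuotientGroup.mk' (cenC S)
  have hf : Function.Surjective f := QuotientGroup.mk'_surjective _
  set P := Sylow.mapSurjective hf (S.subtype (S_le (S := S)) : Sylow 2 C)
  obtain ⟨T, hT⟩ := (IsPGroup.of_card (p := 2) (n := 1) (G := zpowers q) (by
    rw [Nat.card_zpowers, hq, pow_one])).exists_le_sylow
  obtain ⟨r, hr⟩ := MulAction.exists_smul_eq (C ⧸ cenC S) T P
  obtain ⟨s, hs, hsq⟩ : r * q * r⁻¹ ∈ (P : Subgroup (C ⧸ cenC S)) := by
    rw [← hr, Sylow.coe_subgroup_smul, ← Grp.map_conj_eq_smul]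
    exact ⟨q, hT (mem_zpowers q), rfl⟩
  have hsA : (s : G) ∉ cen S := fun hh => by
    have h1 : f s = 1 := (QuotientGroup.eq_one_iff s).2 hh
    rw [hsq] at h1
    rw [conj_eq_one_iff.1 h1, orderOf_one] at hq
    omega
  set H := (centralizer ({f s} : Set (C ⧸ cenC S))).comap f
  have hHc : ∀ x ∈ H, x * s * x⁻¹ * s⁻¹ ∈ cenC S := fun x hx => by
    rw [← QuotientGroup.eq_one_iff]
    show f (x * s * x⁻¹ * s⁻¹) = 1
    simp only [map_mul, map_inv]
    rw [mem_centralizer_singleton_iff.1 hx]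
    group
  let δ : H →* cenC S :=
    { toFun := fun x => ⟨(x : C) * s * (x : C)⁻¹ * s⁻¹, hHc x x.2⟩
      map_one' := Subtype.ext (by simp)
      map_mul' := fun x y => Subtype.ext (by
        show (x : C) * y * s * ((x : C) * y)⁻¹ * s⁻¹ = (x : C) * s * (x : C)⁻¹ * s⁻¹ * ((y : C) * s * (y : C)⁻¹ * s⁻¹)
        have h1 := cenC_central (hHc y y.2) (x : C)
        calc (x : C) * y * s * ((x : C) * y)⁻¹ * s⁻¹
            = (x : C) * ((y : C) * s * (y : C)⁻¹ * s⁻¹) * (s * (x : C)⁻¹ * s⁻¹) := by group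
          _ = (y : C) * s * (y : C)⁻¹ * s⁻¹ * (x : C) * (s * (x : C)⁻¹ * s⁻¹) := by rw [h1]
          _ = (y : C) * s * (y : C)⁻¹ * s⁻¹ * ((x : C) * s * (x : C)⁻¹ * s⁻¹) := by group
          _ = _ := cenC_central (hHc x x.2) _ ▸ rfl) }
  haveI : Group.IsSolvable δ.ker := by
    haveI hcs : Group.IsSolvable ↥(centralizer (cen S : Set G) ⊓ centralizer ({(s : G)} : Set G)) :=
      cent_solvable hS hs hsA
    refine Group.isSolvable_of_isSolvable_injective
      (f := ((C.subtype.comp H.subtype).comp δ.ker.subtype).codRestrict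
        (centralizer (cen S : Set G) ⊓ centralizer ({(s : G)} : Set G)) fun x => ⟨((x : H) : C).2, ?_⟩)
      (fun x y e => Subtype.ext (Subtype.ext (Subtype.ext (congrArg Subtype.val e :))))
    have h1 : ((x : H) : C) * s * ((x : H) : C)⁻¹ * s⁻¹ = 1 := congrArg Subtype.val (MonoidHom.mem_ker.1 x.2)
    exact mem_centralizer_singleton_iff.2
      (congrArg Subtype.val (mul_inv_eq_iff_eq_mul.1 (mul_inv_eq_one.1 h1)))
  haveI : Group.IsSolvable (cenC S) :=
    Group.isSolvable_of_comm fun a b => Subtype.ext (cenC_central b.2 (a : C))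
  haveI : Group.IsSolvable (H ⧸ δ.ker) :=
    Group.isSolvable_of_isSolvable_injective (f := QuotientGroup.kerLift δ) (QuotientGroup.kerLift_injective δ)
  have hH : Group.IsSolvable H := (Group.isSolvable_iff_subgroup_quotient δ.ker).2 ⟨inferInstance, inferInstance⟩
  haveI : Group.IsSolvable ↥(centralizer ({f s} : Set (C ⧸ cenC S))) := by
    rw [← Subgroup.map_comap_eq_self_of_surjective hf (centralizer ({f s} : Set (C ⧸ cenC S)))]
    exact Grp.isSolvable_map hH _
  refine Group.isSolvable_of_isSolvable_injective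
    (f := ((MulAut.conj r).toMonoidHom.comp (centralizer ({q} : Set (C ⧸ cenC S))).subtype).codRestrict
      (centralizer ({f s} : Set (C ⧸ cenC S))) fun x => ?_)
    (fun x y e => Subtype.ext ((MulAut.conj r).injective (congrArg Subtype.val e :)))
  refine mem_centralizer_singleton_iff.2 ?_
  rw [hsq]
  show r * (x : C ⧸ cenC S) * r⁻¹ * (r * q * r⁻¹) = r * q * r⁻¹ * (r * (x : C ⧸ cenC S) * r⁻¹)
  calc r * (x : C ⧸ cenC S) * r⁻¹ * (r * q * r⁻¹) = r * ((x : C ⧸ cenC S) * q) * r⁻¹ := by group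
    _ = r * (q * x) * r⁻¹ := by rw [mem_centralizer_singleton_iff.1 x.2]
    _ = _ := by group

/-- The involutions of `PSL(2, q)` form one class and there are two commuting ones. -/
theorem psl_facts {F : Type} [Field F] [Fintype F]
    (hF : ((Fintype.card F % 8 = 3 ∨ Fintype.card F % 8 = 5) ∧ 5 ≤ Fintype.card F) ∨
      (∃ n : ℕ, 2 ≤ n ∧ Fintype.card F = 2 ^ n)) :
    4 ∣ Nat.card (Matrix.ProjectiveSpecialLinearGroup (Fin 2) F) ∧
      ∀ x y : Matrix.ProjectiveSpecialLinearGroup (Fin 2) F, orderOf x = 2 → orderOf y = 2 → IsConj x y := by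
  classical
  rcases hF with ⟨hmod, -⟩ | ⟨n, hn, hq⟩
  · have hodd : Fintype.card F % 2 = 1 := by omega
    exact ⟨Invol.Core2.RankTwo.four_dvd_psl (Nat.odd_iff.2 hodd), fun x y hx hy => Fus.PSLTwo.involutions_conj hodd hx hy⟩
  haveI : Fact (Nat.Prime 2) := ⟨Nat.prime_two⟩
  haveI : CharP F 2 := by
    obtain ⟨p, hp⟩ := CharP.exists F
    haveI := hp
    obtain ⟨m, hpr, hm⟩ := FiniteField.card F p
    rw [hq] at hm
    have h2 : p ∣ 2 ^ n := hm ▸ dvd_pow_self p m.ne_zero
    rwa [← (Nat.prime_dvd_prime_iff_eq hpr Nat.prime_two).1 (hpr.dvd_of_dvd_pow h2)]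
  refine ⟨?_, ?_⟩
  · have h := Classical.natCard_PSL_mul (F := F) 2 (by norm_num)
    rw [Fus.PSLTwo.natCard_SL_two, Nat.card_units, Nat.card_eq_fintype_card (α := F)] at h
    have h4 : 4 ∣ Fintype.card F := by rw [hq]; exact pow_dvd_pow 2 hn
    have hg : Nat.gcd 2 (Fintype.card F - 1) = 1 := by
      obtain ⟨j, hj⟩ := h4
      have : 0 < Fintype.card F := Fintype.card_pos
      exact Nat.coprime_two_left.2 ⟨2 * j - 1, by omega⟩
    rw [hg, one_mul] at h
    rw [h]
    exact h4.mul_right _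
  · suffices key : ∀ z : Matrix.ProjectiveSpecialLinearGroup (Fin 2) F, orderOf z = 2 →
        ∃ A, Classical.slToPSL 2 F A = z ∧ orderOf A = 2 by
      intro x y hx hy
      obtain ⟨A, rfl, hA⟩ := key x hx
      obtain ⟨B, rfl, hB⟩ := key y hy
      exact (Classical.slToPSL 2 F).map_isConj (Block.AbTwo.SLTwo.isConj_involutions hA hB)
    intro z hz
    obtain ⟨A, rfl⟩ := Classical.slToPSL_surjective z
    refine ⟨A, rfl, orderOf_eq_prime ?_ fun e => ?_⟩
    · obtain ⟨c, hc⟩ := (Classical.slToPSL_pow_eq_one_iff A 2).1 (by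
        have := pow_orderOf_eq_one (Classical.slToPSL 2 F A)
        rwa [hz] at this)
      have hdet : c * c = 1 := by
        have h1 := congrArg Matrix.det hc
        rw [Matrix.det_pow, A.2, one_pow, Matrix.scalar_apply, Matrix.det_diagonal, Fin.prod_univ_two] at h1
        exact h1.symm
      have hc1 : c = 1 := CharTwo.sq_injective (R := F) (show c ^ 2 = 1 ^ 2 by rw [one_pow, pow_two, hdet])
      refine Subtype.ext ?_
      rw [Matrix.SpecialLinearGroup.coe_pow, hc, hc1, map_one, Matrix.SpecialLinearGroup.coe_one]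
    · rw [e, map_one, orderOf_one] at hz
      omega

/-- An odd element centralising `S` lies in the core of `C(A)` once `C(A) = O(C A) N(S)`. -/
theorem mem_dcore_of_cent
    (hcov : ∀ c ∈ centralizer (cen S : Set G), ∃ o ∈ dcore S, ∃ e ∈ normalizer ((S : Subgroup G) : Set G),
      e ∈ centralizer (cen S : Set G) ∧ c = o * e)
    {d : G} (hd : d ∈ centralizer ((S : Subgroup G) : Set G)) (ho : Odd (orderOf d)) : d ∈ dcore S := by
  haveI : Fact (Nat.Prime 2) := ⟨Nat.prime_two⟩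
  set C := centralizer ((S : Subgroup G) : Set G) with hC
  obtain ⟨P⟩ : Nonempty (Sylow 2 C) := inferInstance
  have hPc : ∀ p ∈ (P : Subgroup C), ∀ c : C, p * c = c * p := by
    intro p hp c
    have hp' : IsPGroup 2 ↥(zpowers (p : G)) := by
      obtain ⟨k, hk⟩ := P.isPGroup' ⟨p, hp⟩
      obtain ⟨j, -, hj⟩ := (Nat.dvd_prime_pow Nat.prime_two).1
        (orderOf_dvd_of_pow_eq_one (show (p : G) ^ 2 ^ k = 1 from
          congrArg (fun q : ↥(P : Subgroup C) => ((q : C) : G)) hk))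
      exact IsPGroup.of_card (n := j) (by rw [Nat.card_zpowers, hj])
    have hpS : (p : G) ∈ (S : Subgroup G) :=
      S.is_maximal' (hp'.to_sup_of_normal_right' S.isPGroup'
        (zpowers_le.2 (centralizer_le_normalizer _ (p : C).2))) le_sup_right ▸ mem_sup_left (mem_zpowers _)
    exact Subtype.ext (mem_centralizer_iff.1 c.2 (p : G) hpS)
  have hle : normalizer ((P : Subgroup C) : Set C) ≤ centralizer ((P : Subgroup C) : Set C) :=
    fun c _ => mem_centralizer_iff.2 fun p hp => hPc p hp c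
  set N := (MonoidHom.transferSylow P hle).ker with hN
  have hNodd : Odd (Nat.card N) := by
    rw [Nat.odd_iff, ← Nat.two_dvd_ne_zero]
    exact MonoidHom.not_dvd_card_ker_transferSylow P hle
  have hmem : ∀ y : C, Odd (orderOf y) → y ∈ N := fun y hy => by
    rw [hN, MonoidHom.mem_ker]
    obtain ⟨k, hk⟩ := IsPGroup.iff_orderOf.1 P.isPGroup' (MonoidHom.transferSylow P hle y)
    refine orderOf_eq_one_iff.1 ?_
    rw [hk]
    rcases k with _ | k
    · rfl
    · exact absurd (hy.of_dvd_nat (hk ▸ orderOf_map_dvd _ y))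
        (Nat.not_odd_iff_even.2 ⟨2 ^ k, by rw [pow_succ]; ring⟩)
  set N' := N.map C.subtype
  have hN'C : N' ≤ centralizer (cen S : Set G) := (map_subtype_le _).trans (centralizer_le cen_le)
  have hn : N' ≤ normalizer (dcore S : Set G) := fun y hy => mem_normalizer_iff.2 fun x =>
    ⟨dcore_conj (hN'C hy), fun hx => by simpa [mul_assoc] using dcore_conj (inv_mem (hN'C hy)) hx⟩
  refine le_dcore (N := N' ⊔ dcore S) (sup_le hN'C dcore_le) ?_ ?_
    (mem_sup_left ⟨⟨d, hd⟩, hmem _ (by rwa [Subgroup.orderOf_mk]), rfl⟩)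
  · intro c hc y hy
    obtain ⟨u, hu, w, hw, rfl⟩ : ∃ u ∈ N', ∃ w ∈ dcore S, u * w = y := by
      rw [← SetLike.mem_coe, coe_mul_of_left_le_normalizer_right _ _ hn] at hy
      exact hy
    obtain ⟨o, ho', e, heS, heC, rfl⟩ := hcov c hc
    obtain ⟨u, hu, rfl⟩ := hu
    have huC : e * (u : G) * e⁻¹ ∈ C := mem_centralizer_iff.2 fun s hs => by
      have hs' := (mem_normalizer_iff''.1 heS s).1 hs
      calc s * (e * (u : G) * e⁻¹) = e * (e⁻¹ * s * e * u) * e⁻¹ := by group
        _ = e * ((u : G) * (e⁻¹ * s * e)) * e⁻¹ := by rw [mem_centralizer_iff.1 u.2 _ hs']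
        _ = _ := by group
    have h1 : e * (u : G) * e⁻¹ ∈ N' := ⟨⟨_, huC⟩, hmem _ (by
      rw [← Subgroup.orderOf_coe, Invol.orderOf_conj_eq, Subgroup.orderOf_coe]
      exact hNodd.of_dvd_nat (N.orderOf_dvd_natCard hu)), rfl⟩
    rw [show o * e * (C.subtype u * w) * (o * e)⁻¹ = o * (e * (u : G) * e⁻¹) * o⁻¹ * (o * e * w * (o * e)⁻¹) by
      simp only [Subgroup.coe_subtype]; group]
    exact mul_mem (mul_mem (mul_mem (mem_sup_right ho') (mem_sup_left h1)) (inv_mem (mem_sup_right ho')))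
      (mem_sup_right (dcore_conj (mul_mem (dcore_le ho') heC) hw))
  · exact Odd.of_dvd_nat (Odd.mul (by rw [card_map_of_injective C.subtype_injective]; exact hNodd) dcore_odd)
      (Grp.card_sup_dvd_mul hn)

/-- `C(A) = O(C A) (N(S) ∩ C(A))`. -/
theorem cover_cen (hS : Shape ↥(S : Subgroup G)) :
    ∀ c ∈ centralizer (cen S : Set G), ∃ o ∈ dcore S, ∃ e ∈ normalizer ((S : Subgroup G) : Set G),
      e ∈ centralizer (cen S : Set G) ∧ c = o * e := by
  haveI : Fact (Nat.Prime 2) := ⟨Nat.prime_two⟩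
  set C := centralizer (cen S : Set G)
  set P₀ : Sylow 2 C := S.subtype (S_le (S := S))
  set f := QuotientGroup.mk' (cenC S)
  have hf : Function.Surjective f := QuotientGroup.mk'_surjective _
  haveI : (Cfsg.oddCore (C ⧸ cenC S)).Normal := Grp.pPrimeCore_isNormal
  set g₂ := QuotientGroup.mk' (Cfsg.oddCore (C ⧸ cenC S))
  set φ := g₂.comp f with hφdef
  have hφ : Function.Surjective φ := (QuotientGroup.mk'_surjective _).comp hf
  have hcomm : ∀ s s' : C, (s : G) ∈ (S : Subgroup G) → (s' : G) ∈ (S : Subgroup G) → f s * f s' = f s' * f s :=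
    fun s s' hs hs' => by
      have h1 : f (s * s' * s⁻¹ * s'⁻¹) = 1 := (QuotientGroup.eq_one_iff _).2 (comm_mem' hS hs hs')
      simp only [map_mul, map_inv] at h1
      exact mul_inv_eq_iff_eq_mul.1 (mul_inv_eq_one.1 h1)
  have hPab : IsMulCommutative ((Sylow.mapSurjective hf P₀ : Sylow 2 (C ⧸ cenC S)) : Subgroup (C ⧸ cenC S)) := by
    refine ⟨⟨?_⟩⟩
    rintro ⟨_, s, hs, rfl⟩ ⟨_, s', hs', rfl⟩
    exact Subtype.ext (hcomm s s' hs hs')
  -- the kernel is `O(C A) A`
  have hker : ∀ k : C, φ k = 1 → ∃ o ∈ dcore S, ∃ a ∈ cen S, (k : G) = o * a := by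
    intro k hk
    set K := φ.ker
    obtain ⟨P⟩ : Nonempty (Sylow 2 K) := inferInstance
    have hPA : ∀ p ∈ (P : Subgroup K), ((p : K) : C) ∈ cenC S := by
      intro p hp
      obtain ⟨j, hj⟩ := P.isPGroup' ⟨p, hp⟩
      have hpO : f (p : C) ∈ Cfsg.oddCore (C ⧸ cenC S) := (QuotientGroup.eq_one_iff _).1 p.2
      have hodd : Odd (orderOf (f (p : C))) :=
        (Nat.coprime_two_right.1 Grp.pPrimeCore_coprime).of_dvd_nat (Subgroup.orderOf_dvd_natCard _ hpO)
      have hpow : f (p : C) ^ 2 ^ j = 1 := by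
        rw [← map_pow, show ((p : C)) ^ 2 ^ j = 1 from congrArg (fun q : ↥(P : Subgroup K) => ((q : K) : C)) hj,
          map_one]
      have h1 : orderOf (f (p : C)) = 1 := by
        obtain ⟨l, -, hl⟩ := (Nat.dvd_prime_pow Nat.prime_two).1 (orderOf_dvd_of_pow_eq_one hpow)
        rcases l with _ | l
        · exact hl
        · exact absurd (hl ▸ hodd) (Nat.not_odd_iff_even.2 ⟨2 ^ l, by rw [pow_succ]; ring⟩)
      exact (QuotientGroup.eq_one_iff _).1 (orderOf_eq_one_iff.1 h1)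
    have hle : normalizer ((P : Subgroup K) : Set K) ≤ centralizer ((P : Subgroup K) : Set K) :=
      fun c _ => mem_centralizer_iff.2 fun p hp => Subtype.ext (cenC_central (hPA p hp) (c : C)).symm
    set N := (MonoidHom.transferSylow P hle).ker with hN
    have hNodd : Odd (Nat.card N) := by
      rw [Nat.odd_iff, ← Nat.two_dvd_ne_zero]
      exact MonoidHom.not_dvd_card_ker_transferSylow P hle
    have hcompl := MonoidHom.ker_transferSylow_isComplement' P hle
    have hmem : ∀ y : K, Odd (orderOf y) → y ∈ N := fun y hy => by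
      rw [hN, MonoidHom.mem_ker]
      obtain ⟨k, hk⟩ := IsPGroup.iff_orderOf.1 P.isPGroup' (MonoidHom.transferSylow P hle y)
      refine orderOf_eq_one_iff.1 ?_
      rw [hk]
      rcases k with _ | k
      · rfl
      · exact absurd (hy.of_dvd_nat (hk ▸ orderOf_map_dvd _ y))
          (Nat.not_odd_iff_even.2 ⟨2 ^ k, by rw [pow_succ]; ring⟩)
    have hdc : (N.map K.subtype).map C.subtype ≤ dcore S := by
      refine le_dcore (map_subtype_le _) ?_ (by
        rw [card_map_of_injective C.subtype_injective, card_map_of_injective K.subtype_injective]; exact hNodd)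
      rintro c hc _ ⟨_, ⟨y, hy, rfl⟩, rfl⟩
      refine ⟨_, ⟨⟨_, (MonoidHom.normal_ker φ).conj_mem (y : C) y.2 ⟨c, hc⟩⟩, hmem _ ?_, rfl⟩, rfl⟩
      rw [← Subgroup.orderOf_coe, Invol.orderOf_conj_eq, Subgroup.orderOf_coe]
      exact hNodd.of_dvd_nat (N.orderOf_dvd_natCard hy)
    obtain ⟨n, hn, p, hp, e⟩ :=
      mem_sup_of_normal_left.1 (hcompl.sup_eq_top ▸ mem_top (⟨k, hk⟩ : K))
    exact ⟨((n : C) : G), hdc ⟨_, ⟨n, hn, rfl⟩, rfl⟩, ((p : C) : G), hPA p hp,
      (congrArg (fun q : K => ((q : C) : G)) e).symm⟩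
  -- conjugate cosets have the same square
  have hsq : ∀ s s' : C, (s : G) ∈ (S : Subgroup G) → (s' : G) ∈ (S : Subgroup G) → IsConj (φ s) (φ s') →
      (s : G) * s = (s' : G) * s' := by
    intro s s' hs hs' hc
    obtain ⟨q, hq⟩ := isConj_iff.1 hc
    obtain ⟨g, rfl⟩ := hφ q
    obtain ⟨o, ho, a, ha, e⟩ := hker (s'⁻¹ * (g * s * g⁻¹)) (by
      rw [map_mul, map_mul, map_mul, map_inv, map_inv, hq, inv_mul_cancel])
    have hcs : ((g : G) * s * (g : G)⁻¹) * ((g : G) * s * (g : G)⁻¹) = (s : G) * s := by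
      rw [conj_sq, ← mem_centralizer_iff.1 g.2 _ (sq_mem' hS hs), mul_inv_cancel_right]
    have e' : (g : G) * s * (g : G)⁻¹ = (s' : G) * o * a := by
      have e2 : (s' : G)⁻¹ * ((g : G) * s * (g : G)⁻¹) = o * a := e
      rw [mul_assoc (s' : G) o a, ← e2, mul_inv_cancel_left]
    have hsq' : ((s' : G) * o * a) * ((s' : G) * o * a) =
        (s' : G) * s' * ((s' : G)⁻¹ * o * s' * o) := by
      have hac : a * ((s' : G) * o * a) = (s' : G) * o * a * a :=
        mem_centralizer_iff.1 ((centralizer (cen S : Set G)).mul_mem ((centralizer (cen S : Set G)).mul_mem s'.2 (dcore_le ho)) (cen_le_cent ha)) a ha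
      calc (s' : G) * o * a * ((s' : G) * o * a) = (s' : G) * o * (a * ((s' : G) * o * a)) := mul_assoc _ _ _
        _ = (s' : G) * o * ((s' : G) * o * a * a) := by rw [hac]
        _ = (s' : G) * o * ((s' : G) * o) * (a * a) := by group
        _ = _ := by rw [cen_sq' hS ha]; group
    rw [← hcs, e', hsq']
    have hx : (s' : G)⁻¹ * o * s' * o ∈ dcore S :=
      mul_mem (by simpa using dcore_conj (inv_mem s'.2) ho) ho
    have hxA : (s' : G)⁻¹ * o * s' * o ∈ cen S := by
      have h1 : (s : G) * s = (s' : G) * s' * ((s' : G)⁻¹ * o * s' * o) := by rw [← hcs, e', hsq']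
      have h2 : (s' : G)⁻¹ * o * s' * o = ((s' : G) * s')⁻¹ * ((s : G) * s) := by rw [h1]; group
      rw [h2]
      exact mul_mem (inv_mem (sq_mem' hS hs')) (sq_mem' hS hs)
    rw [eq_one_of_odd (cen_le hxA) (dcore_odd.of_dvd_nat (Subgroup.orderOf_dvd_natCard _ hx)), mul_one]
  have hO : Cfsg.pPrimeCore 2 ((C ⧸ cenC S) ⧸ Cfsg.oddCore (C ⧸ cenC S)) = ⊥ := by
    haveI : (Cfsg.pPrimeCore 2 (C ⧸ cenC S)).Normal := Grp.pPrimeCore_isNormal
    exact Grp.pPrimeCore_quotient_eq_bot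
  set Q := (C ⧸ cenC S) ⧸ Cfsg.oddCore (C ⧸ cenC S)
  set Pb : Sylow 2 Q := Sylow.mapSurjective hφ P₀
  rcases Cfsg.Agent.S3188.result (Sylow.mapSurjective hf P₀) hPab (quot_cent_solvable hS) with
    hsol | ⟨F, iF, iF', hF, N, hN, ⟨e⟩, -⟩
  · haveI := hsol
    haveI : Group.IsSolvable Q :=
      Group.isSolvable_of_surjective (f := g₂) (QuotientGroup.mk'_surjective _)
    have hPle : (Pb : Subgroup Q) ≤ Cfsg.pCore 2 Q := by
      refine le_trans (fun x hx => ?_) (Grp.centralizer_pCore_le hO)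
      refine mem_centralizer_iff.2 fun y hy => ?_
      obtain ⟨s, hs, rfl⟩ := hx
      obtain ⟨s', hs', rfl⟩ := Grp.pCore_le_sylow Pb hy
      show g₂ (f s') * g₂ (f s) = g₂ (f s) * g₂ (f s')
      rw [← map_mul g₂, hcomm s' s hs' hs, map_mul]
    have hPn : (Pb : Subgroup Q).Normal := by
      rw [le_antisymm hPle (Grp.pCore_le_sylow Pb)]
      exact Grp.pCore_isNormal
    set L := (Pb : Subgroup Q).comap φ
    haveI : L.Normal := hPn.comap φ
    have hSL : (P₀ : Subgroup C) ≤ L := fun s hs => ⟨s, hs, rfl⟩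
    intro c hc
    obtain ⟨n, hn, l, hl, e⟩ :=
      mem_sup_of_normal_right.1 ((Sylow.normalizer_sup_eq_top' P₀ hSL).symm ▸ mem_top (⟨c, hc⟩ : C)⁻¹)
    obtain ⟨s, hs, hsl⟩ := hl
    obtain ⟨o, ho, a, ha, e'⟩ := hker (l * s⁻¹) (by
      rw [map_mul, map_inv, hsl, mul_inv_cancel])
    have hnS : (n : G) ∈ normalizer ((S : Subgroup G) : Set G) := by
      refine mem_normalizer_iff.2 fun x => ⟨fun hx => ?_, fun hx => ?_⟩
      · exact (mem_normalizer_iff.1 hn ⟨x, S_le hx⟩).1 hx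
      · have hxC : x ∈ C := by
          have := (centralizer (cen S : Set G)).mul_mem ((centralizer (cen S : Set G)).mul_mem
            ((centralizer (cen S : Set G)).inv_mem n.2) (S_le hx)) n.2
          simpa [mul_assoc] using this
        exact (mem_normalizer_iff.1 hn ⟨x, hxC⟩).2 hx
    have h1 : (c : G)⁻¹ = (n : G) * o * (a * (s : G)) := by
      have h2 := congrArg Subtype.val e
      have h3 : (l : G) = o * a * (s : G) := by
        rw [← e']
        show _ = (l : G) * (s : G)⁻¹ * (s : G)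
        rw [inv_mul_cancel_right]
      simp only [Subgroup.coe_mul, InvMemClass.coe_inv] at h2
      rw [← h2, h3]
      group
    refine ⟨(a * (s : G))⁻¹ * o⁻¹ * (a * (s : G)), ?_, (a * (s : G))⁻¹ * (n : G)⁻¹, ?_, ?_, ?_⟩
    · simpa using dcore_conj ((centralizer (cen S : Set G)).inv_mem
        ((centralizer (cen S : Set G)).mul_mem (cen_le_cent ha) s.2)) (inv_mem ho)
    · exact mul_mem (inv_mem (le_normalizer (mul_mem (cen_le ha) hs))) (inv_mem hnS)
    · exact (centralizer (cen S : Set G)).mul_mem ((centralizer (cen S : Set G)).inv_mem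
        ((centralizer (cen S : Set G)).mul_mem (cen_le_cent ha) s.2)) ((centralizer (cen S : Set G)).inv_mem n.2)
    · rw [← inv_inv c, h1]
      group
  · exfalso
    letI := iF; letI := iF'
    obtain ⟨h4, hconj⟩ := psl_facts hF
    let ι : Matrix.ProjectiveSpecialLinearGroup (Fin 2) F →* Q := N.subtype.comp e.symm.toMonoidHom
    have hι : Function.Injective ι := N.subtype_injective.comp e.symm.injective
    obtain ⟨T⟩ : Nonempty (Sylow 2 (Matrix.ProjectiveSpecialLinearGroup (Fin 2) F)) := inferInstance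
    obtain ⟨Y, hY⟩ := (T.isPGroup'.map ι).exists_le_sylow
    obtain ⟨r, hr⟩ := MulAction.exists_smul_eq Q Y Pb
    have hin : ∀ x ∈ (T : Subgroup (Matrix.ProjectiveSpecialLinearGroup (Fin 2) F)), ∃ s : C, (s : G) ∈ (S : Subgroup G) ∧ φ s = r * ι x * r⁻¹ := by
      intro x hx
      obtain ⟨s, hs, hsx⟩ : r * ι x * r⁻¹ ∈ (Pb : Subgroup Q) := by
        rw [← hr, Sylow.coe_subgroup_smul, ← Grp.map_conj_eq_smul]
        exact ⟨_, hY ⟨x, hx, rfl⟩, rfl⟩
      exact ⟨s, hs, hsx⟩
    have hex : ∀ x ∈ (T : Subgroup (Matrix.ProjectiveSpecialLinearGroup (Fin 2) F)), x ≠ 1 → orderOf x = 2 := by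
      intro x hx hx1
      obtain ⟨s, hs, hsx⟩ := hin x hx
      refine orderOf_eq_prime (hι ?_) hx1
      have h2 : φ (s * s) = 1 := by
        show g₂ (f (s * s)) = 1
        rw [show f (s * s) = 1 from (QuotientGroup.eq_one_iff _).2 (sq_mem' hS hs), map_one]
      rw [map_mul, hsx, conj_sq] at h2
      rw [map_one, pow_two, map_mul]
      exact conj_eq_one_iff.1 h2
    have hTcard : 4 ≤ Nat.card (T : Subgroup (Matrix.ProjectiveSpecialLinearGroup (Fin 2) F)) := Nat.le_of_dvd Nat.card_pos (by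
      have := T.pow_dvd_card_of_pow_dvd_card (n := 2) (by simpa using h4)
      simpa using this)
    obtain ⟨x, hx, hx1⟩ : ∃ x ∈ (T : Subgroup (Matrix.ProjectiveSpecialLinearGroup (Fin 2) F)), x ≠ 1 := by
      by_contra hno
      push Not at hno
      rw [Subgroup.card_eq_one.2 ((eq_bot_iff_forall _).2 hno)] at hTcard
      omega
    obtain ⟨y, hy, hy1, hyx⟩ : ∃ y ∈ (T : Subgroup (Matrix.ProjectiveSpecialLinearGroup (Fin 2) F)), y ≠ 1 ∧ y ≠ x := by
      by_contra hno
      push Not at hno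
      have h2 : ((T : Subgroup (Matrix.ProjectiveSpecialLinearGroup (Fin 2) F)) :
          Set (Matrix.ProjectiveSpecialLinearGroup (Fin 2) F)) ⊆ {1, x} := fun z hz => by
        by_cases hz1 : z = 1
        · exact Or.inl hz1
        · exact Or.inr (hno z hz hz1)
      have h3 := (Set.ncard_le_ncard h2 (Set.toFinite _)).trans (Set.ncard_insert_le _ _)
      rw [Set.ncard_singleton] at h3
      exact absurd (hTcard.trans h3) (by omega)
    have hxy1 : x * y ≠ 1 := fun e' => hyx (by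
      rw [eq_inv_of_mul_eq_one_right e']
      exact inv_eq_of_mul_eq_one_right (by have := pow_orderOf_eq_one x; rwa [hex x hx hx1, pow_two] at this))
    obtain ⟨s₁, hs₁, e₁⟩ := hin x hx
    obtain ⟨s₂, hs₂, e₂⟩ := hin y hy
    have hcj : ∀ z w : Matrix.ProjectiveSpecialLinearGroup (Fin 2) F, IsConj z w →
        IsConj (r * ι z * r⁻¹) (r * ι w * r⁻¹) := fun z w hzw =>
      ((MulAut.conj r).toMonoidHom.comp ι).map_isConj hzw
    have e₃ : φ (s₁ * s₂) = r * ι (x * y) * r⁻¹ := by rw [map_mul, e₁, e₂, map_mul]; group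
    have q₂ := hsq s₁ s₂ hs₁ hs₂ (by
      rw [e₁, e₂]; exact hcj _ _ (hconj x y (hex x hx hx1) (hex y hy hy1)))
    have q₃ := hsq (s₁ * s₂) s₁ (mul_mem hs₁ hs₂) hs₁ (by
      rw [e₁, e₃]; exact hcj _ _ (hconj _ x (hex _ (mul_mem hx hy) hxy1) (hex x hx hx1)))
    have hnc : ∀ {z : Matrix.ProjectiveSpecialLinearGroup (Fin 2) F} {s : C} (hs : (s : G) ∈ (S : Subgroup G)),
        φ s = r * ι z * r⁻¹ → z ≠ 1 → (⟨(s : G), hs⟩ : ↥(S : Subgroup G)) ∉ center ↥(S : Subgroup G) := by
      intro z s hs es hz hh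
      refine hz (hι ?_)
      have h1 : φ s = 1 := by
        show g₂ (f s) = 1
        rw [show f s = 1 from (QuotientGroup.eq_one_iff _).2 ((mem_cen hs).2 hh), map_one]
      rw [es] at h1
      rw [map_one]
      exact conj_eq_one_iff.1 h1
    exact Lines.no_line hS (hnc hs₁ e₁ hx1) (hnc hs₂ e₂ hy1) (Subtype.ext q₂) (Subtype.ext q₃)

/-- The action of `N(S) ∩ C(A)` on `S`. -/
def act (S : Sylow 2 G) :
    ↥(normalizer ((S : Subgroup G) : Set G) ⊓ centralizer (cen S : Set G)) →* MulAut ↥(S : Subgroup G) :=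
  (S : Subgroup G).normalizerMonoidHom.comp (inclusion inf_le_left)

theorem act_coe (e : ↥(normalizer ((S : Subgroup G) : Set G) ⊓ centralizer (cen S : Set G)))
    (t : ↥(S : Subgroup G)) : (act S e t : G) = (e : G) * t * (e : G)⁻¹ := rfl

theorem act_fix (e : ↥(normalizer ((S : Subgroup G) : Set G) ⊓ centralizer (cen S : Set G)))
    {t : ↥(S : Subgroup G)} (ht : t ∈ center ↥(S : Subgroup G)) : act S e t = t := by
  refine Subtype.ext ?_
  rw [act_coe, ← mem_centralizer_iff.1 e.2.2 _ ((mem_cen t.2).2 ht), mul_inv_cancel_right]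

/-- The elements of `N(S) ∩ C(A)` trivial on `S/A`. -/
def modTriv (hS : Shape ↥(S : Subgroup G)) :
    Subgroup ↥(normalizer ((S : Subgroup G) : Set G) ⊓ centralizer (cen S : Set G)) where
  carrier := {e | Lines.TrivMod (act S) e}
  one_mem' t := by rw [map_one, MulAut.one_apply, mul_inv_cancel]; exact one_mem _
  mul_mem' {a b} ha hb t := by
    rw [map_mul, MulAut.mul_apply]
    have := mul_mem (ha (act S b t)) (hb t)
    simpa [mul_assoc] using this
  inv_mem' {a} ha t := by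
    have := inv_mem (ha (act S a⁻¹ t))
    rwa [← MulAut.mul_apply, ← map_mul, mul_inv_cancel, map_one, MulAut.one_apply, mul_inv_rev, inv_inv] at this

theorem mem_modTriv {hS : Shape ↥(S : Subgroup G)}
    {e : ↥(normalizer ((S : Subgroup G) : Set G) ⊓ centralizer (cen S : Set G))} :
    e ∈ modTriv hS ↔ Lines.TrivMod (act S) e := Iff.rfl

theorem S_mem_modTriv {hS : Shape ↥(S : Subgroup G)}
    {e : ↥(normalizer ((S : Subgroup G) : Set G) ⊓ centralizer (cen S : Set G))}
    (he : (e : G) ∈ (S : Subgroup G)) : e ∈ modTriv hS := fun t =>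
  (mem_cen (act S e t * t⁻¹).2).1 (by
    show (act S e t : G) * (t : G)⁻¹ ∈ cen S
    rw [act_coe]
    exact comm_mem' hS he t.2)

/-- An odd element trivial on `S/A` centralises `S`. -/
theorem cent_of_odd {hS : Shape ↥(S : Subgroup G)}
    {e : ↥(normalizer ((S : Subgroup G) : Set G) ⊓ centralizer (cen S : Set G))}
    (he : e ∈ modTriv hS) (ho : Odd (orderOf (e : G))) : (e : G) ∈ centralizer ((S : Subgroup G) : Set G) := by
  refine mem_of_sq_pow (mem_centralizer_iff.2 fun t ht => ?_) ho (by rw [pow_orderOf_eq_one]; exact one_mem _)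
  have h1 : act S e (act S e ⟨t, ht⟩) = ⟨t, ht⟩ :=
    Lines.sq_fixed hS _ (fun z hz => act_fix e hz) (he ⟨t, ht⟩)
  have h2 := congrArg Subtype.val h1
  simp only [act_coe] at h2
  have h3 : (e : G) ^ 2 * t * ((e : G) ^ 2)⁻¹ = t := by
    rw [pow_two, show (e : G) * e * t * ((e : G) * e)⁻¹ = e * (e * t * (e : G)⁻¹) * (e : G)⁻¹ by group]
    exact h2
  exact (mul_inv_eq_iff_eq_mul.1 h3).symm

/-- An element trivial on `S/A` lies in `O(C A) S`. -/
theorem split_modTriv {hS : Shape ↥(S : Subgroup G)}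
    {e : ↥(normalizer ((S : Subgroup G) : Set G) ⊓ centralizer (cen S : Set G))}
    (he : e ∈ modTriv hS) : ∃ d ∈ dcore S, ∃ s ∈ (S : Subgroup G), (e : G) = d * s := by
  haveI : Fact (Nat.Prime 2) := ⟨Nat.prime_two⟩
  obtain ⟨k, m, hm, hkm⟩ := Nat.exists_eq_two_pow_mul_odd (orderOf_pos (e : G)).ne'
  have hcop : (2 ^ k : ℕ).Coprime m := (Nat.coprime_two_left.2 hm).pow_left k
  have hbez := Nat.gcd_eq_gcd_ab (2 ^ k) m
  rw [hcop] at hbez
  have hs : (e : G) ^ m ∈ (S : Subgroup G) := by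
    have hp : IsPGroup 2 ↥(zpowers ((e : G) ^ m)) := by
      obtain ⟨l, -, hl⟩ := (Nat.dvd_prime_pow Nat.prime_two).1 (orderOf_dvd_of_pow_eq_one
        (show ((e : G) ^ m) ^ 2 ^ k = 1 by rw [← pow_mul, mul_comm, ← hkm, pow_orderOf_eq_one]))
      exact IsPGroup.of_card (n := l) (by rw [Nat.card_zpowers, hl])
    have hle := S.is_maximal' (hp.to_sup_of_normal_right' S.isPGroup' (zpowers_le.2 (pow_mem e.2.1 m))) le_sup_right
    exact (SetLike.ext_iff.1 hle _).1 (mem_sup_left (mem_zpowers _))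
  have hod : Odd (orderOf ((e : G) ^ 2 ^ k)) := hm.of_dvd_nat (orderOf_dvd_of_pow_eq_one (by
    rw [← pow_mul, ← hkm, pow_orderOf_eq_one]))
  have hd : (e : G) ^ 2 ^ k ∈ dcore S := by
    refine mem_dcore_of_cent (cover_cen hS) ?_ hod
    exact cent_of_odd (e := e ^ 2 ^ k) (pow_mem he _) (by simpa using hod)
  refine ⟨_, zpow_mem hd (Nat.gcdA (2 ^ k) m), _, zpow_mem hs (Nat.gcdB (2 ^ k) m), ?_⟩
  rw [← zpow_natCast (e : G) (2 ^ k), ← zpow_natCast (e : G) m, ← zpow_mul, ← zpow_mul, ← zpow_add, ← hbez,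
    Nat.cast_one, zpow_one]

theorem dcore_le_core (hS : Shape ↥(S : Subgroup G)) {t : G} (ht : t ∈ cen S) (ht1 : t ≠ 1) :
    dcore S ≤ Cfsg.centralizerPPrimeCore 2 t := by
  set K := Cfsg.centralizerPPrimeCore 2 t
  have hdC : dcore S ≤ centralizer ({t} : Set G) :=
    dcore_le.trans (centralizer_le (Set.singleton_subset_iff.2 ht))
  have hn : dcore S ≤ normalizer (K : Set G) := hdC.trans (centralizer_le_normalizer_core t)
  refine le_sup_left.trans (le_core (N := dcore S ⊔ K) (sup_le hdC (centralizerCore_le t)) ?_ ?_)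
  · intro c hc y hy
    obtain ⟨d, hd, k, hk, rfl⟩ : ∃ d ∈ dcore S, ∃ k ∈ K, d * k = y := by
      rw [← SetLike.mem_coe, coe_mul_of_left_le_normalizer_right _ _ hn] at hy
      exact hy
    obtain ⟨k₀, hk₀, e, he, rfl⟩ := cover hS ht ht1 hc
    have hcK : k₀ * e * k * (k₀ * e)⁻¹ ∈ K := core_conj hc hk
    have hed : e * d * e⁻¹ ∈ dcore S := dcore_conj he hd
    rw [show k₀ * e * (d * k) * (k₀ * e)⁻¹ = k₀ * (e * d * e⁻¹) * k₀⁻¹ * (k₀ * e * k * (k₀ * e)⁻¹) by group]
    exact mul_mem (mul_mem (mul_mem (mem_sup_right hk₀) (mem_sup_left hed)) (inv_mem (mem_sup_right hk₀)))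
      (mem_sup_right hcK)
  · exact Odd.of_dvd_nat (dcore_odd.mul (centralizerCore_odd t)) (Grp.card_sup_dvd_mul hn)

/-- If `N(S) ∩ C(A)` is trivial on `S/A`, all centralisers of involutions have normal 2-complements. -/
theorem modTriv_ne_top (hS : Shape ↥(S : Subgroup G)) [IsSimpleGroup G] {z : G} (hz : z ∈ cen S) (hz1 : z ≠ 1) :
    modTriv hS ≠ ⊤ := by
  intro htop
  haveI : Fact (Nat.Prime 2) := ⟨Nat.prime_two⟩
  set C := centralizer ({z} : Set G)
  set K := Cfsg.centralizerPPrimeCore 2 z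
  have hdec : ∀ c ∈ C, ∃ k ∈ K, ∃ s ∈ (S : Subgroup G), c = k * s := by
    intro c hc
    obtain ⟨k, hk, d, hd, rfl⟩ := cover hS hz hz1 hc
    obtain ⟨o, ho, e, heS, heC, rfl⟩ := cover_cen hS d hd
    obtain ⟨o', ho', s, hs, he⟩ := split_modTriv (htop ▸ mem_top (⟨e, heS, heC⟩ :
      ↥(normalizer ((S : Subgroup G) : Set G) ⊓ centralizer (cen S : Set G))) : _ ∈ modTriv hS)
    refine ⟨k * (o * o'), mul_mem hk (dcore_le_core hS hz hz1 (mul_mem ho ho')), s, hs, ?_⟩
    rw [show e = o' * s from he]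
    group
  haveI hn : (K.subgroupOf C).Normal := ⟨fun y hy c => core_conj c.2 hy⟩
  have hnpcz : Cfsg.HasNormalPComplement 2 ↥C := by
    refine hasNormalPComplement_iff_exists.2 ⟨K.subgroupOf C, hn, ?_, ?_⟩
    · rw [Nat.card_congr (subgroupOfEquivOfLe (centralizerCore_le z)).toEquiv]
      exact Nat.two_dvd_ne_zero.2 (Nat.odd_iff.1 (centralizerCore_odd z))
    · have hp : IsPGroup 2 (C ⧸ K.subgroupOf C) := by
        intro q
        obtain ⟨c, rfl⟩ := QuotientGroup.mk_surjective q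
        obtain ⟨k, hk, s, hs, e⟩ := hdec c c.2
        obtain ⟨j, hj⟩ := S.isPGroup' ⟨s, hs⟩
        refine ⟨j, ?_⟩
        have hsC : s ∈ C := Hyp.le_cent hz hs
        have h1 : (c : C ⧸ K.subgroupOf C) = ((⟨s, hsC⟩ : C) : C ⧸ K.subgroupOf C) := by
          refine QuotientGroup.eq.2 (mem_subgroupOf.2 ?_)
          show (c : G)⁻¹ * s ∈ K
          rw [e, show (k * s)⁻¹ * s = s⁻¹ * k⁻¹ * s by group]
          simpa using core_conj (inv_mem hsC) (inv_mem hk)
        rw [h1, ← QuotientGroup.mk_pow, QuotientGroup.eq_one_iff]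
        show (⟨s, hsC⟩ : C) ^ 2 ^ j ∈ K.subgroupOf C
        rw [show (⟨s, hsC⟩ : C) ^ 2 ^ j = 1 from Subtype.ext (by
          rw [Subgroup.coe_pow]
          exact congrArg Subtype.val hj)]
        exact one_mem _
      obtain ⟨j, hj⟩ := IsPGroup.iff_card.1 hp
      exact ⟨j, by rw [index_eq_card, hj]⟩
  refine UnitaryFour.Hyp.false (S := S) ⟨hS, ?_, fun t ht => ?_⟩
  · refine ((inferInstance : (commutator G).Normal).eq_bot_or_eq_top).resolve_left fun e => not_comm hS ?_
    exact ⟨⟨fun a b => commutatorElement_eq_one_iff_mul_comm.1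
      (mem_bot.1 (e ▸ commutator_mem_commutator (mem_top a) (mem_top b)))⟩⟩
  obtain ⟨T, hT⟩ := (IsPGroup.of_card (p := 2) (n := 1) (G := zpowers t) (by
    rw [Nat.card_zpowers, ht, pow_one])).exists_le_sylow
  obtain ⟨g, hg⟩ := MulAction.exists_smul_eq G T S
  have hgS : g * t * g⁻¹ ∈ (S : Subgroup G) := by
    rw [← hg, Sylow.coe_subgroup_smul, ← Grp.map_conj_eq_smul]
    exact ⟨t, hT (mem_zpowers t), rfl⟩
  have ht2 : t * t = 1 := by rw [← pow_two, ← ht, pow_orderOf_eq_one]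
  have hu1 : g * t * g⁻¹ ≠ 1 := fun e => by
    rw [conj_eq_one_iff.1 e, orderOf_one] at ht
    omega
  obtain ⟨n, -, hn'⟩ := fused hS hz hz1 (mem_cen' hS hgS (by rw [conj_sq, ht2, mul_one, mul_inv_cancel])) hu1
  set x := g⁻¹ * n
  have hxt : x * z * x⁻¹ = t := by
    rw [show x * z * x⁻¹ = g⁻¹ * (n * z * n⁻¹) * g by simp only [x]; group, hn']
    group
  have hmap : C.map (MulAut.conj x).toMonoidHom = centralizer ({t} : Set G) := by
    ext y
    rw [Subgroup.mem_map_equiv, mem_centralizer_singleton_iff, mem_centralizer_singleton_iff,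
      MulAut.conj_symm_apply, ← hxt]
    constructor
    · intro h
      calc y * (x * z * x⁻¹) = x * (x⁻¹ * y * x * z) * x⁻¹ := by group
        _ = x * (z * (x⁻¹ * y * x)) * x⁻¹ := by rw [h]
        _ = _ := by group
    · intro h
      calc x⁻¹ * y * x * z = x⁻¹ * (y * (x * z * x⁻¹)) * x := by group
        _ = x⁻¹ * (x * z * x⁻¹ * y) * x := by rw [h]
        _ = _ := by group
  rw [← hmap]
  exact (hasNormalPComplement_congr (C.equivMapOfInjective _ (MulAut.conj x).injective)).1 hnpcz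

/-- The data for the character argument. -/
theorem exists_data [IsSimpleGroup G] (hS : Shape ↥(S : Subgroup G)) {z : G} (hz : z ∈ cen S) (hz1 : z ≠ 1) :
    ∃ x : G, UnitaryCore.Data S z x (Cfsg.centralizerPPrimeCore 2 z) (⊥ : Subgroup G) := by
  haveI : Fact (Nat.Prime 2) := ⟨Nat.prime_two⟩
  set E := normalizer ((S : Subgroup G) : Set G) ⊓ centralizer (cen S : Set G)
  have hSE : (S : Subgroup G) ≤ E := le_inf le_normalizer S_le
  have hodd : Odd (modTriv hS).index := by
    refine Odd.of_dvd_nat ?_ (index_dvd_of_le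
      (fun e he => S_mem_modTriv he : (S : Subgroup G).subgroupOf E ≤ modTriv hS))
    rw [Nat.odd_iff, ← Nat.two_dvd_ne_zero]
    exact fun hd => S.not_dvd_index (relIndex_mul_index hSE ▸ hd.mul_right _)
  obtain htop | ⟨h5, hfpf⟩ :=
    Lines.automiser hS (act S) (fun e _ hw => act_fix e hw) (modTriv hS) (fun _ => mem_modTriv) hodd
  · exact absurd htop (modTriv_ne_top hS hz hz1)
  obtain ⟨g, hg⟩ : ∃ g : E, g ∉ modTriv hS := by
    by_contra hno
    push Not at hno
    rw [show modTriv hS = ⊤ from eq_top_iff.2 fun e _ => hno e, index_top] at h5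
    omega
  haveI hnor : (modTriv hS).Normal := by
    refine ⟨fun k hk c => mem_modTriv.2 fun t => ?_⟩
    rw [map_mul, map_mul, MulAut.mul_apply, MulAut.mul_apply]
    set u := act S c⁻¹ t with hu
    have e : t = act S c u := by
      rw [hu, ← MulAut.mul_apply, ← map_mul, mul_inv_cancel, map_one, MulAut.one_apply]
    nth_rewrite 1 [e]
    rw [← map_inv (act S c) u, ← map_mul]
    exact (mem_center_map (act S c)).2 (hk u)
  haveI : Fact (Nat.Prime 5) := ⟨by norm_num⟩
  -- the 5-part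
  obtain ⟨k, m, hm, hkm⟩ := Nat.exists_eq_pow_mul_and_not_dvd (orderOf_pos (g : G)).ne' 5 (by norm_num)
  set x := g ^ m
  have hcl : ∀ e : E, e ^ 5 ∈ modTriv hS := fun e => by
    rw [← QuotientGroup.eq_one_iff, ← h5, index_eq_card, QuotientGroup.mk_pow]
    exact pow_card_eq_one'
  have hxM : x ∉ modTriv hS := fun hx => hg (by
    have hb := Nat.gcd_eq_gcd_ab m 5
    rw [show m.gcd 5 = 1 from ((Nat.Prime.coprime_iff_not_dvd (by norm_num)).2 hm).symm] at hb
    rw [← zpow_one g, show (1 : ℤ) = (m : ℤ) * Nat.gcdA m 5 + ((5 : ℕ) : ℤ) * Nat.gcdB m 5 by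
      rw [← hb, Nat.cast_one], zpow_add, zpow_mul, zpow_mul, zpow_natCast, zpow_natCast]
    exact mul_mem (zpow_mem hx _) (zpow_mem (hcl g) _))
  have hox : orderOf (x : G) ∣ 5 ^ k := orderOf_dvd_of_pow_eq_one (by
    rw [Subgroup.coe_pow, ← pow_mul, mul_comm, ← hkm, pow_orderOf_eq_one])
  obtain ⟨l, -, hl⟩ := (Nat.dvd_prime_pow (by norm_num)).1 hox
  have hzC : ∀ {w : G}, w ∈ centralizer (cen S : Set G) → w ∈ centralizer ({z} : Set G) := fun {w} hw =>
    centralizer_le (Set.singleton_subset_iff.2 hz) hw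
  refine ⟨(x : G), ⟨hS, hz, hz1, fun v hv hv1 => fused hS hz hz1 hv hv1, x.2.1, ⟨l, hl⟩, ?_,
    fun v hv => (mem_centralizer_iff.1 x.2.2 v hv).symm, ?_, centralizerCore_le z, centralizerCore_odd z,
    fun c hc y hy => core_conj hc hy, ?_, bot_le, ?_, ?_, ⟨1, one_mem _, ?_⟩, ?_⟩⟩
  · refine dcore_le_core hS hz hz1 (mem_dcore_of_cent (cover_cen hS) ?_ ?_)
    · have h1 : Odd (orderOf ((x ^ 5 : E) : G)) := by
        have h2 : Odd (5 ^ l) := (by decide : Odd 5).pow
        refine h2.of_dvd_nat ?_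
        rw [← hl, Subgroup.coe_pow]
        exact orderOf_pow_dvd 5
      simpa using cent_of_odd (hcl x) h1
    · have h2 : Odd (5 ^ l) := (by decide : Odd 5).pow
      exact h2.of_dvd_nat (hl ▸ orderOf_pow_dvd 5)
  · intro w hw hwA
    refine (mem_cen hw).2 (hfpf x hxM ⟨w, hw⟩ ((mem_cen (act S x ⟨w, hw⟩ * ⟨w, hw⟩⁻¹).2).1 ?_))
    exact hwA
  · intro c hc
    obtain ⟨k₀, hk₀, d, hd, rfl⟩ := cover hS hz hz1 hc
    obtain ⟨o, ho, e, heS, heC, rfl⟩ := cover_cen hS d hd
    set e' : E := ⟨e, heS, heC⟩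
    obtain ⟨i, hi⟩ : ∃ i : ℤ, e' * (x ^ i)⁻¹ ∈ modTriv hS := by
      haveI : Fact (Nat.Prime 5) := ⟨by norm_num⟩
      have hcard : Nat.card (E ⧸ modTriv hS) = 5 := by rw [← index_eq_card, h5]
      have hne : (x : E ⧸ modTriv hS) ≠ 1 := fun h1 => hxM ((QuotientGroup.eq_one_iff x).1 h1)
      obtain ⟨i, hi⟩ := mem_zpowers_iff.1
        ((zpowers_eq_top_of_prime_card hcard hne).symm ▸ mem_top (e' : E ⧸ modTriv hS) :
          (e' : E ⧸ modTriv hS) ∈ zpowers (x : E ⧸ modTriv hS))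
      refine ⟨i, ?_⟩
      rw [← QuotientGroup.eq_one_iff, QuotientGroup.mk_mul, QuotientGroup.mk_inv, QuotientGroup.mk_zpow, hi,
        mul_inv_cancel]
    obtain ⟨d', hd', s, hs, hds⟩ := split_modTriv hi
    refine ⟨k₀ * (o * d'), mul_mem hk₀ (dcore_le_core hS hz hz1 (mul_mem ho hd')), s * (x : G) ^ i,
      mul_mem (mem_sup_left hs) (mem_sup_right (zpow_mem (mem_zpowers _) i)), ?_⟩
    have h1 : e * ((x : G) ^ i)⁻¹ = d' * s := by
      rw [← hds]
      simp [e']
    rw [mul_inv_eq_iff_eq_mul] at h1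
    rw [h1]
    group
  · intro y hy y' hy'
    rw [mem_bot.1 hy, one_mul, mul_one]
  · intro c _ y hy
    rw [mem_bot] at hy ⊢
    rw [hy, mul_one, mul_inv_cancel]
  · intro y hy
    rw [mem_bot.1 hy]
    group
  · exact fun y hy _ => mem_bot.1 hy

end Cfsg.Agent.Transfer.UFLyons.Cover

namespace Cfsg.Agent.Transfer.UFLyons

universe u

/-- A simple group with a Sylow 2-subgroup of the shape of `PSU(3, 4)` has the data for the character argument,
with trivial `M`. -/
theorem exists_data {G : Type u} [Group G] [Finite G] [IsSimpleGroup G] {S : Sylow 2 G}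
    (hS : UnitaryFour.Shape ↥(S : Subgroup G)) {z : G} (hz : z ∈ UnitaryFour.cen S) (hz1 : z ≠ 1) :
    ∃ x : G, UnitaryCore.Data S z x (Cfsg.centralizerPPrimeCore 2 z) (⊥ : Subgroup G) :=
  Cover.exists_data hS hz hz1

/-- With trivial core and central `A` the Sylow 2-subgroup is normal. -/
theorem sylow_normal_of_central {G : Type u} [Group G] [Finite G] {S : Sylow 2 G}
    (hS : UnitaryFour.Shape ↥(S : Subgroup G)) (hc : UnitaryFour.cen S ≤ Subgroup.center G)
    (hO : Cfsg.oddCore G = ⊥) : (S : Subgroup G).Normal := by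
  have htop : ∀ g : G, g ∈ Subgroup.centralizer (UnitaryFour.cen S : Set G) := fun g =>
    Subgroup.mem_centralizer_iff.2 fun v hv => (Subgroup.mem_center_iff.1 (hc hv) g).symm
  have hd : Invol.G1Local.dcore S = ⊥ := by
    rw [eq_bot_iff, ← hO]
    exact Grp.le_pPrimeCore ⟨fun y hy g => Invol.G1Local.dcore_conj (htop g) hy⟩
      (Nat.coprime_two_right.2 Invol.G1Local.dcore_odd)
  refine Subgroup.normalizer_eq_top_iff.1 (eq_top_iff.2 fun g _ => ?_)
  obtain ⟨o, ho, e, he, -, rfl⟩ := Cover.cover_cen hS g (htop g)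
  rw [hd, Subgroup.mem_bot] at ho
  rwa [ho, one_mul]

end Cfsg.Agent.Transfer.UFLyons
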