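import Cfsg.Agent.Lib.Transfer.UFLyons.Assemble
import Cfsg.Agent.Lib.Transfer.UFLyons.Cover

/-!
# The character side, unconditionally
-/

set_option autoImplicit false

namespace Cfsg.Agent.Transfer.UFLyons

universe u

theorem hasData : HasData.{u} := fun _ _ _ _ _ hS _ hz hz1 => exists_data hS hz hz1

/-- What the local side of G1 asked for. -/
theorem coreLinear : Invol.G1Local.CoreLinear.{u} := coreLinear_of hasData

/-- The recognition theorem from the local side. -/
theorem main_of_coreNorm (hN : CoreNorm.{u}) : Main.{u} := main_of hasData hN

end Cfsg.Agent.Transfer.UFLyons
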