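import Cfsg.Agent.Lib.Transfer.UnitaryFour.Shape

/-!
# Squares in a Sylow 2-subgroup of `PSU(3, 4)` shape

The squares generate the centre, and no two elements outside the centre and their product have one
square: the quadratic map to the centre is anisotropic with values spread on every line.
-/

set_option autoImplicit false
set_option linter.unusedSectionVars false
set_option linter.style.haveILetI false

namespace Cfsg.Agent.Transfer.UFLyons

open Subgroup UnitaryFour

variable {T : Type*} [Group T]

/-- The commutator, in the centre. -/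
def cm (h : Shape T) (g k : T) : center T := ⟨g * k * g⁻¹ * k⁻¹, h.comm g k⟩

/-- The square, in the centre. -/
def sqc (h : Shape T) (g : T) : center T := ⟨g * g, h.sq g⟩

variable (h : Shape T)
include h

theorem center_mul_self (u : center T) : u * u = 1 := Subtype.ext (h.exp u u.2)

omit h in
theorem center_comm (u v : center T) : u * v = v * u := Subtype.ext (mem_center_iff.1 v.2 u)

theorem center_cancel (u v : center T) : u * v * u = v := by
  rw [center_comm u v, mul_assoc, center_mul_self h u, mul_one]

theorem cm_self (g : T) : cm h g g = 1 := Subtype.ext (by simp [cm])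

theorem cm_symm (g k : T) : cm h g k = cm h k g := by
  have e : cm h g k * cm h k g = 1 := Subtype.ext (by simp [cm, mul_assoc])
  calc cm h g k = cm h g k * (cm h k g * cm h k g) := by rw [center_mul_self h, mul_one]
    _ = cm h k g := by rw [← mul_assoc, e, one_mul]

theorem cm_mul_left (g k l : T) : cm h (g * k) l = cm h g l * cm h k l := by
  refine Subtype.ext ?_
  show g * k * l * (g * k)⁻¹ * l⁻¹ = g * l * g⁻¹ * l⁻¹ * (k * l * k⁻¹ * l⁻¹)
  have hz := mem_center_iff.1 (h.comm k l) (g * l * g⁻¹ * l⁻¹)
  rw [hz]
  have hz' := mem_center_iff.1 (h.comm k l) g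
  calc g * k * l * (g * k)⁻¹ * l⁻¹ = g * (k * l * k⁻¹ * l⁻¹) * (l * g⁻¹ * l⁻¹) := by group
    _ = (k * l * k⁻¹ * l⁻¹) * g * (l * g⁻¹ * l⁻¹) := by rw [hz']
    _ = _ := by group

theorem cm_mul_right (g k l : T) : cm h g (k * l) = cm h g k * cm h g l := by
  rw [cm_symm h g, cm_mul_left h, cm_symm h k g, cm_symm h l g]

theorem sqc_mul (g k : T) : sqc h (g * k) = cm h k g * sqc h g * sqc h k := by
  refine Subtype.ext ?_
  show g * k * (g * k) = k * g * k⁻¹ * g⁻¹ * (g * g) * (k * k)
  have hz := mem_center_iff.1 (h.comm k g) g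
  calc g * k * (g * k) = g * (k * g * k⁻¹ * g⁻¹) * (g * k * k) := by group
    _ = (k * g * k⁻¹ * g⁻¹) * g * (g * k * k) := by rw [hz]
    _ = _ := by group

theorem cm_eq_one_of_mem {g : T} (hg : g ∈ center T) (k : T) : cm h g k = 1 := by
  refine Subtype.ext ?_
  show g * k * g⁻¹ * k⁻¹ = 1
  rw [← mem_center_iff.1 hg k]
  group

theorem notMem_of_cm {g k : T} (hgk : cm h g k ≠ 1) : g ∉ center T := fun hg => hgk (cm_eq_one_of_mem h hg k)

theorem sqc_ne_one {g : T} (hg : g ∉ center T) : sqc h g ≠ 1 := fun e =>
  hg (h.inv g (congrArg Subtype.val e))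

theorem exists_cm {x : T} (hx : x ∉ center T) (v : center T) : ∃ g, cm h g x = v := by
  obtain ⟨g, hg⟩ := h.full x hx v v.2
  refine ⟨g, Subtype.ext ?_⟩
  show g * x * g⁻¹ * x⁻¹ = v
  rw [hg, mul_inv_cancel_right]

theorem center_cases (c d : center T) (hc : c ≠ 1) (hd : d ≠ 1) (hcd : d ≠ c) (v : center T) :
    v = 1 ∨ v = c ∨ v = d ∨ v = c * d := by
  classical
  haveI : Finite (center T) := Nat.finite_of_card_ne_zero (by rw [h.centre]; norm_num)
  letI : Fintype (center T) := Fintype.ofFinite _
  by_contra hno
  push Not at hno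
  obtain ⟨h1, h2, h3, h4⟩ := hno
  have e1 : c * d ≠ 1 := fun e => hcd (by
    calc d = c * c * d := by rw [center_mul_self h, one_mul]
      _ = c := by rw [mul_assoc, e, mul_one])
  have e2 : c * d ≠ c := fun e => hd (mul_eq_left.1 e)
  have e3 : c * d ≠ d := fun e => hc (mul_eq_right.1 e)
  have hs : ({v, 1, c, d, c * d} : Finset (center T)).card = 5 := by
    rw [Finset.card_insert_of_notMem (by simp [h1, h2, h3, h4]),
      Finset.card_insert_of_notMem (by simp [Ne.symm hc, Ne.symm hd, Ne.symm e1]),
      Finset.card_insert_of_notMem (by simp [Ne.symm hcd, Ne.symm e2]),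
      Finset.card_insert_of_notMem (by simp [Ne.symm e3]), Finset.card_singleton]
  have := Finset.card_le_univ ({v, 1, c, d, c * d} : Finset (center T))
  rw [← Nat.card_eq_fintype_card, h.centre, hs] at this
  omega

theorem exists_notMem_center : ∃ x : T, x ∉ center T := by
  by_contra hno
  push Not at hno
  have h1 := h.centre
  have htop : center T = ⊤ := eq_top_iff.2 fun x _ => hno x
  rw [htop, Subgroup.card_top, h.card] at h1
  omega

/-- The centre is generated by the squares. -/
theorem center_le_of_squares (H : Subgroup T) (hH : ∀ x : T, x * x ∈ H) : center T ≤ H := by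
  intro v hv
  obtain ⟨x, hx⟩ := exists_notMem_center h
  obtain ⟨g, hg⟩ := exists_cm h hx ⟨v, hv⟩
  have e := sqc_mul h x g
  have e2 : cm h g x = sqc h (x * g) * sqc h x * sqc h g := by
    rw [e]
    calc cm h g x = cm h g x * (sqc h x * sqc h x) * (sqc h g * sqc h g) := by
          rw [center_mul_self h, center_mul_self h, mul_one, mul_one]
      _ = _ := by
          simp only [← mul_assoc]
          rw [center_comm (cm h g x * sqc h x * sqc h x) (sqc h g)]
          simp only [← mul_assoc]
          rw [center_comm (sqc h g) (cm h g x)]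
          simp only [mul_assoc]
          rw [center_comm (sqc h x) (sqc h g)]
          simp only [← mul_assoc]
          rw [mul_assoc (cm h g x) (sqc h g) (sqc h x), center_comm (sqc h g) (sqc h x), ← mul_assoc]
  have e3 := congrArg Subtype.val (hg.symm.trans e2)
  simp only [Subgroup.coe_mul] at e3
  rw [e3]
  exact mul_mem (mul_mem (hH _) (hH _)) (hH _)

/-- There is no pair with one square for both elements and their product. -/
theorem no_line {x y : T} (hx : x ∉ center T) (hy : y ∉ center T) {c : center T} (hc : c ≠ 1)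
    (hxc : sqc h x = c) (hyc : sqc h y = c) (hxyc : sqc h (x * y) = c) : False := by
  classical
  haveI : Finite T := Nat.finite_of_card_ne_zero (by rw [h.card]; norm_num)
  have hyx : cm h y x = c := by
    rw [sqc_mul h, hxc, hyc, mul_assoc, center_mul_self h, mul_one] at hxyc
    exact hxyc
  have hxy : cm h x y = c := by rw [cm_symm h, hyx]
  have hxyn : x * y ∉ center T := notMem_of_cm h (k := y) (by
    rw [cm_mul_left h, hxy, cm_self h, mul_one]; exact hc)
  -- the elements `a` and `b`
  have key : ∀ p q : T, p ∉ center T → q ∉ center T → p * q ∉ center T → cm h p q = c → cm h q p = c →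
      ∃ a : T, cm h a p = 1 ∧ cm h a q ≠ 1 ∧ cm h a q ≠ c := by
    intro p q hp hq hpq hpqc hqpc
    by_contra hno
    push Not at hno
    have hno' : ∀ a, (cm h a p = 1 ∨ cm h a p = c) → (cm h a q = 1 ∨ cm h a q = c) := by
      rintro a (ha | ha)
      · by_cases h1 : cm h a q = 1
        · exact Or.inl h1
        · exact Or.inr (hno a ha h1)
      · have hap : cm h (a * q) p = 1 := by rw [cm_mul_left h, ha, hqpc, center_mul_self h]
        have haq : cm h (a * q) q = cm h a q := by rw [cm_mul_left h, cm_self h, mul_one]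
        by_cases h1 : cm h a q = 1
        · exact Or.inl h1
        · exact Or.inr (haq ▸ hno _ hap (haq.symm ▸ h1))
    obtain ⟨d, hd, hdc⟩ : ∃ d : center T, d ≠ 1 ∧ d ≠ c := by
      by_contra hn
      push Not at hn
      haveI : Fintype (center T) := Fintype.ofFinite _
      have : (Finset.univ : Finset (center T)) ⊆ {1, c} := fun v _ => by
        by_cases h1 : v = 1
        · simp [h1]
        · simp [hn v h1]
      have := Finset.card_le_card this
      rw [Finset.card_univ, ← Nat.card_eq_fintype_card, h.centre] at this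
      exact absurd (this.trans Finset.card_le_two) (by norm_num)
    obtain ⟨g, hg⟩ := exists_cm h hp d
    set In : center T → Prop := fun v => v = 1 ∨ v = c with hIn
    have hmul : ∀ u v, In u → In v → In (u * v) := by
      rintro u v (rfl | rfl) (rfl | rfl)
      · exact Or.inl (mul_one 1)
      · exact Or.inr (one_mul _)
      · exact Or.inr (mul_one _)
      · exact Or.inl (center_mul_self h _)
    have hdIn : ¬ In d := by
      rintro (e | e)
      · exact hd e
      · exact hdc e
    have hd2 : ∀ v : center T, ¬ In v → In (v * d) := fun v hv => by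
      rcases center_cases h c d hc hd hdc v with e | e | e | e
      · exact absurd (Or.inl e) hv
      · exact absurd (Or.inr e) hv
      · exact Or.inl (by rw [e, center_mul_self h])
      · exact Or.inr (by rw [e, mul_assoc, center_mul_self h, mul_one])
    have hred : ∀ k, ¬ In (cm h k p) → In (cm h (k * g) q) := fun k hk =>
      hno' _ (show In (cm h (k * g) p) by rw [cm_mul_left h, hg]; exact hd2 _ hk)
    by_cases hgq : In (cm h g q)
    · obtain ⟨k, hk⟩ := exists_cm h hq d
      by_cases hkp : In (cm h k p)
      · exact hdIn (hk ▸ hno' k hkp)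
      · have h1 := hmul _ _ (hred k hkp) hgq
        rw [cm_mul_left h, mul_assoc, center_mul_self h, mul_one, hk] at h1
        exact hdIn h1
    · obtain ⟨k, hk⟩ := exists_cm h hpq d
      rw [cm_mul_right h] at hk
      by_cases hkp : In (cm h k p)
      · exact hdIn (hk ▸ hmul _ _ hkp (hno' k hkp))
      · have h1 := hmul _ _ (hd2 _ hkp) (hred k hkp)
        have e : cm h k p * d * cm h (k * g) q = cm h g q := by
          rw [cm_mul_left h]
          calc cm h k p * d * (cm h k q * cm h g q) = cm h k p * (d * cm h k q) * cm h g q := by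
                simp only [mul_assoc]
            _ = (cm h k p * cm h k q) * d * cm h g q := by
                rw [center_comm d (cm h k q)]
                simp only [mul_assoc]
            _ = _ := by rw [hk, center_mul_self h, one_mul]
        exact hgq (e ▸ h1)
  obtain ⟨a, hax, hay, hayc⟩ := key x y hx hy hxyn hxy hyx
  have hyxn : y * x ∉ center T := notMem_of_cm h (k := x) (by
    rw [cm_mul_left h, hyx, cm_self h, mul_one]; exact hc)
  obtain ⟨b₀, hb₀y, hb₀x, hb₀xc⟩ := key y x hy hx hyxn hyx hxy
  set d := cm h a y with hd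
  have hdcc : c * d ≠ 1 := fun e => hayc (by
    calc d = c * c * d := by rw [center_mul_self h, one_mul]
      _ = c := by rw [mul_assoc, e, mul_one])
  -- choose `b` with the same value `d`
  obtain ⟨b, hby, hbx⟩ : ∃ b, cm h b y = 1 ∧ cm h b x = d := by
    rcases center_cases h c d hc hay hayc (cm h b₀ x) with e | e | e | e
    · exact absurd e hb₀x
    · exact absurd e hb₀xc
    · exact ⟨b₀, hb₀y, e⟩
    · refine ⟨b₀ * y, by rw [cm_mul_left h, hb₀y, cm_self h, mul_one], ?_⟩
      rw [cm_mul_left h, e, hyx, center_cancel h]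
  -- squares of `a`, `b` and `a * b`
  have pin : ∀ w p q : T, cm h w p = 1 → cm h w q = d → sqc h p = c → sqc h q = c → cm h p q = c →
      sqc h w = d := by
    intro w p q hwp hwq hp hq hpq
    have hw : w ∉ center T := notMem_of_cm h (k := q) (by rw [hwq]; exact hay)
    have h1 : sqc h (w * p) ≠ 1 := sqc_ne_one h (notMem_of_cm h (k := q) (by
      rw [cm_mul_left h, hwq, hpq, center_comm]; exact hdcc))
    rw [sqc_mul h, cm_symm h p w, hwp, one_mul, hp] at h1
    have h2 : sqc h (w * q) ≠ 1 := sqc_ne_one h (notMem_of_cm h (k := q) (by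
      rw [cm_mul_left h, hwq, cm_self h, mul_one]; exact hay))
    rw [sqc_mul h, cm_symm h q w, hwq, hq] at h2
    rcases center_cases h c d hc hay hayc (sqc h w) with e | e | e | e
    · exact absurd e (sqc_ne_one h hw)
    · exact absurd (by rw [e, center_mul_self h]) h1
    · exact e
    · refine absurd ?_ h2
      rw [e, center_comm c d, ← mul_assoc, center_mul_self h, one_mul, center_mul_self h]
  have ha2 : sqc h a = d := pin a x y hax rfl hxc hyc hxy
  have hb2 : sqc h b = d := pin b y x hby hbx hyc hxc hyx
  have hwy : cm h (a * b) y = d := by rw [cm_mul_left h, hby, mul_one, hd]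
  have hwx : cm h (a * b) x = d := by rw [cm_mul_left h, hax, one_mul, hbx]
  have hw2 : sqc h (a * b) = d := pin (a * b) (x * y) y (by rw [cm_mul_right h, hwx, hwy, center_mul_self h])
    hwy hxyc hyc (by rw [cm_mul_left h, hxy, cm_self h, mul_one])
  have hba : cm h b a = d := by
    rw [sqc_mul h, ha2, hb2, mul_assoc, center_mul_self h, mul_one] at hw2
    exact hw2
  -- every element
  let f : T →* center T × center T :=
    MonoidHom.mk' (fun g => (cm h g x, cm h g y)) fun g k => by
      simp only [cm_mul_left h, Prod.mk_mul_mk]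
  let H : Subgroup T :=
    { carrier := {g | cm h g a = 1 ∨ cm h g a = d}
      one_mem' := Or.inl (cm_eq_one_of_mem h (one_mem _) a)
      mul_mem' := fun {g k} hg hk => by
        show cm h (g * k) a = 1 ∨ cm h (g * k) a = d
        rw [cm_mul_left h]
        rcases hg with e | e <;> rcases hk with e' | e' <;> rw [e, e'] <;> simp [center_mul_self h]
      inv_mem' := fun {g} hg => by
        show cm h g⁻¹ a = 1 ∨ cm h g⁻¹ a = d
        have e : cm h g⁻¹ a * cm h g a = 1 := by
          rw [← cm_mul_left h, inv_mul_cancel, cm_eq_one_of_mem h (one_mem _)]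
        rcases hg with e' | e' <;> rw [e'] at e
        · exact Or.inl (by simpa using e)
        · refine Or.inr ?_
          calc cm h g⁻¹ a = cm h g⁻¹ a * (d * d) := by rw [center_mul_self h, mul_one]
            _ = d := by rw [← mul_assoc, e, one_mul] }
  have hxH : x ∈ H := Or.inl (by rw [cm_symm h, hax])
  have hyH : y ∈ H := Or.inr (by rw [cm_symm h, hd])
  have haH : a ∈ H := Or.inl (cm_self h a)
  have hbH : b ∈ H := Or.inr hba
  have hsurj : ∀ u v : center T, ∃ g ∈ H, f g = (u, v) := by
    have h1 : ∀ u, ∃ g ∈ H, cm h g x = u ∧ cm h g y = 1 := fun u => by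
      rcases center_cases h c d hc hay hayc u with rfl | rfl | rfl | rfl
      · exact ⟨1, one_mem _, cm_eq_one_of_mem h (one_mem _) _, cm_eq_one_of_mem h (one_mem _) _⟩
      · exact ⟨y, hyH, hyx, cm_self h y⟩
      · exact ⟨b, hbH, hbx, hby⟩
      · exact ⟨y * b, mul_mem hyH hbH, by rw [cm_mul_left h, hyx, hbx],
          by rw [cm_mul_left h, cm_self h, hby, one_mul]⟩
    have h2 : ∀ v, ∃ g ∈ H, cm h g x = 1 ∧ cm h g y = v := fun v => by
      rcases center_cases h c d hc hay hayc v with rfl | rfl | rfl | rfl
      · exact ⟨1, one_mem _, cm_eq_one_of_mem h (one_mem _) _, cm_eq_one_of_mem h (one_mem _) _⟩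
      · exact ⟨x, hxH, cm_self h x, hxy⟩
      · exact ⟨a, haH, hax, rfl⟩
      · exact ⟨x * a, mul_mem hxH haH, by rw [cm_mul_left h, cm_self h, hax, one_mul],
          by rw [cm_mul_left h, hxy, hd]⟩
    intro u v
    obtain ⟨g, hg, e1, e2⟩ := h1 u
    obtain ⟨k, hk, e3, e4⟩ := h2 v
    refine ⟨g * k, mul_mem hg hk, ?_⟩
    show (cm h (g * k) x, cm h (g * k) y) = (u, v)
    rw [cm_mul_left h, cm_mul_left h, e1, e2, e3, e4, mul_one, one_mul]
  have hle : center T ≤ f.ker := fun g hg => Prod.ext (cm_eq_one_of_mem h hg x) (cm_eq_one_of_mem h hg y)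
  have hcard : Nat.card f.ker = 4 := by
    have hr : f.range = ⊤ := eq_top_iff.2 fun uv _ => by
      obtain ⟨g, -, hg⟩ := hsurj uv.1 uv.2
      exact ⟨g, hg⟩
    have hi := f.ker.card_mul_index
    rw [Subgroup.index_ker, hr, Subgroup.card_top, Nat.card_prod, h.centre, h.card] at hi
    omega
  have heq : center T = f.ker := Subgroup.eq_of_le_of_card_ge hle (by rw [hcard, h.centre])
  obtain ⟨g, hg⟩ := exists_cm h (notMem_of_cm h (k := y) hay : a ∉ center T) c
  obtain ⟨k, hk, hfk⟩ := hsurj (f g).1 (f g).2
  have hgk : k⁻¹ * g ∈ center T := by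
    rw [heq, MonoidHom.mem_ker, map_mul, map_inv, hfk, inv_mul_cancel]
  have hgH : g ∈ H := by
    have hzH : k⁻¹ * g ∈ H := Or.inl (cm_eq_one_of_mem h hgk a)
    have := mul_mem hk hzH
    rwa [mul_inv_cancel_left] at this
  rcases hgH with e | e <;> rw [hg] at e
  · exact hc e
  · exact hayc e.symm

end Cfsg.Agent.Transfer.UFLyons
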