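import Cfsg.Agent.Lib.Transfer.UnitaryFour.Local
import Cfsg.Agent.Lib.Transfer.UFLyons.ShapeLine
import Cfsg.Agent.Lib.Transfer.NormalComplement
import Cfsg.Agent.Lib.Invol.GW.Consumers.AbelianSylow
import Cfsg.Agent.Lib.Invol.GW.Dihedral.ThreeDoneFinal
import Cfsg.Agent.Lib.Classical.PSLBinaryTorus
import Cfsg.Agent.Lib.Transfer.RankOneCor.Basic
import Cfsg.Agent.Lib.Invol.Sylow
import Cfsg.Agent.Lib.Grp.ZNGroups.Basic
import Cfsg.Agent.Lib.Grp.Solvable
import Cfsg.Agent.Lib.Classical.SLNormal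
import Cfsg.Agent.Lib.Classical.SLGroup
import Cfsg.Agent.Lib.Lie.SympWreath
import Cfsg.Agent.S0205

/-!
# A central centre and trivial core force a normal Sylow subgroup

Modulo the centre the Sylow subgroup is elementary of order 16 with solvable centralisers of involutions; a socle
`PSL₂` would give two commuting involutions conjugate to their product, so three cosets with one square.
-/

set_option autoImplicit false
set_option linter.unusedSectionVars false
set_option linter.style.haveILetI false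

namespace Cfsg.Agent.Transfer.UFLyons

open Subgroup UnitaryFour

universe u

variable {H : Type u} [Group H] [Finite H] {S : Sylow 2 H}

/-- In the centraliser of an element of order four outside the centre the 2-part is small, so it is solvable. -/
theorem solvable_centralizer_root (hS : Shape ↥(S : Subgroup H)) (hZ : cen S ≤ center H) [(cen S).Normal]
    {x : H} (hx : x ∈ (S : Subgroup H)) (hxc : x ∉ cen S) :
    Group.IsSolvable ↥(centralizer ({x} : Set H)) := by
  haveI : Fact (Nat.Prime 2) := ⟨Nat.prime_two⟩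
  set C := centralizer ({x} : Set H) with hC
  set K := (zpowers (QuotientGroup.mk' (cen S) x)).comap (QuotientGroup.mk' (cen S)) with hK
  have hq2 : QuotientGroup.mk' (cen S) x * QuotientGroup.mk' (cen S) x = 1 := by
    rw [← map_mul]
    exact (QuotientGroup.eq_one_iff _).2 ⟨_, hS.sq ⟨x, hx⟩, rfl⟩
  have hq1 : QuotientGroup.mk' (cen S) x ≠ 1 := fun e => hxc ((QuotientGroup.eq_one_iff _).1 e)
  have hqo : orderOf (QuotientGroup.mk' (cen S) x) = 2 := orderOf_eq_prime (by rw [pow_two, hq2]) hq1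
  have hKmem : ∀ g ∈ K, g ∈ cen S ∨ x⁻¹ * g ∈ cen S := by
    intro g hg
    obtain ⟨i, hi⟩ := mem_zpowers_iff.1 (mem_comap.1 hg)
    rcases Int.even_or_odd i with ⟨j, rfl⟩ | ⟨j, rfl⟩
    · refine Or.inl ((QuotientGroup.eq_one_iff _).1 (?_ : QuotientGroup.mk' (cen S) g = 1))
      rw [← hi, ← two_mul, zpow_mul, zpow_two, hq2, one_zpow]
    · refine Or.inr ((QuotientGroup.eq_one_iff _).1 (?_ : QuotientGroup.mk' (cen S) (x⁻¹ * g) = 1))
      rw [map_mul, map_inv, ← hi, zpow_add, zpow_mul, zpow_two, hq2, one_zpow, one_mul, zpow_one, inv_mul_cancel]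
  have hKC : K ≤ C := fun g hg => by
    refine mem_centralizer_singleton_iff.2 ?_
    rcases hKmem g hg with h | h
    · exact (mem_center_iff.1 (hZ h) x).symm
    · calc g * x = x * (x⁻¹ * g * x) := by group
        _ = x * (x * (x⁻¹ * g)) := by rw [mem_center_iff.1 (hZ h) x]
        _ = x * g := by group
  have hKcen : ∀ g ∈ K, ∀ c ∈ C, g * c = c * g := by
    intro g hg c hc
    rcases hKmem g hg with h | h
    · exact (mem_center_iff.1 (hZ h) c).symm
    · calc g * c = x * (x⁻¹ * g * c) := by group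
        _ = x * (c * (x⁻¹ * g)) := by rw [mem_center_iff.1 (hZ h) c]
        _ = (c * x) * (x⁻¹ * g) := by rw [← mul_assoc, mem_centralizer_singleton_iff.1 hc]
        _ = c * g := by group
  -- the order of `K`
  have hKcard : Nat.card K = 8 := by
    have h1 := K.card_mul_index
    rw [hK, index_comap_of_surjective _ (QuotientGroup.mk'_surjective _), ← hK] at h1
    have h2 := (cen S).card_mul_index
    have h3 := (zpowers (QuotientGroup.mk' (cen S) x)).card_mul_index
    rw [Nat.card_zpowers, hqo] at h3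
    rw [cen, Subgroup.card_map_of_injective (S : Subgroup H).subtype_injective, hS.centre, ← cen,
      Subgroup.index_eq_card, ← h3, ← h1] at h2
    have hpos : 0 < (zpowers (QuotientGroup.mk' (cen S) x)).index := Nat.pos_of_ne_zero Subgroup.index_ne_zero_of_finite
    nlinarith
  -- a 2-subgroup of the centraliser has order at most sixteen
  have hle : ∀ A : Subgroup H, IsPGroup 2 A → x ∈ A → A ≤ C → Nat.card A ≤ 16 := by
    intro A hA hxA hAC
    obtain ⟨g, -, hg⟩ := Grp.ZN.exists_conj_le S le_top (le_top : A ≤ ⊤) hA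
    have hx' := hg x hxA
    have hx'c : g * x * g⁻¹ ∉ cen S := fun h => hxc (by
      have h1 := mem_center_iff.1 (hZ h) g
      have : g * x * g⁻¹ = x := mul_left_cancel (a := g) (by rw [h1]; group)
      exact this ▸ h)
    let f : (S : Subgroup H) →* center (S : Subgroup H) :=
      MonoidHom.mk' (fun s => cm hS s ⟨_, hx'⟩) fun a b => cm_mul_left hS a b _
    have hrange : f.range = ⊤ := eq_top_iff.2 fun v _ => by
      obtain ⟨y, hy⟩ := exists_cm hS (x := (⟨_, hx'⟩ : (S : Subgroup H))) (fun h => hx'c ((mem_cen hx').2 h)) v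
      exact ⟨y, hy⟩
    have hker : Nat.card f.ker = 16 := by
      have h1 := f.ker.card_mul_index
      rw [Subgroup.index_ker, hrange, Subgroup.card_top, hS.centre, hS.card] at h1
      omega
    rw [← hker, ← Subgroup.card_map_of_injective (K := f.ker) (S : Subgroup H).subtype_injective,
      ← Subgroup.card_map_of_injective (K := A) (f := (MulAut.conj g).toMonoidHom) (MulAut.conj g).injective]
    refine Subgroup.card_le_of_le ?_
    rintro _ ⟨a, ha, rfl⟩
    refine ⟨⟨_, hg a ha⟩, ?_, rfl⟩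
    refine MonoidHom.mem_ker.2 (Subtype.ext (Subtype.ext ?_))
    show g * a * g⁻¹ * (g * x * g⁻¹) * (g * a * g⁻¹)⁻¹ * (g * x * g⁻¹)⁻¹ = 1
    calc _ = g * (a * x * a⁻¹ * x⁻¹) * g⁻¹ := by group
      _ = 1 := by rw [mem_centralizer_singleton_iff.1 (hAC ha)]; group
  set KC := K.subgroupOf C with hKCdef
  haveI hKn : KC.Normal := ⟨fun g hg c => by
    have h := hKcen g hg c c.2
    have e : c * g * c⁻¹ = g := Subtype.ext (by
      show (c : H) * g * (c : H)⁻¹ = g
      rw [← h, mul_inv_cancel_right])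
    rw [e]
    exact hg⟩
  obtain ⟨P⟩ : Nonempty (Sylow 2 C) := inferInstance
  set PQ := P.mapSurjective (QuotientGroup.mk'_surjective KC) with hPQ
  have hKCp : IsPGroup 2 KC :=
    (IsPGroup.of_card (n := 3) (by rw [hKcard]; rfl)).of_equiv (subgroupOfEquivOfLe hKC).symm
  have hKP : KC ≤ (P : Subgroup C) := hKCp.le_sylow_of_normal P
  have hxC : x ∈ C := mem_centralizer_singleton_iff.2 rfl
  have hP16 : Nat.card (P : Subgroup C) ≤ 16 := by
    rw [← Subgroup.card_map_of_injective (K := (P : Subgroup C)) C.subtype_injective]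
    exact hle _ (P.isPGroup'.map _) ⟨⟨x, hxC⟩, hKP (mem_comap.2 (mem_zpowers _)), rfl⟩ (map_subtype_le _)
  haveI : IsCyclic (PQ : Subgroup (C ⧸ KC)) := by
    have hcard : Nat.card KC = 8 := by rw [Nat.card_congr (subgroupOfEquivOfLe hKC).toEquiv, hKcard]
    have h1 : Nat.card (PQ : Subgroup (C ⧸ KC)) * 8 = Nat.card (P : Subgroup C) := by
      have h2 := Subgroup.card_mul_index (KC.subgroupOf (P : Subgroup C))
      rw [Nat.card_congr (subgroupOfEquivOfLe hKP).toEquiv, hcard] at h2
      rw [hPQ, Sylow.coe_mapSurjective, ← h2, mul_comm, Subgroup.index_eq_card]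
      refine congrArg (8 * ·) ?_
      have e := QuotientGroup.quotientKerEquivRange ((QuotientGroup.mk' KC).comp (P : Subgroup C).subtype)
      rw [MonoidHom.range_comp, range_subtype] at e
      refine (Nat.card_congr e.toEquiv).symm.trans ?_
      rw [← Subgroup.index_eq_card, ← Subgroup.index_eq_card]
      congr 1
      ext a
      rw [MonoidHom.mem_ker, mem_subgroupOf]
      exact QuotientGroup.eq_one_iff _
    have h2 : Nat.card (PQ : Subgroup (C ⧸ KC)) ≤ 2 := by omega
    rcases Nat.lt_or_ge (Nat.card (PQ : Subgroup (C ⧸ KC))) 2 with h | h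
    · have : Nat.card (PQ : Subgroup (C ⧸ KC)) = 1 := by
        have := Nat.card_pos (α := (PQ : Subgroup (C ⧸ KC)))
        omega
      haveI := (Nat.card_eq_one_iff_unique.1 this).1
      infer_instance
    · exact isCyclic_of_prime_card (p := 2) (le_antisymm h2 h)
  haveI : Group.IsSolvable (C ⧸ KC) := by
    by_cases hodd : Odd (Nat.card (C ⧸ KC))
    · exact Cfsg.Agent.S0205.result hodd
    have hp : (Nat.card (C ⧸ KC)).minFac = 2 :=
      (Nat.minFac_eq_two_iff _).2 (even_iff_two_dvd.1 (Nat.not_odd_iff_even.1 hodd))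
    have hc := IsCyclic.isComplement' (P := PQ) hp inferInstance
    set N := (MonoidHom.transferSylow PQ (IsCyclic.normalizer_le_centralizer hp inferInstance)).ker with hN
    haveI : Group.IsSolvable N := Cfsg.Agent.S0205.result
      (Nat.not_even_iff_odd.1 fun h => MonoidHom.not_dvd_card_ker_transferSylow PQ _ (even_iff_two_dvd.1 h))
    haveI : Group.IsSolvable ((C ⧸ KC) ⧸ N) := by
      haveI : Group.IsNilpotent (PQ : Subgroup (C ⧸ KC)) := PQ.isPGroup'.isNilpotent
      exact Group.isSolvable_of_isSolvable_injective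
        (f := (QuotientGroup.kerLift (MonoidHom.transferSylow PQ _))) (QuotientGroup.kerLift_injective _)
    exact (Group.isSolvable_iff_subgroup_quotient N).2 ⟨inferInstance, inferInstance⟩
  haveI : Group.IsSolvable KC := Group.isSolvable_of_comm fun a b => Subtype.ext (Subtype.ext (hKcen _ a.2 _ b.1.2))
  exact (Group.isSolvable_iff_subgroup_quotient KC).2 ⟨inferInstance, inferInstance⟩

/-- The Sylow subgroup is normal. -/
theorem normal_of_central (hS : Shape ↥(S : Subgroup H)) (hZ : cen S ≤ center H)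
    (hO : Cfsg.oddCore H = ⊥) : (S : Subgroup H).Normal := by
  classical
  haveI : Fact (Nat.Prime 2) := ⟨Nat.prime_two⟩
  haveI hZn : (cen S).Normal := ⟨fun z hz g => by
    rw [mem_center_iff.1 (hZ hz) g, mul_inv_cancel_right]; exact hz⟩
  set π := QuotientGroup.mk' (cen S) with hπ
  have hπs : Function.Surjective π := QuotientGroup.mk'_surjective _
  set SQ := S.mapSurjective hπs with hSQ
  have hcomm : IsMulCommutative (SQ : Subgroup (H ⧸ cen S)) := ⟨⟨fun a b => by
    obtain ⟨a', ha, ea⟩ := a.2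
    obtain ⟨b', hb, eb⟩ := b.2
    refine Subtype.ext ?_
    show (a : H ⧸ cen S) * b = (b : H ⧸ cen S) * a
    rw [← ea, ← eb]
    have h1 : π (a' * b' * a'⁻¹ * b'⁻¹) = 1 :=
      (QuotientGroup.eq_one_iff _).2 ⟨_, hS.comm ⟨a', ha⟩ ⟨b', hb⟩, rfl⟩
    calc π a' * π b' = π (a' * b' * a'⁻¹ * b'⁻¹) * (π b' * π a') := by rw [← map_mul, ← map_mul, ← map_mul]; congr 1; group
      _ = π b' * π a' := by rw [h1, one_mul]⟩⟩
  -- centralisers of involutions modulo the centre
  have hsol : ∀ q : H ⧸ cen S, orderOf q = 2 → Group.IsSolvable ↥(centralizer ({q} : Set (H ⧸ cen S))) := by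
    intro q hq
    obtain ⟨h, hh⟩ := Invol.exists_conj_mem_sylow (x := q) (n := 1) (by rw [hq, pow_one]) SQ
    obtain ⟨g, rfl⟩ := hπs h
    obtain ⟨x, hx, ex⟩ := hh
    have hq2 : q * q = 1 := by rw [← pow_two, ← hq, pow_orderOf_eq_one]
    have hxc : x ∉ cen S := fun hc => by
      rw [show π x = 1 from (QuotientGroup.eq_one_iff _).2 hc, eq_comm, conj_eq_one_iff] at ex
      rw [ex, orderOf_one] at hq
      omega
    haveI := solvable_centralizer_root hS hZ hx hxc
    set D := (centralizer ({q} : Set (H ⧸ cen S))).comap ((MulAut.conj (π g)⁻¹).toMonoidHom.comp π) with hD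
    have hDmem : ∀ d ∈ D, d * x * d⁻¹ * x⁻¹ ∈ cen S := by
      intro d hd
      refine (QuotientGroup.eq_one_iff _).1 (?_ : π (d * x * d⁻¹ * x⁻¹) = 1)
      have h1 := mem_centralizer_singleton_iff.1 (mem_comap.1 hd)
      simp only [MonoidHom.coe_comp, Function.comp_apply, MulEquiv.coe_toMonoidHom, MulAut.conj_apply,
        inv_inv] at h1
      rw [map_mul, map_mul, map_mul, map_inv, map_inv, ex]
      calc π d * (π g * q * (π g)⁻¹) * (π d)⁻¹ * (π g * q * (π g)⁻¹)⁻¹
          = π g * (((π g)⁻¹ * π d * π g) * q * ((π g)⁻¹ * π d * π g)⁻¹ * q⁻¹) * (π g)⁻¹ := by group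
        _ = 1 := by rw [h1]; group
    let f : D →* cen S := MonoidHom.mk' (fun d => ⟨_, hDmem d d.2⟩) fun a b => Subtype.ext (by
      show (a : H) * b * x * ((a : H) * b)⁻¹ * x⁻¹ = (a : H) * x * (a : H)⁻¹ * x⁻¹ * ((b : H) * x * (b : H)⁻¹ * x⁻¹)
      have hb := hDmem b b.2
      calc (a : H) * b * x * ((a : H) * b)⁻¹ * x⁻¹ = (a : H) * ((b : H) * x * (b : H)⁻¹ * x⁻¹) * (x * (a : H)⁻¹ * x⁻¹) := by group
        _ = ((b : H) * x * (b : H)⁻¹ * x⁻¹) * ((a : H) * x * (a : H)⁻¹ * x⁻¹) := by
            rw [mem_center_iff.1 (hZ hb) (a : H)]; group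
        _ = _ := (mem_center_iff.1 (hZ hb) _).symm)
    haveI : Group.IsSolvable f.ker := by
      refine Group.isSolvable_of_isSolvable_injective (f := (⟨⟨fun d => (⟨((d : D) : H),
        mem_centralizer_singleton_iff.2 ?_⟩ : ↥(centralizer ({x} : Set H))), rfl⟩, fun _ _ => rfl⟩ :
          f.ker →* centralizer ({x} : Set H))) fun a b e => Subtype.ext (Subtype.ext (congrArg Subtype.val e :))
      have h1 : ((d : D) : H) * x * ((d : D) : H)⁻¹ * x⁻¹ = 1 := congrArg Subtype.val (MonoidHom.mem_ker.1 d.2)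
      exact mul_inv_eq_iff_eq_mul.1 (mul_inv_eq_one.1 h1)
    haveI : Group.IsSolvable f.range := Group.isSolvable_of_comm fun a b =>
      Subtype.ext (Subtype.ext (mem_center_iff.1 (hZ b.1.2) a))
    haveI : Group.IsSolvable (D ⧸ f.ker) :=
      Group.isSolvable_of_isSolvable_injective (f := (QuotientGroup.quotientKerEquivRange f).toMonoidHom)
        (MulEquiv.injective _)
    haveI : Group.IsSolvable D := (Group.isSolvable_iff_subgroup_quotient f.ker).2 ⟨inferInstance, inferInstance⟩
    have hsur : Function.Surjective (((MulAut.conj (π g)⁻¹).toMonoidHom.comp π).subgroupComap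
        (centralizer ({q} : Set (H ⧸ cen S)))) :=
      MonoidHom.subgroupComap_surjective_of_surjective _ _ ((MulAut.conj (π g)⁻¹).surjective.comp hπs)
    exact Group.isSolvable_of_surjective hsur
  -- the core modulo the centre
  have hOQ : Cfsg.oddCore (H ⧸ cen S) = ⊥ := by
    haveI hOn : (Cfsg.oddCore (H ⧸ cen S)).Normal := Grp.pPrimeCore_isNormal
    have hodd : Odd (Nat.card (Cfsg.oddCore (H ⧸ cen S))) := Nat.coprime_two_right.1 Grp.pPrimeCore_coprime
    set N := (Cfsg.oddCore (H ⧸ cen S)).comap π with hN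
    have hZN : cen S ≤ N := fun z hz => mem_comap.2 (by rw [show π z = 1 from (QuotientGroup.eq_one_iff _).2 hz]; exact one_mem _)
    set ZN := (cen S).subgroupOf N with hZN'
    have hZp : IsPGroup 2 ZN := ((S.isPGroup'.to_le cen_le)).of_equiv (subgroupOfEquivOfLe hZN).symm
    have hidx : ¬ 2 ∣ ZN.index := by
      have h1 : ZN.index = Nat.card (Cfsg.oddCore (H ⧸ cen S)) := by
        have h2 := Subgroup.card_mul_index ((cen S).subgroupOf N)
        rw [Nat.card_congr (subgroupOfEquivOfLe hZN).toEquiv] at h2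
        have h3 := N.card_mul_index
        rw [hN, index_comap_of_surjective _ hπs, ← hN, ← h2] at h3
        have h4 := (cen S).card_mul_index
        have h5 := (Cfsg.oddCore (H ⧸ cen S)).card_mul_index
        rw [Subgroup.index_eq_card (cen S), ← h5, ← h3, mul_assoc] at h4
        have h6 := Nat.eq_of_mul_eq_mul_left Nat.card_pos h4
        exact (Nat.eq_of_mul_eq_mul_right (Nat.pos_of_ne_zero Subgroup.index_ne_zero_of_finite) h6).symm
      rw [h1]
      exact fun h => Nat.not_even_iff_odd.2 hodd (even_iff_two_dvd.2 h)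
    set P := hZp.toSylow hidx
    have hle : normalizer ((P : Subgroup N) : Set N) ≤ centralizer ((P : Subgroup N) : Set N) := fun n _ =>
      mem_centralizer_iff.2 fun y hy => Subtype.ext (mem_center_iff.1 (hZ hy) n).symm
    set T := MonoidHom.transferSylow P hle
    have hKodd : Odd (Nat.card T.ker) :=
      Nat.not_even_iff_odd.1 fun h => MonoidHom.not_dvd_card_ker_transferSylow P hle (even_iff_two_dvd.1 h)
    have hmem : ∀ n : N, Odd (orderOf n) → n ∈ T.ker := fun n hn => by
      obtain ⟨k, hk⟩ := IsPGroup.iff_orderOf.1 P.isPGroup' (T n)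
      exact MonoidHom.mem_ker.2 (orderOf_eq_one_iff.1 (Nat.eq_one_of_dvd_coprimes
        ((Nat.coprime_two_left.2 hn).pow_left k) (dvd_of_eq hk) (orderOf_map_dvd T n)))
    haveI : (T.ker.map N.subtype).Normal := ⟨by
      rintro _ ⟨n, hn, rfl⟩ g
      have hN' : g * (n : H) * g⁻¹ ∈ N := (inferInstance : N.Normal).conj_mem _ n.2 g
      refine ⟨⟨_, hN'⟩, hmem _ ?_, rfl⟩
      rw [Subgroup.orderOf_mk, Invol.orderOf_conj_eq, Subgroup.orderOf_coe]
      exact hKodd.of_dvd_nat (Subgroup.orderOf_mk n hn ▸ orderOf_dvd_natCard _)⟩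
    have hbot : T.ker = ⊥ := (Subgroup.map_eq_bot_iff_of_injective _ N.subtype_injective).1
      (le_bot_iff.1 (hO ▸ Grp.le_pPrimeCore inferInstance
        (Nat.coprime_two_right.2 (by rwa [Subgroup.card_map_of_injective N.subtype_injective]))))
    have hsup := (MonoidHom.ker_transferSylow_isComplement' P hle).sup_eq_top
    rw [hbot, bot_sup_eq] at hsup
    refine eq_bot_iff.2 fun q hq => ?_
    obtain ⟨g, rfl⟩ := hπs q
    exact mem_bot.2 ((QuotientGroup.eq_one_iff _).2
      (mem_subgroupOf.1 (hsup.ge (mem_top (⟨g, mem_comap.2 hq⟩ : N)))))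
  rcases Invol.GW.abelian_sylow_solvable_centralizers Invol.GW.Dihedral.gwStatement_holds SQ hcomm hsol with
    hs | ⟨F, i1, i2, hF, N, hN, ⟨φ⟩, -⟩
  · haveI := hs
    set O := Cfsg.pCore 2 (H ⧸ cen S)
    haveI : O.Normal := Grp.pCore_isNormal
    have hle : (SQ : Subgroup (H ⧸ cen S)) ≤ O := fun w hw => by
      refine Grp.centralizer_pCore_le hOQ (mem_centralizer_iff.2 fun q hq => ?_)
      exact congrArg Subtype.val (hcomm.is_comm.comm ⟨q, Grp.pCore_le_sylow SQ hq⟩ ⟨w, hw⟩)
    have he : (SQ : Subgroup (H ⧸ cen S)) = O := le_antisymm hle (Grp.pCore_le_sylow SQ)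
    have hSeq : (S : Subgroup H) = (SQ : Subgroup (H ⧸ cen S)).comap π := by
      rw [hSQ, Sylow.coe_mapSurjective, comap_map_eq_self]
      rw [hπ, QuotientGroup.ker_mk']
      exact cen_le
    rw [hSeq, he]
    infer_instance
  exfalso
  let eQ : H ⧸ cen S ≃* (H ⧸ cen S) ⧸ Cfsg.oddCore (H ⧸ cen S) :=
    ((QuotientGroup.quotientMulEquivOfEq hOQ).trans QuotientGroup.quotientBot).symm
  haveI := hN
  set M := N.comap eQ.toMonoidHom with hM
  haveI : M.Normal := Subgroup.Normal.comap hN _
  let φ' : M ≃* Matrix.ProjectiveSpecialLinearGroup (Fin 2) F :=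
    ((MulEquiv.subgroupMap eQ M).trans
      (MulEquiv.subgroupCongr (Subgroup.map_comap_eq_self_of_surjective eQ.surjective N))).trans φ
  -- involutions of `M` are conjugate
  have hconj : ∀ a b : M, a * a = 1 → a ≠ 1 → b * b = 1 → b ≠ 1 → ∃ g : M, g * a * g⁻¹ = b := by
    intro a b ha ha1 hb hb1
    have ha' : φ' a * φ' a = 1 := by rw [← map_mul, ha, map_one]
    have hb' : φ' b * φ' b = 1 := by rw [← map_mul, hb, map_one]
    have ha1' : φ' a ≠ 1 := fun e => ha1 (φ'.injective (by rw [e, map_one]))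
    have hb1' : φ' b ≠ 1 := fun e => hb1 (φ'.injective (by rw [e, map_one]))
    obtain ⟨g, hg⟩ : ∃ g, g * φ' a * g⁻¹ = φ' b := by
      by_cases h2 : (2 : F) = 0
      · obtain ⟨g₁, e₁⟩ := PSLBin.invol_conj_two h2 ha' ha1'
        obtain ⟨g₂, e₂⟩ := PSLBin.invol_conj_two h2 hb' hb1'
        exact ⟨g₂ * g₁⁻¹, by rw [← e₂, ← e₁]; group⟩
      · exact PSLBin.invol_conj h2 ha' ha1' hb' hb1'
    exact ⟨φ'.symm g, φ'.injective (by simpa using hg)⟩
  have h4 : 4 ≤ Fintype.card F := by
    rcases hF with ⟨-, h⟩ | ⟨n, hn, h⟩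
    · omega
    · rw [h]
      exact le_trans (by norm_num) (Nat.pow_le_pow_right two_pos hn)
  haveI := Classical.PSL_isSimple (F := F) (n := 2) le_rfl fun _ => h4
  haveI : Nontrivial M := φ'.toEquiv.nontrivial
  haveI : IsSimpleGroup M := IsSimpleGroup.isSimpleGroup_of_surjective φ'.symm.toMonoidHom φ'.symm.surjective
  have hbig : 30 ≤ Nat.card M := by
    have h1 := Classical.natCard_PSL_mul (F := F) 2 (by norm_num)
    rw [Lie.SympWreath.natCard_SL2] at h1
    have h2 : Nat.gcd 2 (Nat.card Fˣ) ≤ 2 := Nat.gcd_le_left _ two_pos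
    have h3 : 15 ≤ Fintype.card F ^ 2 - 1 := by
      have := Nat.pow_le_pow_left h4 2
      omega
    have h5 := Nat.mul_le_mul h4 h3
    rw [← Nat.card_congr φ'.symm.toEquiv]
    nlinarith
  have heven : Even (Nat.card M) := by
    refine Nat.not_odd_iff_even.1 fun hodd => ?_
    have h1 : M = ⊥ := le_bot_iff.1 (hOQ ▸ Grp.le_pPrimeCore inferInstance (Nat.coprime_two_right.2 hodd))
    rw [h1, Subgroup.card_bot] at hbig
    omega
  have hnc : ∃ x y : M, x * y ≠ y * x := by
    by_contra hall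
    push Not at hall
    obtain ⟨a, ha⟩ := exists_prime_orderOf_dvd_card' (G := M) 2 (even_iff_two_dvd.1 heven)
    haveI : (zpowers a).Normal := ⟨fun w hw c => by rw [hall c w, mul_inv_cancel_right]; exact hw⟩
    rcases (inferInstance : (zpowers a).Normal).eq_bot_or_eq_top with e | e
    · rw [zpowers_eq_bot] at e
      rw [e, orderOf_one] at ha
      omega
    · rw [← Subgroup.card_top, ← e, Nat.card_zpowers, ha] at hbig
      omega
  obtain ⟨a, b, ha1, hb1, hab, ha, hb, hc⟩ := Transfer.RankOneCor.exists_commuting hnc heven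
  -- move them into the Sylow subgroup
  have hab2 : a * b * (a * b) = 1 := by
    calc a * b * (a * b) = a * (b * a) * b := by group
      _ = (a * a) * (b * b) := by rw [← hc]; group
      _ = 1 := by rw [ha, hb, one_mul]
  have hab1 : a * b ≠ 1 := fun e => hab (eq_comm.1 (inv_eq_of_mul_eq_one_right e ▸ inv_eq_of_mul_eq_one_right ha))
  have hVp : IsPGroup 2 (closure ({(a : H ⧸ cen S), (b : H ⧸ cen S)} : Set (H ⧸ cen S))) := by
    have ha' : (a : H ⧸ cen S) * a = 1 := congrArg Subtype.val ha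
    have hb' : (b : H ⧸ cen S) * b = 1 := congrArg Subtype.val hb
    have hc' : (a : H ⧸ cen S) * b = b * a := congrArg Subtype.val hc
    refine fun w => ⟨1, Subtype.ext ?_⟩
    show (w : H ⧸ cen S) ^ (2 ^ 1) = 1
    have hmem := w.2
    rw [pow_one, pow_two]
    refine (Subgroup.closure_induction (k := ({(a : H ⧸ cen S), (b : H ⧸ cen S)} : Set (H ⧸ cen S))) (p := fun u _ => u * u = 1 ∧ u * (a : H ⧸ cen S) = a * u ∧ u * (b : H ⧸ cen S) = b * u) ?_ ?_ ?_ ?_ hmem).1
    · rintro u (rfl | rfl)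
      · exact ⟨ha', rfl, hc'⟩
      · exact ⟨hb', hc'.symm, rfl⟩
    · exact ⟨one_mul 1, by rw [one_mul, mul_one], by rw [one_mul, mul_one]⟩
    · intro u v hu hv hu' hv'
      have hcl : ∀ v ∈ closure ({(a : H ⧸ cen S), (b : H ⧸ cen S)} : Set (H ⧸ cen S)), u * v = v * u :=
        fun v hv => Subgroup.closure_induction (p := fun v _ => u * v = v * u)
          (fun x hx => by rcases hx with rfl | rfl; exacts [hu'.2.1, hu'.2.2]) (by rw [one_mul, mul_one])
          (fun p q _ _ h1 h2 => by rw [← mul_assoc, h1, mul_assoc, h2, mul_assoc])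
          (fun p _ h1 => (show Commute u p from h1).inv_right.eq) hv
      refine ⟨?_, ?_, ?_⟩
      · calc u * v * (u * v) = u * (v * u) * v := by group
          _ = (u * u) * (v * v) := by rw [← hcl v hv]; group
          _ = 1 := by rw [hu'.1, hv'.1, one_mul]
      · exact ((show Commute u _ from hu'.2.1).mul_left (show Commute v _ from hv'.2.1)).eq
      · exact ((show Commute u _ from hu'.2.2).mul_left (show Commute v _ from hv'.2.2)).eq
    · intro u _ hu
      rw [inv_eq_of_mul_eq_one_right hu.1]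
      exact hu
  obtain ⟨g, -, hg⟩ := Grp.ZN.exists_conj_le SQ le_top le_top hVp
  obtain ⟨x, hx, ex⟩ := hg a (subset_closure (Set.mem_insert _ _))
  obtain ⟨y, hy, ey⟩ := hg b (subset_closure (Set.mem_insert_of_mem _ rfl))
  have hπc : ∀ w, w ∈ cen S → π w = 1 := fun w hw => (QuotientGroup.eq_one_iff _).2 hw
  have hxc : (⟨x, hx⟩ : (S : Subgroup H)) ∉ center (S : Subgroup H) := fun h => ha1 (Subtype.ext
    (conj_eq_one_iff.1 (ex.symm.trans (hπc x ((mem_cen hx).2 h)))))
  have hyc : (⟨y, hy⟩ : (S : Subgroup H)) ∉ center (S : Subgroup H) := fun h => hb1 (Subtype.ext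
    (conj_eq_one_iff.1 (ey.symm.trans (hπc y ((mem_cen hy).2 h)))))
  have hxyc : (⟨x, hx⟩ : (S : Subgroup H)) * ⟨y, hy⟩ ∉ center (S : Subgroup H) := fun h => hab1 (Subtype.ext (by
    refine (conj_eq_one_iff (a := g)).1 ?_
    rw [Subgroup.coe_mul, ← conj_mul, ← ex, ← ey, ← map_mul]
    exact hπc _ ((mem_cen (mul_mem hx hy)).2 h)))
  -- equal squares
  have hsq : ∀ (u v : M) (p q : H) (hp : p ∈ (S : Subgroup H)) (hq : q ∈ (S : Subgroup H)),
      u * u = 1 → u ≠ 1 → v * v = 1 → v ≠ 1 → π p = g * u * g⁻¹ → π q = g * v * g⁻¹ →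
      sqc hS ⟨p, hp⟩ = sqc hS ⟨q, hq⟩ := by
    intro u v p q hp hq hu hu1 hv hv1 ep eq
    obtain ⟨m, hm⟩ := hconj u v hu hu1 hv hv1
    obtain ⟨k, hk⟩ := hπs (g * (m : H ⧸ cen S) * g⁻¹)
    have e : π (k * p * k⁻¹ * q⁻¹) = 1 := by
      rw [map_mul, map_mul, map_mul, map_inv, map_inv, hk, ep, eq, ← hm]
      simp only [Subgroup.coe_mul, Subgroup.coe_inv]
      group
    have hz : k * p * k⁻¹ * q⁻¹ ∈ cen S := (QuotientGroup.eq_one_iff _).1 e
    refine Subtype.ext (Subtype.ext ?_)
    show p * p = q * q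
    have h1 : k * (p * p) * k⁻¹ = q * q := by
      set z := k * p * k⁻¹ * q⁻¹ with hzdef
      have hz2 : z * z = 1 := congrArg Subtype.val (hS.exp _ ((mem_cen (cen_le hz)).1 hz))
      calc k * (p * p) * k⁻¹ = (z * q) * (z * q) := by rw [hzdef]; group
        _ = z * (q * z) * q := by group
        _ = (z * z) * (q * q) := by rw [mem_center_iff.1 (hZ hz) q]; group
        _ = q * q := by rw [hz2, one_mul]
    have hpp : p * p ∈ center H := hZ ⟨_, hS.sq ⟨p, hp⟩, rfl⟩
    rwa [mem_center_iff.1 hpp k, mul_inv_cancel_right] at h1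
  have exy : π (x * y) = g * ((a * b : M) : H ⧸ cen S) * g⁻¹ := by
    rw [map_mul, ex, ey, Subgroup.coe_mul, conj_mul]
  exact no_line hS hxc hyc (sqc_ne_one hS hxc) rfl (hsq b a y x hy hx hb hb1 ha ha1 ey ex)
    (hsq (a * b) a (x * y) x (mul_mem hx hy) hx hab2 hab1 ha ha1 exy ex)

end Cfsg.Agent.Transfer.UFLyons
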