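import Cfsg.Agent.Lib.Transfer.UnitaryFour.Local
import Cfsg.Agent.Lib.Invol.CentRank.Models
import Cfsg.Agent.Lib.Local.CoreConsumers.SimpleBorel
import Cfsg.Agent.Lib.Recog.PguThree.Ident
import Cfsg.Agent.S2798

/-!
# A simple group with Sylow 2-subgroup of `PSU(3, 4)` shape and a strongly embedded subgroup is `PSU(3, 4)`
-/

set_option autoImplicit false
set_option linter.unusedSectionVars false
set_option linter.style.haveILetI false

namespace Cfsg.Agent.Transfer.UFLyons

open Subgroup UnitaryFour Cfsg.Agent.Invol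

universe u

/-- The solutions of `x * x = 1` in a Sylow subgroup of the shape: four of them. -/
theorem ncard_sq_one {G : Type u} [Group G] [Finite G] {S : Sylow 2 G} (hS : Shape ↥(S : Subgroup G)) :
    {x | x ∈ (S : Subgroup G) ∧ x * x = 1}.ncard = 4 := by
  have h : {x | x ∈ (S : Subgroup G) ∧ x * x = 1} = (cen S : Set G) := by
    ext x
    refine ⟨fun hx => (mem_cen hx.1).2 (hS.inv _ (Subtype.ext hx.2)), fun hx => ⟨cen_le hx, ?_⟩⟩
    exact congrArg Subtype.val (hS.exp _ ((mem_cen (cen_le hx)).1 hx))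
  rw [h, show (cen S : Set G).ncard = Nat.card (cen S) from rfl, cen,
    Subgroup.card_map_of_injective (S : Subgroup G).subtype_injective, hS.centre]

theorem nonabelian_of_shape {G : Type u} [Group G] {S : Subgroup G} (hS : Shape ↥S) :
    ¬ IsMulCommutative G := fun hc => by
  have htop : center ↥S = ⊤ :=
    eq_top_iff.2 fun x _ => mem_center_iff.2 fun y => Subtype.ext (hc.is_comm.comm _ _)
  have h1 := hS.centre
  rw [htop, Subgroup.card_top, hS.card] at h1
  omega

theorem iso_of_stronglyEmbedded {G : Type u} [Group G] [Finite G] [IsSimpleGroup G] {S : Sylow 2 G}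
    (hS : Shape ↥(S : Subgroup G)) {X : Subgroup G} (hX : Cfsg.IsStronglyPEmbedded 2 X)
    {F : Type*} [Field F] [Fintype F] (hF : Fintype.card F = 16) : Nonempty (G ≃* Cfsg.PSU 3 F 4) := by
  haveI : Fact (Nat.Prime 2) := ⟨Nat.prime_two⟩
  have h4 := ncard_sq_one hS
  rcases (CoreConsumers.simple_borel (nonabelian_of_shape hS) hX.1 (S2798.result _ hX)).1 with
    ⟨K, i1, i2, n, hn, hq, ⟨e⟩⟩ | ⟨K, i1, i2, m, hm, hq, ⟨e⟩⟩ | ⟨K, i1, i2, n, hn, hq, ⟨e⟩⟩
  · exfalso
    haveI : CharP K 2 := Invol.Bender.Cor.charP_two_of_card hq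
    obtain ⟨P₀, hP₀, hW⟩ := CentRank.sylow_sl (F := K)
    have e' : G ≃* Matrix.SpecialLinearGroup (Fin 2) K := e.trans
      ((QuotientGroup.quotientMulEquivOfEq (Fus.CTSimple.center_eq_bot_of_two CharTwo.two_eq_zero)).trans
        QuotientGroup.quotientBot)
    obtain ⟨ψ, hψ⟩ := CentRank.exists_iso_sylow e'.symm P₀ S
    have h64 := hS.card
    rw [← hψ, CentRank.ncard_sq_one_map, hW] at h4
    rw [← hψ, card_map_of_injective (f := ψ.toMonoidHom) ψ.injective, hP₀, h4] at h64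
    omega
  · exfalso
    have hZ : Suz.SzField K m := ⟨hm, hq⟩
    obtain ⟨P₀, hW⟩ := CentRank.sylow_sz hZ
    obtain ⟨ψ, hψ⟩ := CentRank.exists_iso_sylow ((Suz.szEquiv hZ).trans e.symm) P₀ S
    rw [← hψ, CentRank.ncard_sq_one_map] at h4
    omega
  · have heven : Even (2 ^ n) := Nat.even_pow.2 ⟨even_two, by omega⟩
    obtain ⟨P₀, hW, -⟩ := CentRank.sylow_psu hq heven (Invol.Bender.Cor.four_le_two_pow hn)
    obtain ⟨ψ, hψ⟩ := CentRank.exists_iso_sylow e.symm P₀ S
    rw [← hψ, CentRank.ncard_sq_one_map] at h4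
    have hn4 : 2 ^ n = 4 := le_antisymm (by omega) (Invol.Bender.Cor.four_le_two_pow hn)
    rw [hn4] at hq e
    obtain ⟨f⟩ := Recog.PguThree.psu_congr 3 4 (FiniteField.ringEquivOfCardEq (K := K) (K' := F) (by rw [hq, hF]; norm_num))
    exact ⟨e.trans f⟩

end Cfsg.Agent.Transfer.UFLyons
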