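import Cfsg.Agent.Lib.Transfer.UFLyons.Basic
import Cfsg.Agent.Lib.Transfer.UFLyons.Recognise
import Cfsg.Agent.Lib.Transfer.UFLyons.ShapeLine
import Cfsg.Agent.Lib.Transfer.UFLyons.CentralCase
import Cfsg.Agent.Lib.Invol.ZStar
import Cfsg.Agent.Lib.Invol.GW.Consumers.AbelianSylow
import Cfsg.Agent.Lib.OddUse.RankTwoSylow
import Cfsg.Agent.Lib.Fus.InvariantIff
import Cfsg.Agent.Lib.Grp.ZNGroups.Basic
import Cfsg.Agent.S0516

/-!
# The recognition theorem and its reduced form, from the existence of a strongly embedded subgroup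
-/

set_option autoImplicit false
set_option linter.unusedSectionVars false
set_option linter.style.haveILetI false

namespace Cfsg.Agent.Transfer.UFLyons

open Subgroup UnitaryFour
open scoped Pointwise

universe u

variable {G : Type u} [Group G] [Finite G] {S : Sylow 2 G}

theorem inv_mem_cen (hS : Shape ↥(S : Subgroup G)) {x : G} (hx : x ∈ (S : Subgroup G)) (h2 : x * x = 1) :
    x ∈ cen S :=
  (mem_cen hx).2 (hS.inv _ (Subtype.ext h2))

theorem cen_mul_self (hS : Shape ↥(S : Subgroup G)) {v : G} (hv : v ∈ cen S) : v * v = 1 :=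
  congrArg Subtype.val (hS.exp _ ((mem_cen (cen_le hv)).1 hv))

theorem cen_card (hS : Shape ↥(S : Subgroup G)) : Nat.card (cen S) = 4 := by
  rw [cen, Subgroup.card_map_of_injective (S : Subgroup G).subtype_injective, hS.centre]

theorem cen_cases (hS : Shape ↥(S : Subgroup G)) {z v w : G} (hz : z ∈ cen S) (hv : v ∈ cen S) (hw : w ∈ cen S)
    (hz1 : z ≠ 1) (hv1 : v ≠ 1) (hvz : v ≠ z) : w = 1 ∨ w = z ∨ w = v ∨ w = z * v := by
  have e : ∀ u : G, ∀ hu : u ∈ cen S, u ≠ 1 →
      (⟨⟨u, cen_le hu⟩, (mem_cen (cen_le hu)).1 hu⟩ : center (S : Subgroup G)) ≠ 1 :=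
    fun u hu hu1 h => hu1 (congrArg (fun a : center (S : Subgroup G) => ((a : (S : Subgroup G)) : G)) h)
  rcases center_cases hS _ _ (e z hz hz1) (e v hv hv1)
    (fun h => hvz (congrArg (fun a : center (S : Subgroup G) => ((a : (S : Subgroup G)) : G)) h))
    ⟨⟨w, cen_le hw⟩, (mem_cen (cen_le hw)).1 hw⟩ with h | h | h | h <;>
    have h' := congrArg (fun a : center (S : Subgroup G) => ((a : (S : Subgroup G)) : G)) h
  · exact Or.inl h'
  · exact Or.inr (Or.inl h')
  · exact Or.inr (Or.inr (Or.inl h'))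
  · exact Or.inr (Or.inr (Or.inr h'))

/-- With trivial core one central involution makes the centre of `S` central. -/
theorem cen_le_center (hS : Shape ↥(S : Subgroup G)) (hO : Cfsg.oddCore G = ⊥) {z : G} (hz : z ∈ cen S)
    (hz1 : z ≠ 1) (hzc : z ∈ center G) : cen S ≤ center G := by
  haveI : Fact (Nat.Prime 2) := ⟨Nat.prime_two⟩
  intro v hv
  rcases eq_or_ne v 1 with rfl | hv1
  · exact one_mem _
  rcases eq_or_ne v z with rfl | hvz
  · exact hzc
  have hv2 : orderOf v = 2 := orderOf_eq_prime (by rw [pow_two, cen_mul_self hS hv]) hv1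
  have hcS : ∀ w ∈ cen S, w ∈ centralizer ((S : Subgroup G) : Set G) := fun w hw =>
    mem_centralizer_iff.2 fun s hs => (comm_of_cen hw hs).symm
  have hiso : Cfsg.IsIsolatedInvolution v := by
    refine ZStar.isIsolated_of_sylow (cen_le hv) hv2 fun g hg => ?_
    have hw : g * v * g⁻¹ ∈ cen S := inv_mem_cen hS hg (by
      calc g * v * g⁻¹ * (g * v * g⁻¹) = g * (v * v) * g⁻¹ := by group
        _ = 1 := by rw [cen_mul_self hS hv]; group)
    obtain ⟨n, hn, hnv⟩ := Sylow.conj_eq_normalizer_conj_of_mem_centralizer S v g⁻¹ (hcS v hv)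
      (by rw [inv_inv]; exact hcS _ hw)
    rw [inv_inv] at hnv
    rw [hnv]
    by_contra hne
    have hw' : n⁻¹ * v * n ∈ cen S := hnv ▸ hw
    have hconj : MulAut.conj n⁻¹ v = n⁻¹ * v * n := by simp
    have hconjz : MulAut.conj n⁻¹ z = z := by
      simp [mem_center_iff.1 hzc n⁻¹, mul_assoc]
    have hval : n⁻¹ * v * n = z * v := by
      rcases cen_cases hS hz hv hw' hz1 hv1 hvz with e | e | e | e
      · refine absurd ?_ hv1
        calc v = n * (n⁻¹ * v * n) * n⁻¹ := by group
          _ = 1 := by rw [e]; group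
      · refine absurd ?_ hvz
        have := congrArg (fun x => n * x * n⁻¹) e
        simpa [mul_assoc, mem_center_iff.1 hzc n] using this
      · exact absurd e hne
      · exact e
    have hpar : ∀ j : ℕ, (Even j → MulAut.conj (n⁻¹ ^ j) v = v) ∧ (Odd j → MulAut.conj (n⁻¹ ^ j) v = z * v) := by
      intro j
      induction j with
      | zero => exact ⟨fun _ => by simp, fun h => absurd h (by decide)⟩
      | succ j ih =>
        have hstep : MulAut.conj (n⁻¹ ^ (j + 1)) v = MulAut.conj n⁻¹ (MulAut.conj (n⁻¹ ^ j) v) := by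
          rw [pow_succ', map_mul]; rfl
        refine ⟨fun h => ?_, fun h => ?_⟩
        · rw [hstep, ih.2 (Nat.not_even_iff_odd.1 (Nat.even_add_one.1 h)), map_mul, hconjz, hconj, hval,
            ← mul_assoc, cen_mul_self hS hz, one_mul]
        · rw [hstep, ih.1 (Nat.not_odd_iff_even.1 (Nat.odd_add_one.1 h)), hconj, hval]
    obtain ⟨k, b, hb, hkb⟩ := Nat.exists_eq_two_pow_mul_odd (orderOf_pos n⁻¹).ne'
    have hp : IsPGroup 2 (zpowers (n⁻¹ ^ b)) := by
      refine IsPGroup.of_card_dvd_pow (n := k) ?_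
      rw [Nat.card_zpowers]
      refine orderOf_dvd_of_pow_eq_one ?_
      rw [← pow_mul, mul_comm, ← hkb, pow_orderOf_eq_one]
    have hbS := Grp.ZN.mem_sylow_of_normalizer S hp (pow_mem (inv_mem hn) b)
    have h1 : MulAut.conj (n⁻¹ ^ b) v = v := by
      rw [MulAut.conj_apply, ← comm_of_cen hv hbS, mul_inv_cancel_right]
    rw [(hpar b).2 hb] at h1
    exact hz1 (mul_eq_right.1 h1)
  obtain ⟨N, hN, hNodd, hNc⟩ := ZStar.exists_odd_normal hiso
  have hNb : N = ⊥ := le_bot_iff.1 (hO ▸ Grp.le_pPrimeCore hN (Nat.coprime_two_right.2 hNodd))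
  refine mem_center_iff.2 fun g => ?_
  have h1 := mem_bot.1 (hNb ▸ hNc g)
  calc g * v = (v * g * v⁻¹ * g⁻¹) * g * v := by rw [h1, one_mul]
    _ = v * g := by group

/-- The kernel case: central centre and trivial core force a normal Sylow subgroup. -/
def CentralNormal : Prop :=
  ∀ (H : Type u) [Group H] [Finite H] (S : Sylow 2 H), Shape ↥(S : Subgroup H) → cen S ≤ center H →
    Cfsg.oddCore H = ⊥ → (S : Subgroup H).Normal

theorem odd_index (S : Sylow 2 G) {K : Subgroup G} (h : (S : Subgroup G) ≤ K) : Odd K.index := by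
  haveI : Fact (Nat.Prime 2) := ⟨Nat.prime_two⟩
  exact Nat.not_even_iff_odd.1 fun he => S.not_dvd_index ((even_iff_two_dvd.1 he).trans (index_dvd_of_le h))

theorem isSolvable_of_normal_sylow (S : Sylow 2 G) (hS : (S : Subgroup G).Normal) : Group.IsSolvable G := by
  haveI : Fact (Nat.Prime 2) := ⟨Nat.prime_two⟩
  haveI := hS
  haveI : Group.IsNilpotent (S : Subgroup G) := S.isPGroup'.isNilpotent
  haveI : Group.IsSolvable (G ⧸ (S : Subgroup G)) :=
    Cfsg.Agent.S0205.result (by rw [← Subgroup.index_eq_card]; exact odd_index S le_rfl)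
  exact (Group.isSolvable_iff_subgroup_quotient (S : Subgroup G)).2 ⟨inferInstance, inferInstance⟩

/-- Centralisers of involutions are solvable. -/
theorem solvable_centralizer (hK : CentralNormal.{u}) (hS : Shape ↥(S : Subgroup G)) {t : G}
    (ht : orderOf t = 2) : Group.IsSolvable ↥(centralizer ({t} : Set G)) := by
  haveI : Fact (Nat.Prime 2) := ⟨Nat.prime_two⟩
  obtain ⟨g, hg⟩ := Invol.exists_conj_mem_sylow (x := t) (n := 1) (by rw [ht, pow_one]) S
  set v := g * t * g⁻¹ with hvdef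
  have hv2 : orderOf v = 2 := by rw [hvdef, Invol.orderOf_conj_eq, ht]
  have hvv : v * v = 1 := by rw [← pow_two, ← hv2, pow_orderOf_eq_one]
  have hv := inv_mem_cen hS hg hvv
  have hv1 : v ≠ 1 := fun e => by rw [e, orderOf_one] at hv2; omega
  set C := centralizer ({v} : Set G) with hCdef
  have hSC : (S : Subgroup G) ≤ C := fun s hs => mem_centralizer_singleton_iff.2 (comm_of_cen hv hs).symm
  set O := Cfsg.oddCore C with hOdef
  haveI : O.Normal := Grp.pPrimeCore_isNormal
  haveI : (Cfsg.pPrimeCore 2 C).Normal := Grp.pPrimeCore_isNormal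
  set f := QuotientGroup.mk' O with hf
  have hfs : Function.Surjective f := QuotientGroup.mk'_surjective O
  set SC : Sylow 2 C := S.subtype hSC
  set SQ : Sylow 2 (C ⧸ O) := SC.mapSurjective hfs
  have hinj : Function.Injective (f.comp (SC : Subgroup C).subtype) := by
    refine (injective_iff_map_eq_one _).2 fun x hx => ?_
    have hxO : ((x : C)) ∈ O := (QuotientGroup.eq_one_iff _).1 hx
    obtain ⟨k, hk⟩ := (IsPGroup.iff_orderOf.1 SC.isPGroup') x
    refine orderOf_eq_one_iff.1 (Nat.eq_one_of_dvd_coprimes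
      ((Grp.pPrimeCore_coprime (p := 2) (G := C)).symm.pow_left k) (dvd_of_eq hk) ?_)
    rw [← Subgroup.orderOf_coe]
    exact Subgroup.orderOf_mk (x : C) hxO ▸ orderOf_dvd_natCard _
  have hrange : (f.comp (SC : Subgroup C).subtype).range = (SQ : Subgroup (C ⧸ O)) := by
    rw [MonoidHom.range_comp, range_subtype]
    rfl
  have hshC : Shape ↥(SC : Subgroup C) :=
    Shape.of_equiv ((MulEquiv.subgroupCongr (Sylow.coe_subtype _ hSC)).trans (subgroupOfEquivOfLe hSC)) hS
  have hshQ : Shape ↥(SQ : Subgroup (C ⧸ O)) :=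
    Shape.of_equiv (((MonoidHom.ofInjective hinj).trans (MulEquiv.subgroupCongr hrange)).symm) hshC
  have hvC : v ∈ C := mem_centralizer_singleton_iff.2 rfl
  have hvSQ : f ⟨v, hvC⟩ ∈ (SQ : Subgroup (C ⧸ O)) := ⟨⟨v, hvC⟩, hg, rfl⟩
  have hne : f ⟨v, hvC⟩ ≠ 1 := fun e => hv1 (congrArg (fun a : (SC : Subgroup C) => ((a : C) : G))
    (hinj (a₁ := ⟨⟨v, hvC⟩, hg⟩) (a₂ := 1) (by rw [map_one]; exact e)))
  have hzc : f ⟨v, hvC⟩ ∈ center (C ⧸ O) := mem_center_iff.2 fun q => by
    obtain ⟨c, rfl⟩ := hfs q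
    rw [← map_mul, ← map_mul]
    exact congrArg f (Subtype.ext (mem_centralizer_singleton_iff.1 c.2))
  have hOQ : Cfsg.oddCore (C ⧸ O) = ⊥ := Grp.pPrimeCore_quotient_eq_bot
  have hzcen : f ⟨v, hvC⟩ ∈ cen SQ :=
    inv_mem_cen hshQ hvSQ (by rw [← map_mul, ← map_one f]; exact congrArg f (Subtype.ext hvv))
  have hsolQ := isSolvable_of_normal_sylow SQ (hK _ SQ hshQ (cen_le_center hshQ hOQ hzcen hne hzc) hOQ)
  haveI : Group.IsSolvable O :=
    Cfsg.Agent.S0205.result (Nat.coprime_two_right.1 Grp.pPrimeCore_coprime)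
  haveI := hsolQ
  haveI : Group.IsSolvable C := (Group.isSolvable_iff_subgroup_quotient O).2 ⟨inferInstance, hsolQ⟩
  have hmap : (centralizer ({t} : Set G)).map (MulAut.conj g).toMonoidHom ≤ C := by
    rintro _ ⟨c, hc, rfl⟩
    exact mem_centralizer_singleton_iff.2
      ((show Commute c t from mem_centralizer_singleton_iff.1 hc).map (MulAut.conj g).toMonoidHom).eq
  haveI := Invol.GW.isSolvable_of_le hmap ‹Group.IsSolvable C›
  exact Group.isSolvable_of_isSolvable_injective
    (f := ((centralizer ({t} : Set G)).equivMapOfInjective (MulAut.conj g).toMonoidHom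
      (MulAut.conj g).injective).toMonoidHom)
    (MulEquiv.injective _)

theorem s0486_of (hM : Main.{u}) [IsSimpleGroup G] {F : Type*} [Field F] [Fintype F] (hF : Fintype.card F = 16)
    (S : Sylow 2 G) (P : Sylow 2 (Cfsg.PSU 3 F 4))
    (hS : Nonempty ((S : Subgroup G) ≃* (P : Subgroup (Cfsg.PSU 3 F 4)))) :
    Nonempty (G ≃* Cfsg.PSU 3 F 4) := by
  obtain ⟨e⟩ := hS
  have hsh := shape_of_sylow hF P e
  obtain ⟨X, hX⟩ := hM G S hsh
  exact iso_of_stronglyEmbedded hsh hX hF

theorem s3176_of_central (hM : Main.{u}) (hK : CentralNormal.{u}) {F : Type*} [Field F] [Fintype F]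
    (hF : Fintype.card F = 16) (S : Sylow 2 G) (P : Sylow 2 (Cfsg.PSU 3 F 4))
    (hS : Nonempty (↥(S : Subgroup G) ≃* ↥(P : Subgroup (Cfsg.PSU 3 F 4))))
    (hO : Cfsg.oddCore G = ⊥) (hO' : ∀ N : Subgroup G, N.Normal → Odd N.index → N = ⊤) :
    Nonempty (G ≃* Cfsg.PSU 3 F 4) ∨ (S : Subgroup G) = ⊤ := by
  classical
  haveI : Fact (Nat.Prime 2) := ⟨Nat.prime_two⟩
  obtain ⟨e⟩ := hS
  have hsh := shape_of_sylow hF P e
  -- a nontrivial solvable normal subgroup gives `S = ⊤`
  have hcase : (∃ N : Subgroup G, N.Normal ∧ Group.IsSolvable N ∧ N ≠ ⊥) → (S : Subgroup G) = ⊤ := by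
    rintro ⟨N, hN, hNs, hNne⟩
    haveI := hN
    obtain ⟨V, hVn, hV, hVN, hmin⟩ := Grp.exists_minimal_normal_le hNne
    haveI := hVn
    obtain ⟨p, hp, hVp⟩ := Grp.minimal_normal_solvable_isPGroup (Invol.GW.isSolvable_of_le hVN hNs) hV hmin
    haveI := Fact.mk hp
    obtain ⟨k, hk⟩ := IsPGroup.iff_card.1 hVp
    obtain rfl : p = 2 := by
      by_contra hp2
      refine hV (le_bot_iff.1 (hO ▸ Grp.le_pPrimeCore hVn ?_))
      rw [hk]
      exact ((Nat.coprime_primes hp Nat.prime_two).2 hp2).pow_left k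
    have hk0 : k ≠ 0 := fun h => hV (card_eq_one.1 (by rw [hk, h, pow_zero]))
    obtain ⟨v, hv⟩ := exists_prime_orderOf_dvd_card' (G := V) 2 (hk ▸ dvd_pow_self 2 hk0)
    have hVS : V ≤ (S : Subgroup G) := (Grp.le_pCore hVn hVp).trans (Grp.pCore_le_sylow S)
    have hv2 : orderOf (v : G) = 2 := by rw [Subgroup.orderOf_coe, hv]
    have hv1 : (v : G) ≠ 1 := fun e => by rw [e, orderOf_one] at hv2; omega
    have hvc : (v : G) ∈ cen S := inv_mem_cen hsh (hVS v.2) (by rw [← pow_two, ← hv2, pow_orderOf_eq_one])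
    haveI hEn : (V ⊓ cen S).Normal := ⟨fun x hx g => by
      have h1 : g * x * g⁻¹ ∈ V := hVn.conj_mem x hx.1 g
      refine ⟨h1, inv_mem_cen hsh (hVS h1) ?_⟩
      calc g * x * g⁻¹ * (g * x * g⁻¹) = g * (x * x) * g⁻¹ := by group
        _ = 1 := by rw [cen_mul_self hsh hx.2]; group⟩
    have hSle : (S : Subgroup G) ≤ centralizer ((V ⊓ cen S : Subgroup G) : Set G) := fun s hs =>
      mem_centralizer_iff.2 fun y hy => comm_of_cen hy.2 hs
    have htop := hO' _ inferInstance (odd_index S hSle)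
    have hvz : (v : G) ∈ center G := mem_center_iff.2 fun g =>
      (mem_centralizer_iff.1 (htop.ge (mem_top g)) v ⟨v.2, hvc⟩).symm
    exact hO' _ (hK G S hsh (cen_le_center hsh hO hvc hv1 hvz) hO) (odd_index S le_rfl)
  by_cases hrad : ∃ N : Subgroup G, N.Normal ∧ Group.IsSolvable N ∧ N ≠ ⊥
  · exact Or.inr (hcase hrad)
  push Not at hrad
  left
  have hsol : ∀ t : G, orderOf t = 2 → Group.IsSolvable ↥(centralizer ({t} : Set G)) :=
    fun t ht => solvable_centralizer hK hsh ht
  have hns : ¬ Group.IsSolvable G := fun hs => by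
    haveI := hs
    have htb := hrad ⊤ inferInstance inferInstance
    have h1 := hsh.card
    rw [show (S : Subgroup G) = ⊥ from le_bot_iff.1 (htb ▸ le_top), Subgroup.card_bot] at h1
    omega
  obtain ⟨M, hMn, hMs, hMna, -⟩ := Invol.GW.exists_simple_socle hns hrad hsol
  haveI := hMn
  haveI := hMs
  obtain ⟨-, R, hR⟩ := Fus.isSylowOf_inf_normal S M
  have hRS : ∀ x : M, x ∈ (R : Subgroup M) ↔ (x : G) ∈ (S : Subgroup G) := fun x => by
    rw [hR, mem_subgroupOf, mem_inf]
    exact and_iff_left x.2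
  -- the involutions of `R` are central
  have hinvR : ∀ x : (R : Subgroup M), x * x = 1 → ((x : M) : G) ∈ cen S := fun x hx =>
    inv_mem_cen hsh ((hRS _).1 x.2) (congrArg (fun a : (R : Subgroup M) => ((a : M) : G)) hx)
  have hcentR : ∀ x : (R : Subgroup M), x * x = 1 → ∀ y : (R : Subgroup M), x * y = y * x := fun x hx y =>
    Subtype.ext (Subtype.ext (comm_of_cen (hinvR x hx) ((hRS _).1 y.2)))
  have hrank : Cfsg.PRankLE 2 2 M := by
    intro A hA hA2
    have hAp : IsPGroup 2 A := fun a => ⟨1, Subtype.ext (by rw [pow_one]; exact hA2 a a.2)⟩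
    obtain ⟨Q, hQ⟩ := hAp.exists_le_sylow
    obtain ⟨g, hg⟩ := MulAction.exists_smul_eq M Q R
    have hle : (A.map (MulAut.conj g).toMonoidHom).map M.subtype ≤ cen S := by
      rintro _ ⟨_, ⟨a, ha, rfl⟩, rfl⟩
      refine inv_mem_cen hsh ((hRS _).1 ?_) ?_
      · rw [← hg]
        exact ⟨a, hQ ha, rfl⟩
      · simp only [← map_mul]
        rw [← pow_two, hA2 a ha, map_one, map_one]
    have := Subgroup.card_le_of_le hle
    rwa [Subgroup.card_map_of_injective M.subtype_injective,
      Subgroup.card_map_of_injective (MulAut.conj g).injective, cen_card hsh] at this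
  rcases S0516.result hMna hrank R hF P with ⟨n, hn, ⟨d⟩⟩ | hq | hw | ⟨⟨d⟩⟩
  · exfalso
    have hcomm : ∀ i : ZMod n, ∀ y, DihedralGroup.sr i * y = y * DihedralGroup.sr i := fun i y =>
      d.symm.injective (by
        rw [map_mul, map_mul]
        exact hcentR _ (by rw [← map_mul, DihedralGroup.sr_mul_self, map_one]) _)
    have h1 := hcomm 0 (DihedralGroup.r 1)
    rw [DihedralGroup.r_mul_sr, DihedralGroup.sr_mul_r, DihedralGroup.sr.injEq] at h1
    have h2 : ((2 : ℕ) : ZMod n) = 0 := by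
      push_cast
      linear_combination h1
    obtain rfl : n = 2 := le_antisymm (Nat.le_of_dvd two_pos ((ZMod.natCast_eq_zero_iff _ _).1 h2)) hn
    have hsq : ∀ y : DihedralGroup 2, y * y = 1 := by decide
    have hT : (S : Subgroup G) ⊓ M = cen S := by
      refine Subgroup.eq_of_le_of_card_ge (fun x hx => ?_) ?_
      · exact hinvR ⟨⟨x, hx.2⟩, (hRS _).2 hx.1⟩ (d.injective (by rw [map_mul, map_one]; exact hsq _))
      · rw [cen_card hsh, ← Nat.card_congr (subgroupOfEquivOfLe (inf_le_right : (S : Subgroup G) ⊓ M ≤ M)).toEquiv,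
          ← hR, Nat.card_congr d.toEquiv, DihedralGroup.nat_card]
    have hRc : ∀ a b : (R : Subgroup M), a * b = b * a := fun a b =>
      hcentR a (d.injective (by rw [map_mul, map_one]; exact hsq _)) b
    have hnot : ¬ normalizer ((R : Subgroup M) : Set M) ≤ centralizer ((R : Subgroup M) : Set M) := fun hle => by
      haveI := IsMulCommutative.mk ⟨hRc⟩
      have hc := MonoidHom.ker_transferSylow_isComplement' R hle
      rcases (inferInstance : (MonoidHom.transferSylow R hle).ker.Normal).eq_bot_or_eq_top with h | h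
      · have htop : (R : Subgroup M) = ⊤ := by
          have := hc.sup_eq_top
          rwa [h, bot_sup_eq] at this
        exact hMna ⟨⟨fun a b => congrArg Subtype.val (hRc ⟨a, htop.ge (mem_top a)⟩ ⟨b, htop.ge (mem_top b)⟩)⟩⟩
      · have hbot : (R : Subgroup M) = ⊥ := by
          have := hc.disjoint
          rwa [h, top_disjoint] at this
        have h4 := Nat.card_congr d.toEquiv
        rw [hbot, Subgroup.card_bot, DihedralGroup.nat_card] at h4
        omega
    obtain ⟨m, hm, hmc⟩ := SetLike.not_le_iff_exists.1 hnot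
    obtain ⟨w, hw, hmw⟩ : ∃ w ∈ (R : Subgroup M), w * m ≠ m * w := by
      by_contra hno
      push Not at hno
      exact hmc (mem_centralizer_iff.2 hno)
    have hmV : ∀ x ∈ cen S, (m : G) * x * (m : G)⁻¹ ∈ cen S := by
      intro x hx
      rw [← hT] at hx
      have h1 := (mem_normalizer_iff.1 hm ⟨x, hx.2⟩).1 ((hRS _).2 hx.1)
      rw [← hT]
      exact ⟨(hRS _).1 h1, M.mul_mem (M.mul_mem m.2 hx.2) (M.inv_mem m.2)⟩
    have hmV' : ∀ x ∈ cen S, (m : G)⁻¹ * x * (m : G) ∈ cen S := by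
      intro x hx
      rw [← hT] at hx
      have h1 := (mem_normalizer_iff''.1 hm ⟨x, hx.2⟩).1 ((hRS _).2 hx.1)
      rw [← hT]
      exact ⟨(hRS _).1 h1, M.mul_mem (M.mul_mem (M.inv_mem m.2) hx.2) m.2⟩
    -- move `m` into the normalizer of `S`
    set K := M ⊓ centralizer (cen S : Set G) with hKdef
    have hSK : (S : Subgroup G) ≤ normalizer (K : Set G) := fun s hs => by
      refine mem_normalizer_iff.2 fun x => ⟨fun hx => ⟨hMn.conj_mem x hx.1 s, mem_centralizer_iff.2 fun v hv => ?_⟩,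
        fun hx => ⟨?_, mem_centralizer_iff.2 fun v hv => ?_⟩⟩
      · calc v * (s * x * s⁻¹) = (v * s) * x * s⁻¹ := by group
          _ = s * (v * x) * s⁻¹ := by rw [comm_of_cen hv hs]; group
          _ = s * x * (v * s⁻¹) := by rw [mem_centralizer_iff.1 hx.2 v hv]; group
          _ = s * x * s⁻¹ * v := by rw [comm_of_cen hv (inv_mem hs)]; group
      · have := hMn.conj_mem' _ hx.1 s
        simpa [mul_assoc] using this
      · have h1 := mem_centralizer_iff.1 hx.2 v hv
        calc v * x = (v * s⁻¹) * (s * x * s⁻¹) * s := by group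
          _ = s⁻¹ * (v * (s * x * s⁻¹)) * s := by rw [comm_of_cen hv (inv_mem hs)]; group
          _ = s⁻¹ * (s * x * s⁻¹) * (v * s) := by rw [h1]; group
          _ = x * v := by rw [comm_of_cen hv hs]; group
    set L := K ⊔ (S : Subgroup G) with hLdef
    have hml : (S : Subgroup G).map (MulAut.conj (m : G)).toMonoidHom ≤ L := by
      rintro _ ⟨s, hs, rfl⟩
      show (m : G) * s * (m : G)⁻¹ ∈ L
      have h1 : (m : G) * s * (m : G)⁻¹ * s⁻¹ ∈ K := by
        refine ⟨?_, mem_centralizer_iff.2 fun v hv => ?_⟩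
        · rw [show (m : G) * s * (m : G)⁻¹ * s⁻¹ = (m : G) * (s * (m : G)⁻¹ * s⁻¹) by group]
          exact mul_mem m.2 (hMn.conj_mem _ (inv_mem m.2) s)
        · have h2 := comm_of_cen (hmV' v hv) hs
          calc v * ((m : G) * s * (m : G)⁻¹ * s⁻¹) = (m : G) * (((m : G)⁻¹ * v * m) * s) * (m : G)⁻¹ * s⁻¹ := by group
            _ = (m : G) * (s * ((m : G)⁻¹ * v * m)) * (m : G)⁻¹ * s⁻¹ := by rw [h2]
            _ = (m : G) * s * (m : G)⁻¹ * (v * s⁻¹) := by group
            _ = _ := by rw [comm_of_cen hv (inv_mem hs)]; group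
      have := mul_mem (mem_sup_left (T := (S : Subgroup G)) h1) (mem_sup_right (S := K) hs)
      rwa [inv_mul_cancel_right] at this
    obtain ⟨l, hl, hconj⟩ := Grp.ZN.exists_conj_le S le_sup_right hml (S.isPGroup'.map _)
    have hl' : l ∈ ((K : Set G) * ((S : Subgroup G) : Set G)) := by
      rw [← Subgroup.coe_mul_of_right_le_normalizer_left K (S : Subgroup G) hSK]
      exact hl
    obtain ⟨c, hcK, s₀, hs₀, hcs⟩ := Set.mem_mul.1 hl'
    have hKc : ∀ x ∈ K, ∀ v ∈ cen S, x * v = v * x := fun x hx v hv => (mem_centralizer_iff.1 hx.2 v hv).symm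
    have hc' : s₀⁻¹ * c * s₀ ∈ K := (mem_normalizer_iff''.1 (hSK hs₀) c).1 hcK
    set n' := s₀⁻¹ * c * s₀ * (m : G) with hn'
    have hn'M : n' ∈ M := mul_mem hc'.1 m.2
    have hn'S : ∀ s ∈ (S : Subgroup G), n' * s * n'⁻¹ ∈ (S : Subgroup G) := by
      intro s hs
      have h1 := hconj _ ⟨s, hs, rfl⟩
      rw [← hcs] at h1
      have h2 := mul_mem (mul_mem (inv_mem hs₀) h1) hs₀
      convert h2 using 1
      rw [hn', MulEquiv.coe_toMonoidHom, MulAut.conj_apply]
      group
    have hfix : cen S ≤ centralizer ({n'} : Set G) := by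
      have h1 := center_le_of_squares hsh ((centralizer ({n'} : Set G)).subgroupOf (S : Subgroup G)) fun x => by
        rw [mem_subgroupOf]
        refine mem_centralizer_singleton_iff.2 ?_
        set k := n' * (x : G) * n'⁻¹ * (x : G)⁻¹ with hkdef
        have hk : k ∈ cen S := by
          rw [← hT]
          refine ⟨(S : Subgroup G).mul_mem (hn'S x x.2) ((S : Subgroup G).inv_mem x.2), ?_⟩
          rw [hkdef, show n' * (x : G) * n'⁻¹ * (x : G)⁻¹ = n' * ((x : G) * n'⁻¹ * (x : G)⁻¹) by group]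
          exact M.mul_mem hn'M (hMn.conj_mem _ (M.inv_mem hn'M) x)
        have h2 : n' * ((x : G) * x) * n'⁻¹ = (x : G) * x := by
          calc n' * ((x : G) * x) * n'⁻¹ = k * x * (k * x) := by rw [hkdef]; group
            _ = k * (k * x) * x := by rw [mul_assoc k, ← mul_assoc (x : G), ← comm_of_cen hk x.2]; group
            _ = (k * k) * ((x : G) * x) := by group
            _ = (x : G) * x := by rw [cen_mul_self hsh hk, one_mul]
        show (x : G) * x * n' = n' * ((x : G) * x)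
        calc (x : G) * x * n' = n' * ((x : G) * x) * n'⁻¹ * n' := by rw [h2]
          _ = n' * ((x : G) * x) := by group
      intro v hv
      exact mem_subgroupOf.1 (h1 ((mem_cen (cen_le hv)).1 hv))
    have hwV : ((w : M) : G) ∈ cen S := hT ▸ ⟨(hRS w).1 hw, w.2⟩
    refine hmw (Subtype.ext ?_)
    show ((w : M) : G) * (m : G) = (m : G) * (w : M)
    have h1 : ((w : M) : G) * n' = n' * (w : M) := mem_centralizer_singleton_iff.1 (hfix hwV)
    refine mul_left_cancel (a := s₀⁻¹ * c * s₀) ?_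
    rw [← mul_assoc, hKc _ hc' _ hwV, mul_assoc, ← hn', h1, hn', mul_assoc]
  · exfalso
    obtain ⟨n, hn, -, x, y, hx, hy, hxy⟩ := hq
    rw [hcentR y (by rw [← pow_two]; exact orderOf_dvd_iff_pow_eq_one.1 (dvd_of_eq hy)) x, mul_inv_cancel_right] at hxy
    have h4 : 2 ^ 2 ≤ 2 ^ (n - 1) := Nat.pow_le_pow_right two_pos (by omega)
    have hlt : 2 ^ n = 2 ^ (n - 1) + 2 ^ (n - 1) := by
      rw [← two_mul, ← pow_succ', show n - 1 + 1 = n by omega]
    have h1 : x ^ (2 ^ (n - 1) - 2) = 1 := by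
      refine mul_right_cancel (b := x) ?_
      rw [← pow_succ, show 2 ^ (n - 1) - 2 + 1 = 2 ^ (n - 1) - 1 by omega, one_mul]
      exact hxy.symm
    have h2 := Nat.le_of_dvd (by omega) (orderOf_dvd_of_pow_eq_one h1)
    rw [hx] at h2
    omega
  · exfalso
    obtain ⟨n, hn, -, x, y, z, hx, -, hinf, hz, hzxy⟩ := hw
    rw [hcentR z (by rw [← pow_two]; exact orderOf_dvd_iff_pow_eq_one.1 (dvd_of_eq hz)) x, mul_inv_cancel_right] at hzxy
    subst hzxy
    rw [inf_idem, zpowers_eq_bot] at hinf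
    rw [hinf, orderOf_one] at hx
    have := Nat.one_lt_two_pow (n := n) (by omega)
    omega
  · have hle : (S : Subgroup G) ≤ M := by
      have h1 : (S : Subgroup G) ⊓ M = (S : Subgroup G) := Subgroup.eq_of_le_of_card_ge inf_le_left (by
        rw [hsh.card, ← Nat.card_congr (subgroupOfEquivOfLe (inf_le_right : (S : Subgroup G) ⊓ M ≤ M)).toEquiv,
          ← hR, (shape_of_sylow hF P d).card])
      exact inf_eq_left.1 h1
    have hMtop := hO' M hMn (odd_index S hle)
    obtain ⟨f⟩ := s0486_of hM hF R P ⟨d⟩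
    exact ⟨((Subgroup.topEquiv).symm.trans (MulEquiv.subgroupCongr hMtop.symm)).trans f⟩

/-- The kernel case holds. -/
theorem centralNormal : CentralNormal.{u} := fun _ _ _ _ hS hZ hO => normal_of_central hS hZ hO

/-- Centralisers of involutions are solvable for a Sylow subgroup of this shape. -/
theorem solvable_centralizer_of_shape (hS : Shape ↥(S : Subgroup G)) {t : G} (ht : orderOf t = 2) :
    Group.IsSolvable ↥(centralizer ({t} : Set G)) :=
  solvable_centralizer centralNormal hS ht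

theorem s3176_of (hM : Main.{u}) {F : Type*} [Field F] [Fintype F] (hF : Fintype.card F = 16) (S : Sylow 2 G)
    (P : Sylow 2 (Cfsg.PSU 3 F 4)) (hS : Nonempty (↥(S : Subgroup G) ≃* ↥(P : Subgroup (Cfsg.PSU 3 F 4))))
    (hO : Cfsg.oddCore G = ⊥) (hO' : ∀ N : Subgroup G, N.Normal → Odd N.index → N = ⊤) :
    Nonempty (G ≃* Cfsg.PSU 3 F 4) ∨ (S : Subgroup G) = ⊤ :=
  s3176_of_central hM centralNormal hF S P hS hO hO'

end Cfsg.Agent.Transfer.UFLyons
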