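import Cfsg.Agent.Lib.Transfer.UnitaryFour.Local
import Cfsg.Agent.Lib.Invol.SPEmbedded

/-!
# A proper subgroup with the normalizer of `S` and the centralisers of central involutions is strongly embedded
-/

set_option autoImplicit false
set_option linter.unusedSectionVars false
set_option linter.style.haveILetI false

namespace Cfsg.Agent.Transfer.UFLyons

open Subgroup UnitaryFour

universe u

theorem stronglyEmbedded_of_centralizers {G : Type u} [Group G] [Finite G] {S : Sylow 2 G}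
    (hS : Shape ↥(S : Subgroup G)) (X : Subgroup G) (hX : X ≠ ⊤)
    (hN : normalizer ((S : Subgroup G) : Set G) ≤ X)
    (hC : ∀ v ∈ cen S, v ≠ 1 → centralizer ({v} : Set G) ≤ X) : Cfsg.IsStronglyPEmbedded 2 X := by
  haveI : Fact (Nat.Prime 2) := ⟨Nat.prime_two⟩
  have hSX : (S : Subgroup G) ≤ X := le_normalizer.trans hN
  have h2 : 2 ∣ Nat.card (S : Subgroup G) := by rw [hS.card]; norm_num
  -- every involution of `X` is conjugate in `X` to an involution of the centre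
  have key : ∀ u ∈ X, orderOf u = 2 → ∃ a ∈ X, a * u * a⁻¹ ∈ cen S ∧ a * u * a⁻¹ ≠ 1 := by
    intro u hu hu2
    obtain ⟨a, ha⟩ := Invol.exists_conj_mem_sylow (x := (⟨u, hu⟩ : X)) (n := 1)
      (by rw [Subgroup.orderOf_mk, hu2, pow_one]) (S.subtype hSX)
    have ha' : (a : G) * u * (a : G)⁻¹ ∈ (S : Subgroup G) := ha
    have ho : orderOf ((a : G) * u * (a : G)⁻¹) = 2 := by rw [Invol.orderOf_conj_eq, hu2]
    refine ⟨a, a.2, (mem_cen ha').2 (hS.inv _ (Subtype.ext ?_)), fun e => ?_⟩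
    · show (a : G) * u * (a : G)⁻¹ * ((a : G) * u * (a : G)⁻¹) = 1
      rw [← pow_two, ← ho, pow_orderOf_eq_one]
    · rw [e, orderOf_one] at ho
      omega
  refine Invol.isStronglyPEmbedded_iff.2 ⟨h2.trans (Subgroup.card_dvd_of_le hSX), hX, fun g hg hd => ?_⟩
  obtain ⟨u, huI, hu2⟩ := Invol.exists_orderOf_prime_mem hd
  obtain ⟨huX, hug⟩ := mem_inf.1 huI
  rw [Invol.mem_map_conj] at hug
  obtain ⟨a, haX, hv, hv1⟩ := key u huX hu2
  obtain ⟨b, hbX, hw, -⟩ := key (g⁻¹ * u * g) hug (by rw [← hu2, ← Invol.orderOf_conj_eq g⁻¹ u, inv_inv])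
  have hcS : ∀ v ∈ cen S, v ∈ centralizer ((S : Subgroup G) : Set G) := fun v hv =>
    mem_centralizer_iff.2 fun s hs => (comm_of_cen hv hs).symm
  set h := a * g * b⁻¹ with hh
  have he : h⁻¹ * (a * u * a⁻¹) * h = b * (g⁻¹ * u * g) * b⁻¹ := by rw [hh]; group
  obtain ⟨n, hn, hnv⟩ := Sylow.conj_eq_normalizer_conj_of_mem_centralizer S (a * u * a⁻¹) h (hcS _ hv)
    (by rw [he]; exact hcS _ hw)
  have hc : h * n⁻¹ ∈ centralizer ({a * u * a⁻¹} : Set G) := by
    refine mem_centralizer_singleton_iff.2 ?_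
    calc h * n⁻¹ * (a * u * a⁻¹) = h * (n⁻¹ * (a * u * a⁻¹) * n) * n⁻¹ := by group
      _ = h * (h⁻¹ * (a * u * a⁻¹) * h) * n⁻¹ := by rw [hnv]
      _ = a * u * a⁻¹ * (h * n⁻¹) := by group
  have hhX : h ∈ X := by simpa using mul_mem (hC _ hv hv1 hc) (hN hn)
  have := mul_mem (mul_mem (inv_mem haX) hhX) hbX
  rw [show a⁻¹ * h * b = g by rw [hh]; group] at this
  exact hg this

end Cfsg.Agent.Transfer.UFLyons
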