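import Cfsg.Agent.Lib.Transfer.UFLyons.Large
import Cfsg.Agent.Lib.Transfer.UFLyons.Embed
import Cfsg.Agent.Lib.Invol.GW.Dihedral.Orbit
import Cfsg.Agent.Lib.Transfer.UnitaryFour.Orbits

/-!
# The step `j = 1`: the core is abelian of exponent three or five, or some subgroup is strongly embedded

A character exceeding its average over `K` by 64 is on `K` the sum of the 64 conjugates of one linear character `l`.
-/

set_option autoImplicit false
set_option linter.unusedSectionVars false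
set_option linter.style.haveILetI false

open scoped ComplexConjugate Pointwise

namespace Cfsg.Agent.Transfer.UFLyons

open Cfsg Subgroup UnitaryFour UnitaryCore Cfsg.Agent.Block

universe u

variable {G : Type u} [Group G] [Fintype G] {S : Sylow 2 G} {z x : G} {K : Subgroup G}

/-- Finiteness of the Sylow subgroup. -/
noncomputable local instance fintypeSylow : Fintype ↥(S : Subgroup G) := Fintype.ofFinite _

/-- Conjugation on the core by an element of the centraliser. -/
noncomputable def conjK (D : Data S z x K ⊥) {g : G} (hg : g ∈ centralizer ({z} : Set G)) : ↥K →* ↥K where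
  toFun k := ⟨g * k * g⁻¹, D.K_norm g hg k k.2⟩
  map_one' := Subtype.ext (by simp)
  map_mul' a b := Subtype.ext (by simp [mul_assoc])

theorem coe_conjK (D : Data S z x K ⊥) {g : G} (hg : g ∈ centralizer ({z} : Set G)) (k : ↥K) :
    ((conjK D hg k : ↥K) : G) = g * k * g⁻¹ := rfl

/-- The conjugates of a linear character by an element of `S`. -/
noncomputable def conjL (D : Data S z x K ⊥) (l : ↥K →* ℂˣ) (w : ↥(S : Subgroup G)) : ↥K →* ℂˣ :=
  l.comp (conjK D (D.S_le_cent w.2))

theorem conjL_one (D : Data S z x K ⊥) (l : ↥K →* ℂˣ) : conjL D l 1 = l :=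
  MonoidHom.ext fun k => congrArg l (Subtype.ext (by simp [coe_conjK]))

theorem conjL_pow (D : Data S z x K ⊥) (l : ↥K →* ℂˣ) (n : ℕ) (w : ↥(S : Subgroup G)) :
    conjL D (l ^ n) w = conjL D l w ^ n :=
  MonoidHom.ext fun k => by
    simp only [conjL, MonoidHom.comp_apply, MonoidHom.pow_apply]

theorem pow_iff_cast {M : Type*} [CommGroup M] (l : M) {o : ℕ} (ho : orderOf l = o) (a b : ℕ) :
    l ^ a = l ^ b ↔ (a : ZMod o) = (b : ZMod o) := by
  rw [pow_eq_pow_iff_modEq, ho, ZMod.natCast_eq_natCast_iff]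

theorem hom_pow_mul {M : Type*} [MulOneClass M] (l : M →* ℂˣ) (a b : ℕ) : l ^ (a * b) = (l ^ a) ^ b :=
  MonoidHom.ext fun k => by simp only [MonoidHom.pow_apply, pow_mul]

theorem hom_pow_succ {M : Type*} [MulOneClass M] (l : M →* ℂˣ) (a : ℕ) : l ^ (a + 1) = l ^ a * l :=
  MonoidHom.ext fun k => by simp only [MonoidHom.mul_apply, MonoidHom.pow_apply, pow_succ]

/-- On the core the character is its average plus the 64 conjugates of a linear character. -/
theorem exists_linear_orbit (D : Data S z x K ⊥) (hall : Everywhere S) {I : Ideal AlgInt} (hI : IsPModular 2 I)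
    {χ : IrrCharacter G} (hχ : χ ∈ principalBlock I G) [Fintype ↥K] {m : ℂ}
    (hm : (Nat.card K : ℂ)⁻¹ * (∑ k : ↥K, (χ : G → ℂ) k) = m)
    (hdeg : (charDegree (χ : G → ℂ) : ℂ) = m + 64) :
    ∃ l : ↥K →* ℂˣ, ∀ k : ↥K,
      (χ : G → ℂ) k = m + ∑ w : ↥(S : Subgroup G), (conjL D l w k : ℂ) := by
  classical
  haveI : Fact (Nat.Prime 2) := ⟨Nat.prime_two⟩
  obtain ⟨s, hs, hsz⟩ := D.exists_root
  set H : Subgroup G := K ⊔ (S : Subgroup G) with hH
  have hKH : K ≤ H := le_sup_left
  have hSH : (S : Subgroup G) ≤ H := le_sup_right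
  have hSn : (S : Subgroup G) ≤ normalizer (K : Set G) := fun w hw => mem_normalizer_iff.2 fun k =>
    ⟨D.K_norm w (D.S_le_cent hw) k, fun h => by
      have := D.K_norm w⁻¹ (inv_mem (D.S_le_cent hw)) _ h
      simpa [mul_assoc] using this⟩
  haveI hN : (K.subgroupOf H).Normal :=
    ⟨fun k hk g => mem_subgroupOf.2 (((mem_normalizer_iff.1 ((sup_le Subgroup.le_normalizer hSn : H ≤ _) g.2)) _).1
      (mem_subgroupOf.1 hk))⟩
  set N := K.subgroupOf H with hNdef
  set eN : ↥N ≃* ↥K := subgroupOfEquivOfLe hKH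
  letI : Fintype ↥N := Fintype.ofFinite _
  letI : Fintype ↥H := Fintype.ofFinite _
  set res : ↥H → ℂ := fun g => (χ : G → ℂ) g with hres
  have hresc : IsCharacter ↥H res := Char.IsChar.res (irr_isChar χ) H
  set f : ↥H → ℂ := fun g => res g - Char.avgN N res g with hf
  have hfg : IsGeneralizedCharacter ↥H f :=
    ⟨res, Char.avgN N res, hresc, Char.IsChar.avgN N hresc, rfl⟩
  have havgN : ∀ v : ↥N, Char.avgN N res (v : ↥H) = m := by
    intro v
    have e1 : Char.avgN N res (v : ↥H) = Char.avgN N res 1 := by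
      have := Char.avgN_mul_left N res v 1
      rwa [mul_one] at this
    rw [e1, Char.avgN, ← hm, Nat.card_congr eN.toEquiv]
    congr 1
    exact Fintype.sum_equiv eN.toEquiv _ _ fun n => by rw [mul_one]; rfl
  have hvan : ∀ g : ↥H, g ∉ N → f g = 0 := by
    intro g hg
    obtain ⟨k, hk, w, hw, e⟩ : ∃ k ∈ K, ∃ w ∈ (S : Subgroup G), k * w = (g : G) := by
      have : (g : G) ∈ (((K ⊔ (S : Subgroup G)) : Subgroup G) : Set G) := g.2
      rw [coe_mul_of_right_le_normalizer_left _ _ hSn] at this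
      exact this
    have hw1 : w ≠ 1 := fun h => hg (mem_subgroupOf.2 (by rw [← e, h, mul_one]; exact hk))
    have hconst : ∀ n : ↥N, res ((n : ↥H) * g) = res g := by
      intro n
      show (χ : G → ℂ) (((n : ↥H) : G) * (g : G)) = (χ : G → ℂ) g
      rw [← e, ← mul_assoc]
      have h1 := val_coset D hall hI hχ hs hsz (mul_mem (mem_subgroupOf.1 n.2) hk) hw hw1
      have h2 := val_coset D hall hI hχ hs hsz hk hw hw1
      by_cases hwc : w ∈ cen S
      · rw [h1.1 hwc, h2.1 hwc]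
      · rw [h1.2 hwc, h2.2 hwc]
    simp only [hf, Char.avgN, Finset.sum_congr rfl fun n _ => hconst n, Finset.sum_const, Finset.card_univ,
      nsmul_eq_mul, ← Nat.card_eq_fintype_card]
    rw [← mul_assoc, inv_mul_cancel₀ (Nat.cast_ne_zero.2 Nat.card_pos.ne'), one_mul, sub_self]
  have hfN : ∀ v : ↥N, f (v : ↥H) = (χ : G → ℂ) (eN v : G) - m := fun v => by
    show res (v : ↥H) - Char.avgN N res (v : ↥H) = _
    rw [havgN]
    rfl
  have hpos : ∀ ψ : IrrCharacter ↥N, 0 ≤ (classInner (fun v : ↥N => f v) (ψ : ↥N → ℂ)).re := by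
    intro ψ
    obtain ⟨n, hn⟩ := Char.IsChar.classInner_nat (Char.IsChar.res hresc N) (Char.IsIrr.isCharacter ψ.2)
    have hsplit : classInner (fun v : ↥N => f v) (ψ : ↥N → ℂ) =
        (n : ℂ) - classInner (fun _ : ↥N => m) (ψ : ↥N → ℂ) := by
      rw [← hn]
      simp only [classInner, ← mul_sub, ← Finset.sum_sub_distrib]
      congr 1
      exact Finset.sum_congr rfl fun v _ => by
        rw [show f (v : ↥H) = res (v : ↥H) - m by simp only [hf, havgN], sub_mul]
    have hone : ∀ ψ : IrrCharacter ↥N, classInner (fun _ : ↥N => m) (ψ : ↥N → ℂ) =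
        m * classInner ((trivialIrr ↥N : IrrCharacter ↥N) : ↥N → ℂ) (ψ : ↥N → ℂ) := fun ψ => by
      simp only [classInner, Finset.mul_sum]
      exact Finset.sum_congr rfl fun v _ => by
        show _ = m * ((Nat.card ↥N : ℂ)⁻¹ * ((1 : ℂ) * _))
        ring
    by_cases hψ : ψ = trivialIrr ↥N
    · subst hψ
      have h0 : classInner (fun v : ↥N => f v) ((trivialIrr ↥N : IrrCharacter ↥N) : ↥N → ℂ) = 0 := by
        simp only [classInner]
        rw [Finset.sum_congr rfl fun (v : ↥N) _ => show f (v : ↥H) * conj (((trivialIrr ↥N : IrrCharacter ↥N) : ↥N → ℂ) v) =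
          (χ : G → ℂ) (eN v : G) - m by rw [hfN]; show _ * conj (1 : ℂ) = _; rw [map_one, mul_one],
          Finset.sum_sub_distrib, Finset.sum_const, Finset.card_univ, ← Nat.card_eq_fintype_card, nsmul_eq_mul,
          Fintype.sum_equiv eN.toEquiv (fun v => (χ : G → ℂ) (eN v : G)) (fun k : ↥K => (χ : G → ℂ) k) fun _ => rfl,
          ← hm, Nat.card_congr eN.toEquiv, mul_sub,
          ← mul_assoc (Nat.card ↥K : ℂ)⁻¹ (Nat.card ↥K : ℂ), inv_mul_cancel₀ (Nat.cast_ne_zero.2 Nat.card_pos.ne'),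
          one_mul, sub_self]
      rw [h0, Complex.zero_re]
    · rw [hsplit, hone, Char.classInner_irr_ne (trivialIrr ↥N).2 ψ.2 fun e => hψ (Subtype.ext e.symm), mul_zero,
        sub_zero, Complex.natCast_re]
      exact Nat.cast_nonneg _
  set T := (S : Subgroup G).subgroupOf H
  letI : Fintype ↥T := Fintype.ofFinite _
  obtain ⟨Θ, hΘ, hsum⟩ := Invol.GW.Dihedral.Orbit.exists_orbit_char N T
    (by rw [Nat.card_congr eN.toEquiv]; exact D.K_odd) (S.isPGroup'.comap_of_injective H.subtype H.subtype_injective)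
    ((Subgroup.eq_bot_iff_forall _).2 fun g hg => Subtype.ext
      (D.core_inf_S (mem_subgroupOf.1 hg.1) (mem_subgroupOf.1 hg.2))) hfg hvan hpos
  obtain ⟨d, hd⟩ := Char.IsChar.one_eq_nat hΘ
  set eT : ↥T ≃* ↥(S : Subgroup G) := subgroupOfEquivOfLe hSH
  have hd1 : d = 1 := by
    have h := hsum 1
    rw [hfN, map_one, Subgroup.coe_one, charDeg_spec' χ, hdeg, add_sub_cancel_left,
      Finset.sum_congr rfl (g := fun _ => (d : ℂ)) fun t _ => by
        rw [Char.conjN_apply, ← hd]
        exact congrArg Θ (Subtype.ext (by simp)),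
      Finset.sum_const, Finset.card_univ, ← Nat.card_eq_fintype_card, Nat.card_congr eT.toEquiv, D.card_S,
      nsmul_eq_mul] at h
    have h' : ((64 : ℕ) : ℂ) = ((64 * d : ℕ) : ℂ) := by push_cast; exact h
    have := Nat.cast_injective h'
    omega
  rw [hd1, Nat.cast_one] at hd
  obtain ⟨l', hl'⟩ := Char.linearHom_of_isCharacter hΘ hd
  refine ⟨l'.comp eN.symm.toMonoidHom, fun k => ?_⟩
  have h := hsum (eN.symm k)
  rw [hfN, MulEquiv.apply_symm_apply, sub_eq_iff_eq_add'] at h
  rw [h]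
  congr 1
  refine Fintype.sum_equiv eT.toEquiv _ _ fun t => ?_
  rw [Char.conjN_apply, hl']
  rfl

/-- Equal sums of the 64 conjugates come from conjugate linear characters. -/
theorem exists_conj_of_sum [Fintype ↥K] (D : Data S z x K ⊥) {l l₁ : ↥K →* ℂˣ}
    (h : ∀ k : ↥K, ∑ w : ↥(S : Subgroup G), (conjL D l w k : ℂ) = ∑ w : ↥(S : Subgroup G), (conjL D l₁ w k : ℂ)) :
    ∃ w : ↥(S : Subgroup G), conjL D l w = l₁ := by
  classical
  by_contra hno
  push Not at hno
  have key : ∀ μ : ↥K →* ℂˣ, ∑ k : ↥K, (μ k : ℂ) * ((l₁⁻¹ : ↥K →* ℂˣ) k : ℂ) =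
      if μ = l₁ then (Nat.card ↥K : ℂ) else 0 := by
    intro μ
    simp only [← Units.val_mul, ← MonoidHom.mul_apply]
    split_ifs with e
    · rw [e, mul_inv_cancel]
      simp [Nat.card_eq_fintype_card]
    · exact Char.linear_sum _ fun h1 => e (mul_inv_eq_one.1 h1)
  have h1 : ∑ k : ↥K, (∑ w : ↥(S : Subgroup G), (conjL D l w k : ℂ)) * ((l₁⁻¹ : ↥K →* ℂˣ) k : ℂ) = 0 := by
    simp only [Finset.sum_mul]
    rw [Finset.sum_comm]
    exact Finset.sum_eq_zero fun w _ => by rw [key, if_neg (hno w)]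
  simp only [h] at h1
  simp only [Finset.sum_mul] at h1
  rw [Finset.sum_comm, Finset.sum_congr rfl fun w _ => key _] at h1
  have h2 : (0 : ℕ) < ∑ w : ↥(S : Subgroup G), if conjL D l₁ w = l₁ then Nat.card ↥K else 0 :=
    lt_of_lt_of_le (by rw [if_pos (conjL_one D l₁)]; exact Nat.card_pos)
      (Finset.single_le_sum (f := fun w => if conjL D l₁ w = l₁ then Nat.card ↥K else 0) (fun _ _ => Nat.zero_le _)
        (Finset.mem_univ (1 : ↥(S : Subgroup G))))
  have h3 : ((∑ w : ↥(S : Subgroup G), if conjL D l₁ w = l₁ then Nat.card ↥K else 0 : ℕ) : ℂ) = ((0 : ℕ) : ℂ) := by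
    push_cast
    exact h1
  exact h2.ne' (Nat.cast_injective h3)

/-- The only powers of `l` conjugate to `l` under `S` are `l` and its inverse. -/
theorem pow_eq_or (D : Data S z x K ⊥) (hinv : ∀ a ∈ cen S, ∀ k ∈ K, a * k * a⁻¹ = k ∨ a * k * a⁻¹ = k⁻¹)
    (hall : ∀ a ∈ cen S, (∀ k ∈ K, a * k * a⁻¹ = k) ∨ ∀ k ∈ K, a * k * a⁻¹ = k⁻¹)
    {l : ↥K →* ℂˣ} {y : G} (hy : y ∈ normalizer ((S : Subgroup G) : Set G)) (hyz : y ∈ centralizer ({z} : Set G))
    (hfix : l.comp (conjK D hyz) = l)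
    (hfpf : ∀ w ∈ (S : Subgroup G), y * w * y⁻¹ * w⁻¹ ∈ cen S → w ∈ cen S)
    {w : ↥(S : Subgroup G)} {u : ℕ} (hw : conjL D l w = l ^ u) : l ^ u = l ∨ l ^ u = l⁻¹ := by
  classical
  let Q := ↥(S : Subgroup G) ⧸ center ↥(S : Subgroup G)
  haveI : Fintype Q := Fintype.ofFinite _
  let π := QuotientGroup.mk' (center ↥(S : Subgroup G))
  have hQc : ∀ p q : Q, p * q = q * p := fun p q => by
    obtain ⟨c, rfl⟩ := QuotientGroup.mk_surjective p
    obtain ⟨d, rfl⟩ := QuotientGroup.mk_surjective q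
    refine QuotientGroup.eq.2 ?_
    have h1 := D.shape.comm d⁻¹ c⁻¹
    rw [inv_inv, inv_inv] at h1
    rwa [show (c * d)⁻¹ * (d * c) = d⁻¹ * c⁻¹ * d * c by simp [mul_assoc]]
  -- the twist of an element of `S`
  let φ : ↥(S : Subgroup G) → ↥(S : Subgroup G) := fun r => cj hy r * r⁻¹
  set U : Finset ↥(S : Subgroup G) := Finset.univ.filter fun r => ∃ v : ℕ, conjL D l r = l ^ v with hU
  set P : Finset ↥(S : Subgroup G) := Finset.univ.filter fun r => conjL D l r = l with hP
  have hφP : ∀ r ∈ U, φ r ∈ P := by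
    intro r hr
    obtain ⟨v, hv⟩ := (Finset.mem_filter.1 hr).2
    refine Finset.mem_filter.2 ⟨Finset.mem_univ _, MonoidHom.ext fun k => ?_⟩
    have hfix' : ∀ k : ↥K, l (conjK D hyz k) = l k := fun k => DFunLike.congr_fun hfix k
    have hv' : ∀ k : ↥K, l (conjK D (D.S_le_cent r.2) k) = l k ^ v := fun k => DFunLike.congr_fun hv k
    set k₁ := conjK D (inv_mem (D.S_le_cent r.2)) k
    set k₂ := conjK D (inv_mem hyz) k₁
    have e : conjK D (D.S_le_cent (φ r).2) k = conjK D hyz (conjK D (D.S_le_cent r.2) k₂) := Subtype.ext (by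
      show ((φ r : ↥(S : Subgroup G)) : G) * k * ((φ r : ↥(S : Subgroup G)) : G)⁻¹ = y * ((r : G) * (y⁻¹ * ((r : G)⁻¹ * k * ((r : G)⁻¹)⁻¹) * (y⁻¹)⁻¹) * (r : G)⁻¹) * y⁻¹
      show ((cj hy r : ↥(S : Subgroup G)) : G) * (r : G)⁻¹ * k * (((cj hy r : ↥(S : Subgroup G)) : G) * (r : G)⁻¹)⁻¹ = _
      rw [coe_cj]
      group)
    show l (conjK D (D.S_le_cent (φ r).2) k) = l k
    rw [e, hfix', hv']
    have e2 : conjK D hyz k₂ = k₁ := Subtype.ext (by
      show y * (y⁻¹ * (k₁ : G) * (y⁻¹)⁻¹) * y⁻¹ = (k₁ : G)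
      group)
    rw [← hfix' k₂, e2, ← hv']
    exact congrArg l (Subtype.ext (by
      show (r : G) * ((r : G)⁻¹ * k * ((r : G)⁻¹)⁻¹) * (r : G)⁻¹ = k
      group))
  have hPU : P ⊆ U := fun r hr => Finset.mem_filter.2
    ⟨Finset.mem_univ _, 1, (Finset.mem_filter.1 hr).2.trans (pow_one l).symm⟩
  -- injective on cosets, so bijective on the image of `U`
  have hinj : ∀ r r' : ↥(S : Subgroup G), π (φ r) = π (φ r') → π r = π r' := by
    intro r r' e
    have hsw : π (φ (r * r'⁻¹)) = 1 := by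
      letI : CommGroup Q := { (inferInstance : Group Q) with mul_comm := hQc }
      have e0 : π (φ (r * r'⁻¹)) = π (φ r) * (π (φ r'))⁻¹ := by
        simp only [φ, map_mul, map_inv, mul_inv_rev, inv_inv]
        simp only [mul_comm, mul_left_comm, mul_assoc]
      rw [e0, e, mul_inv_cancel]
    have h1 : φ (r * r'⁻¹) ∈ center ↥(S : Subgroup G) := (QuotientGroup.eq_one_iff _).1 hsw
    have h2 := hfpf _ (r * r'⁻¹).2 ((mem_cen (φ (r * r'⁻¹)).2).2 h1)
    have h3 : π (r * r'⁻¹) = 1 := (QuotientGroup.eq_one_iff _).2 ((mem_cen (r * r'⁻¹).2).1 h2)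
    rwa [map_mul, map_inv, mul_inv_eq_one] at h3
  have hwU : w ∈ U := Finset.mem_filter.2 ⟨Finset.mem_univ _, u, hw⟩
  have hcard : (U.image π).card ≤ (U.image fun r => π (φ r)).card := by
    refine Finset.card_le_card_of_surjOn (fun p => Classical.epsilon fun q => ∃ r ∈ U, π (φ r) = p ∧ π r = q) ?_
    intro q hq
    obtain ⟨r, hr, rfl⟩ := Finset.mem_image.1 hq
    refine ⟨π (φ r), Finset.mem_image_of_mem _ hr, ?_⟩
    obtain ⟨r', hr', e1, e2⟩ := Classical.epsilon_spec
      (p := fun q => ∃ r₀ ∈ U, π (φ r₀) = π (φ r) ∧ π r₀ = q) ⟨π r, r, hr, rfl, rfl⟩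
    exact e2.symm.trans (hinj _ _ e1)
  have hsub : (U.image fun r => π (φ r)) ⊆ P.image π := fun p hp => by
    obtain ⟨r, hr, rfl⟩ := Finset.mem_image.1 hp
    exact Finset.mem_image_of_mem _ (hφP r hr)
  have heq : P.image π = U.image π := Finset.eq_of_subset_of_card_le (Finset.image_subset_image hPU)
    (hcard.trans (Finset.card_le_card hsub))
  obtain ⟨p, hp, hpw⟩ := Finset.mem_image.1 (heq ▸ Finset.mem_image_of_mem π hwU)
  set a : ↥(S : Subgroup G) := p⁻¹ * w
  have ha : (a : G) ∈ cen S := (mem_cen a.2).2 (QuotientGroup.eq.1 hpw)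
  have hval : ∀ k : ↥K, (l ^ u) k = l (conjK D (D.S_le_cent a.2) k) := fun k => by
    rw [← hw, show w = p * a by rw [mul_inv_cancel_left]]
    show l (conjK D _ k) = _
    rw [show conjK D (D.S_le_cent (p * a).2) k = conjK D (D.S_le_cent p.2) (conjK D (D.S_le_cent a.2) k) from
      Subtype.ext (by
        show ((p * a : ↥(S : Subgroup G)) : G) * k * ((p * a : ↥(S : Subgroup G)) : G)⁻¹ = (p : G) * ((a : G) * k * (a : G)⁻¹) * (p : G)⁻¹
        rw [Subgroup.coe_mul]; group)]
    exact DFunLike.congr_fun (Finset.mem_filter.1 hp).2 _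
  rcases hall _ ha with h | h
  · left
    exact MonoidHom.ext fun k => (hval k).trans (congrArg l (Subtype.ext (h k k.2)))
  · right
    exact MonoidHom.ext fun k => by
      rw [hval, MonoidHom.inv_apply, ← map_inv]
      exact congrArg l (Subtype.ext (h k k.2))

/-- Totient at most four, odd and not one: three or five. -/
theorem three_or_five {o : ℕ} (ho : Odd o) (h1 : o ≠ 1) (ht : o.totient ≤ 4) : o = 3 ∨ o = 5 := by
  have hpos : 0 < o.totient := Nat.totient_pos.2 ho.pos
  have hdiv : ∀ {d : ℕ}, d ∣ o → d.totient ≤ 4 := fun hd =>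
    (Nat.le_of_dvd hpos (Nat.totient_dvd_of_dvd hd)).trans ht
  have hprime : ∀ {q : ℕ}, q.Prime → q ∣ o → q = 3 ∨ q = 5 := by
    intro q hq hd
    have h := hdiv hd
    rw [Nat.totient_prime hq] at h
    have h2 : q ≠ 2 := fun e => Nat.not_even_iff_odd.2 ho (even_iff_two_dvd.2 (e ▸ hd))
    have := hq.two_le
    have : q ≤ 5 := by omega
    interval_cases q <;> simp_all (config := { decide := true })
  obtain ⟨q, hq, hd⟩ := Nat.exists_prime_and_dvd h1
  obtain ⟨r, rfl⟩ := hd
  by_cases hr : r = 1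
  · subst hr
    rw [mul_one]
    exact hprime hq (dvd_mul_right _ _)
  obtain ⟨q', hq', hd'⟩ := Nat.exists_prime_and_dvd hr
  have h2 := hdiv (Nat.mul_dvd_mul_left q hd')
  rcases hprime hq (dvd_mul_right _ _) with rfl | rfl <;>
    rcases hprime hq' (hd'.trans (dvd_mul_left _ _)) with rfl | rfl <;>
    exact absurd h2 (by decide)

set_option maxHeartbeats 1000000 in
/-- The character side, in a simple group. -/
theorem core_linear [IsSimpleGroup G] (D : Data S z x K ⊥) (hall : Everywhere S) :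
    (∃ X : Subgroup G, Cfsg.IsStronglyPEmbedded 2 X) ∨
      ((∀ y ∈ K, ∀ y' ∈ K, y * y' = y' * y) ∧ K ⊓ centralizer (cen S : Set G) = ⊥ ∧
        ∃ p : ℕ, p.Prime ∧ ∀ y ∈ K, y ^ p = 1) := by
  classical
  haveI : Fact (Nat.Prime 2) := ⟨Nat.prime_two⟩
  by_cases hK : K = ⊥
  · right
    refine ⟨fun y hy y' hy' => ?_, by rw [hK, bot_inf_eq], 3, Nat.prime_three, fun y hy => ?_⟩
    · rw [hK, Subgroup.mem_bot] at hy hy'
      rw [hy, hy']
    · rw [hK, Subgroup.mem_bot] at hy
      rw [hy, one_pow]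
  obtain ⟨I, hI⟩ := Cfsg.Agent.Char.exists_isPModular 2 Nat.prime_two
  obtain ⟨χ, hχ, hne, hdeg, horb⟩ := exists_small D hall hK hI
  letI : Fintype ↥K := Fintype.ofFinite _
  set m : ℂ := (Nat.card K : ℂ)⁻¹ * (∑ k : ↥K, (χ : G → ℂ) k) with hm
  obtain ⟨l, hl⟩ := exists_linear_orbit D hall hI hχ hm.symm hdeg
  have hker : ∀ k : ↥K, (∀ w : ↥(S : Subgroup G), conjL D l w k = 1) → k = 1 := by
    intro k hk
    refine Subtype.ext ?_
    have h : (χ : G → ℂ) k = (χ : G → ℂ) 1 := by
      rw [hl k, charDeg_spec' χ, hdeg, Finset.sum_congr rfl (g := fun _ => (1 : ℂ)) fun w _ => by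
        rw [hk w, Units.val_one], Finset.sum_const, Finset.card_univ, ← Nat.card_eq_fintype_card, D.card_S,
        nsmul_eq_mul, mul_one]
      norm_num
    rcases (Cfsg.Agent.Char.charKer_normal (irr_isChar χ)).eq_bot_or_eq_top with hk' | hk'
    · exact Subgroup.mem_bot.1 (hk' ▸ (Cfsg.Agent.Char.mem_charKer _).2 h)
    · exact absurd (Subtype.ext (Cfsg.Agent.Char.irr_const_eq_one χ.2 fun g =>
        (Cfsg.Agent.Char.mem_charKer (irr_isChar χ)).1 (hk' ▸ Subgroup.mem_top g))) hne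
  have habK : ∀ a b : ↥K, a * b = b * a := fun a b => by
    rw [← mul_inv_eq_one, ← hker (a * b * (b * a)⁻¹) fun w => by
      rw [map_mul, map_inv, map_mul, map_mul, mul_comm (conjL D l w b), mul_inv_cancel]]
  have hab : ∀ y ∈ K, ∀ y' ∈ K, y * y' = y' * y := fun y hy y' hy' =>
    congrArg Subtype.val (habK ⟨y, hy⟩ ⟨y', hy'⟩)
  have hzK : ∀ k ∈ K, z * k * z⁻¹ = k := fun k hk => by
    rw [← mem_centralizer_singleton_iff.1 (D.K_le hk), mul_inv_cancel_right]
  have hTA : ∀ t ∈ (S : Subgroup G) ⊔ zpowers x, t ∈ centralizer (cen S : Set G) :=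
    (sup_le (fun w hw => mem_centralizer_iff.2 fun v hv => comm_of_cen hv hw)
      (zpowers_le.2 (mem_centralizer_iff.2 fun v hv => (D.xcen v hv).symm)) :
      (S : Subgroup G) ⊔ zpowers x ≤ centralizer (cen S : Set G))
  by_cases hA : K ⊓ centralizer (cen S : Set G) = ⊥
  swap
  · left
    set W := K ⊓ centralizer (cen S : Set G) with hW
    have hWodd : Odd (Nat.card W) := D.K_odd.of_dvd_nat (card_dvd_of_le inf_le_left)
    have conjW : ∀ g : G, (∀ v ∈ cen S, g * v * g⁻¹ ∈ cen S) → (∀ v ∈ cen S, g⁻¹ * v * g ∈ cen S) →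
        ∀ k ∈ centralizer (cen S : Set G), g * k * g⁻¹ ∈ centralizer (cen S : Set G) := by
      intro g _ hg' k hk
      refine mem_centralizer_iff.2 fun v hv => ?_
      calc v * (g * k * g⁻¹) = g * ((g⁻¹ * v * g) * k) * g⁻¹ := by group
        _ = g * (k * (g⁻¹ * v * g)) * g⁻¹ := by rw [mem_centralizer_iff.1 hk _ (hg' v hv)]
        _ = g * k * g⁻¹ * v := by group
    have hnS : ∀ n ∈ normalizer ((S : Subgroup G) : Set G), ∀ k ∈ W, n * k * n⁻¹ ∈ W := by
      intro n hn k hk
      have hcn : ∀ v ∈ cen S, n⁻¹ * v * n ∈ cen S := fun v hv => by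
        have := D.conj_cen (inv_mem hn) hv
        rwa [inv_inv] at this
      have hC : W.map (MulAut.conj n).toMonoidHom ≤ centralizer (cen S : Set G) := by
        rintro _ ⟨c, hc, rfl⟩
        exact conjW n (fun v hv => D.conj_cen hn hv) hcn c hc.2
      refine ⟨odd_le_core D (W := W.map (MulAut.conj n).toMonoidHom) ?_
        (hC.trans (centralizer_le (Set.singleton_subset_iff.2 D.hz))) ?_ ⟨k, hk, rfl⟩, hC ⟨k, hk, rfl⟩⟩
      · rw [card_map_of_injective (MulAut.conj n).injective]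
        exact hWodd
      · intro w hw
        refine mem_normalizer_iff.2 fun c => ?_
        have key : ∀ w ∈ (S : Subgroup G), ∀ c ∈ W.map (MulAut.conj n).toMonoidHom,
            w * c * w⁻¹ ∈ W.map (MulAut.conj n).toMonoidHom := by
          rintro w hw _ ⟨c, hc, rfl⟩
          have hw' : n⁻¹ * w * n ∈ (S : Subgroup G) := (mem_normalizer_iff''.1 hn w).1 hw
          refine ⟨(n⁻¹ * w * n) * c * (n⁻¹ * w * n)⁻¹, ⟨D.K_norm _ (D.S_le_cent hw') c hc.1,
            (centralizer (cen S : Set G)).mul_mem ((centralizer (cen S : Set G)).mul_mem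
              (hTA _ (mem_sup_left hw')) hc.2) ((centralizer (cen S : Set G)).inv_mem (hTA _ (mem_sup_left hw')))⟩, ?_⟩
          simp only [MulEquiv.coe_toMonoidHom, MulAut.conj_apply]
          group
        exact ⟨key w hw c, fun h => by
          have := key w⁻¹ (inv_mem hw) _ h
          simpa [mul_assoc] using this⟩
    set X := normalizer (W : Set G) with hX
    have hnX : normalizer ((S : Subgroup G) : Set G) ≤ X := fun n hn => mem_normalizer_iff.2 fun k =>
      ⟨hnS n hn k, fun h => by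
        have := hnS n⁻¹ (inv_mem hn) _ h
        simpa [mul_assoc] using this⟩
    have hzX : centralizer ({z} : Set G) ≤ X := by
      intro c hc
      have key : ∀ c ∈ centralizer ({z} : Set G), ∀ k ∈ W, c * k * c⁻¹ ∈ W := by
        intro c hc k hk
        obtain ⟨k₀, hk₀, t, ht, rfl⟩ := D.cover c hc
        have h1 : t * k * t⁻¹ ∈ K := D.K_norm t (D.T_le ht) k hk.1
        rw [show k₀ * t * k * (k₀ * t)⁻¹ = k₀ * (t * k * t⁻¹) * k₀⁻¹ by group, hab k₀ hk₀ _ h1,
          mul_inv_cancel_right]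
        exact ⟨h1, (centralizer (cen S : Set G)).mul_mem ((centralizer (cen S : Set G)).mul_mem (hTA t ht) hk.2)
          ((centralizer (cen S : Set G)).inv_mem (hTA t ht))⟩
      exact mem_normalizer_iff.2 fun k => ⟨key c hc k, fun h => by
        have := key c⁻¹ (inv_mem hc) _ h
        simpa [mul_assoc] using this⟩
    refine ⟨X, stronglyEmbedded_of_centralizers D.shape X ?_ hnX fun v hv hv1 => ?_⟩
    · intro hX1
      haveI hWn : W.Normal := normalizer_eq_top_iff.1 hX1
      rcases hWn.eq_bot_or_eq_top with h | h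
      · exact hA h
      · refine D.hz1 (eq_one_of_odd D.z_mem (hWodd.of_dvd_nat ?_))
        exact W.orderOf_dvd_natCard (h ▸ mem_top z)
    · intro c hc
      obtain ⟨n, hn, rfl⟩ := D.fused v hv hv1
      have hc' : n⁻¹ * c * n ∈ centralizer ({z} : Set G) := by
        refine mem_centralizer_singleton_iff.2 ?_
        calc n⁻¹ * c * n * z = n⁻¹ * (c * (n * z * n⁻¹)) * n := by group
          _ = n⁻¹ * ((n * z * n⁻¹) * c) * n := by rw [mem_centralizer_singleton_iff.1 hc]
          _ = z * (n⁻¹ * c * n) := by group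
      have hn' := hnX hn
      rw [show c = n * (n⁻¹ * c * n) * n⁻¹ by group]
      exact mul_mem (mul_mem hn' (hzX hc')) (inv_mem hn')
  right
  -- an involution of the centre centralises or inverts the core
  have hact : ∀ a ∈ cen S, (∀ k ∈ K, a * k * a⁻¹ = k) ∨ ∀ k ∈ K, a * k * a⁻¹ = k⁻¹ := by
    intro a ha
    by_cases ha1 : a = 1
    · exact Or.inl fun k _ => by simp [ha1]
    by_cases haz : a = z
    · exact Or.inl fun k hk => by rw [haz]; exact hzK k hk
    right
    intro k hk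
    have hak : a * k * a⁻¹ ∈ K := D.K_norm a (D.S_le_cent (cen_le ha)) k hk
    set c := k * (a * k * a⁻¹) with hc
    have hac : a * c * a⁻¹ = c := by
      rw [hc, show a * (k * (a * k * a⁻¹)) * a⁻¹ = (a * k * a⁻¹) * ((a * a) * k * (a * a)⁻¹) by group,
        D.cen_sq ha, one_mul, inv_one, mul_one, hab _ hak k hk]
    have hcW : c ∈ K ⊓ centralizer (cen S : Set G) := by
      refine ⟨mul_mem hk hak, mem_centralizer_iff.2 fun v hv => ?_⟩
      have hac' : a * c = c * a := mul_inv_eq_iff_eq_mul.1 hac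
      have hzc : z * c = c * z := (mem_centralizer_singleton_iff.1 (D.K_le (mul_mem hk hak))).symm
      have hv4 : v = 1 ∨ v = z ∨ v = a ∨ v = z * a := by
        have hsub : ({1, z, a, z * a} : Set G) ⊆ (cen S : Set G) := by
          rintro r (rfl | rfl | rfl | rfl)
          exacts [one_mem _, D.hz, ha, mul_mem D.hz ha]
        have h1 : z * a ≠ 1 := fun e => haz (by
          rw [← inv_eq_of_mul_eq_one_right D.z_sq, inv_eq_of_mul_eq_one_right e])
        have h2 : z * a ≠ z := fun e => ha1 (mul_eq_left.1 e)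
        have h3 : z * a ≠ a := fun e => D.hz1 (mul_eq_right.1 e)
        have hc4 : ({1, z, a, z * a} : Set G).ncard = 4 := by
          rw [Set.ncard_insert_of_notMem (by simp [Ne.symm D.hz1, Ne.symm ha1, Ne.symm h1]),
            Set.ncard_insert_of_notMem (by simp [Ne.symm haz, Ne.symm h2]), Set.ncard_pair (Ne.symm h3)]
        have := Set.eq_of_subset_of_ncard_le hsub
          (by rw [hc4, show (cen S : Set G).ncard = Nat.card (cen S) from rfl, D.card_cen]) (Set.toFinite _)
        have hv' : v ∈ ({1, z, a, z * a} : Set G) := this ▸ hv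
        simpa using hv'
      rcases hv4 with rfl | rfl | rfl | rfl
      · simp
      · exact hzc
      · exact hac'
      · rw [mul_assoc, hac', ← mul_assoc, hzc, mul_assoc]
    rw [hA, Subgroup.mem_bot] at hcW
    exact (inv_eq_of_mul_eq_one_right hcW).symm
  refine ⟨hab, hA, orderOf l, ?_, fun y hy => ?_⟩
  swap
  · refine congrArg Subtype.val (hker (⟨y, hy⟩ ^ orderOf l) fun w => ?_)
    show l (conjK D (D.S_le_cent w.2) (⟨y, hy⟩ ^ orderOf l)) = 1
    rw [map_pow, map_pow, ← MonoidHom.pow_apply, pow_orderOf_eq_one, MonoidHom.one_apply]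
  -- the order of `l`
  have ho1 : orderOf l ≠ 1 := fun e => hK ((Subgroup.eq_bot_iff_forall K).2 fun k hk =>
    congrArg Subtype.val (hker ⟨k, hk⟩ fun w => by
      show l _ = 1
      rw [orderOf_eq_one_iff.1 e, MonoidHom.one_apply]))
  have hodd : Odd (orderOf l) := D.K_odd.of_dvd_nat (orderOf_dvd_of_pow_eq_one (MonoidHom.ext fun k => by
    rw [MonoidHom.pow_apply, ← map_pow, pow_card_eq_one', map_one, MonoidHom.one_apply]))
  obtain ⟨s, hs⟩ := exists_conj_of_sum D (l := l) (l₁ := l.comp (conjK D (inv_mem D.x_cent))) fun k => by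
    have e1 := hl k
    have e2 := hl (conjK D (inv_mem D.x_cent) k)
    rw [coe_conjK, Char.IsClass.eq_of_isConj (irr_classFun χ)
      (isConj_iff.2 ⟨x, by group⟩ : IsConj (x⁻¹ * (k : G) * x⁻¹⁻¹) (k : G)), e1] at e2
    rw [add_left_cancel e2]
    refine Fintype.sum_equiv (cj D.hx).toEquiv _ _ fun w => ?_
    show ((l (conjK D _ (conjK D _ k)) : ℂˣ) : ℂ) = ((l (conjK D _ (conjK D _ k)) : ℂˣ) : ℂ)
    congr 2
    refine Subtype.ext ?_
    show (w : G) * (x⁻¹ * k * x⁻¹⁻¹) * (w : G)⁻¹ =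
      x⁻¹ * (((cj D.hx w : ↥(S : Subgroup G)) : G) * k * ((cj D.hx w : ↥(S : Subgroup G)) : G)⁻¹) * x⁻¹⁻¹
    rw [coe_cj]
    group
  set y := (s : G) * x with hy
  have hyz : y ∈ centralizer ({z} : Set G) := mul_mem (D.S_le_cent s.2) D.x_cent
  have hyn : y ∈ normalizer ((S : Subgroup G) : Set G) := mul_mem (le_normalizer s.2) D.hx
  have hfix : l.comp (conjK D hyz) = l := MonoidHom.ext fun k => by
    have h := DFunLike.congr_fun hs (conjK D D.x_cent k)
    rw [show l.comp (conjK D (inv_mem D.x_cent)) (conjK D D.x_cent k) = l k from congrArg l (Subtype.ext (by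
      show x⁻¹ * (x * k * x⁻¹) * x⁻¹⁻¹ = k
      group))] at h
    rw [← h]
    exact congrArg l (Subtype.ext (by
      show (s : G) * x * k * ((s : G) * x)⁻¹ = (s : G) * (x * k * x⁻¹) * (s : G)⁻¹
      group))
  have hfpf : ∀ w ∈ (S : Subgroup G), y * w * y⁻¹ * w⁻¹ ∈ cen S → w ∈ cen S := by
    intro w hw h
    have hv : x * w * x⁻¹ ∈ (S : Subgroup G) := (mem_normalizer_iff.1 D.hx w).1 hw
    refine D.fpf w hw ?_
    rw [show x * w * x⁻¹ * w⁻¹ = ((s : G) * (x * w * x⁻¹) * (s : G)⁻¹ * (x * w * x⁻¹)⁻¹)⁻¹ *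
      (y * w * y⁻¹ * w⁻¹) by rw [hy]; group]
    exact mul_mem (inv_mem (D.comm_mem s.2 hv)) h
  have hpm := fun (w : ↥(S : Subgroup G)) (n : ℕ) (h : conjL D l w = l ^ n) =>
    pow_eq_or D (fun a ha k hk => (hact a ha).imp (fun h => h k hk) fun h => h k hk) hact hyn hyz hfix hfpf h
  -- Galois
  set o := orderOf l with ho
  haveI : NeZero o := ⟨(orderOf_pos l).ne'⟩
  choose σ hσ using fun t : (ZMod o)ˣ =>
    Char.exists_ringAut_pow o (t : ZMod o).val (orderOf_pos l) (ZMod.val_coe_unit_coprime t)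
  have hgal : ∀ (t : (ZMod o)ˣ) (k : ↥K), σ t ((χ : G → ℂ) k) =
      σ t m + ∑ w : ↥(S : Subgroup G), (conjL D (l ^ (t : ZMod o).val) w k : ℂ) := by
    intro t k
    rw [hl k, map_add, map_sum]
    refine congrArg _ (Finset.sum_congr rfl fun w _ => ?_)
    rw [hσ t _ (by
      rw [← Units.val_pow_eq_pow_val]
      show (((l ^ o) (conjK D (D.S_le_cent w.2) k) : ℂˣ) : ℂ) = 1
      rw [pow_orderOf_eq_one, MonoidHom.one_apply, Units.val_one]), ← Units.val_pow_eq_pow_val]
    rfl
  have hfib : ∀ t t' : (ZMod o)ˣ, PrinCol.galIrr (σ t') χ = PrinCol.galIrr (σ t) χ → t' = t ∨ t' = -t := by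
    intro t t' e
    have happ : ∀ g : G, σ t' ((χ : G → ℂ) g) = σ t ((χ : G → ℂ) g) := fun g => congrFun (congrArg Subtype.val e) g
    have hmm : σ t' m = σ t m := by
      have h1 := happ 1
      rw [charDeg_spec' χ, hdeg, map_add, map_add, map_ofNat, map_ofNat] at h1
      exact add_right_cancel h1
    obtain ⟨w, hw⟩ := exists_conj_of_sum D (l := l ^ (t : ZMod o).val) (l₁ := l ^ (t' : ZMod o).val) fun k => by
      have h1 := happ (k : G)
      rw [hgal, hgal, hmm] at h1
      exact (add_left_cancel h1).symm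
    have hcast : ∀ a b : ℕ, (a : ZMod o) = (b : ZMod o) → l ^ a = l ^ b := fun a b h =>
      (pow_iff_cast l ho.symm a b).2 h
    have hpow : conjL D l w = l ^ ((t' : ZMod o).val * ((t⁻¹ : (ZMod o)ˣ) : ZMod o).val) := by
      have hone : l ^ ((t : ZMod o).val * ((t⁻¹ : (ZMod o)ˣ) : ZMod o).val) = l := by
        refine (hcast _ 1 ?_).trans (pow_one l)
        rw [Nat.cast_mul, ZMod.natCast_zmod_val, ZMod.natCast_zmod_val, ← Units.val_mul, mul_inv_cancel,
          Units.val_one, Nat.cast_one]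
      calc conjL D l w = conjL D (l ^ ((t : ZMod o).val * ((t⁻¹ : (ZMod o)ˣ) : ZMod o).val)) w := by rw [hone]
        _ = conjL D (l ^ (t : ZMod o).val) w ^ ((t⁻¹ : (ZMod o)ˣ) : ZMod o).val := by rw [hom_pow_mul, conjL_pow]
        _ = _ := by rw [hw, hom_pow_mul]
    rcases hpm w _ hpow with h | h
    · left
      replace h : l ^ ((t' : ZMod o).val * ((t⁻¹ : (ZMod o)ˣ) : ZMod o).val) = l ^ 1 := h.trans (pow_one l).symm
      have h' := (pow_iff_cast l ho.symm _ _).1 h
      push_cast at h'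
      rw [ZMod.natCast_zmod_val, ZMod.natCast_zmod_val, ← Units.val_mul, ← Units.val_one, Units.val_inj] at h'
      exact mul_inv_eq_one.1 h'
    · right
      have h1 : l ^ ((t' : ZMod o).val * ((t⁻¹ : (ZMod o)ˣ) : ZMod o).val + 1) = l ^ 0 := by
        rw [hom_pow_succ, h]
        exact MonoidHom.ext fun k => by
          simp only [MonoidHom.mul_apply, MonoidHom.inv_apply, MonoidHom.one_apply, inv_mul_cancel, pow_zero]
      have h' := (pow_iff_cast l ho.symm _ _).1 h1
      push_cast at h'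
      rw [ZMod.natCast_zmod_val, ZMod.natCast_zmod_val, ← Units.val_mul, add_eq_zero_iff_eq_neg] at h'
      have h2 : t' * t⁻¹ = -1 := Units.ext (by rw [h', Units.val_neg, Units.val_one])
      rw [mul_inv_eq_iff_eq_mul, neg_one_mul] at h2
      exact h2
  have hcard : Fintype.card (ZMod o)ˣ ≤ 4 := by
    have himg := horb ((Finset.univ : Finset (ZMod o)ˣ).image fun t => PrinCol.galIrr (σ t) χ) fun η hη => by
      obtain ⟨t, -, rfl⟩ := Finset.mem_image.1 hη
      exact ⟨_, rfl⟩
    have h1 := Finset.card_le_mul_card_image (f := fun t => PrinCol.galIrr (σ t) χ)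
      (s := (Finset.univ : Finset (ZMod o)ˣ)) 2 fun η hη => by
        obtain ⟨t, -, rfl⟩ := Finset.mem_image.1 hη
        refine le_trans (Finset.card_le_card (t := ({t, -t} : Finset (ZMod o)ˣ)) fun t' ht' => ?_) Finset.card_le_two
        rcases hfib t t' (Finset.mem_filter.1 ht').2 with h | h <;> simp [h]
    rw [Finset.card_univ] at h1
    omega
  rw [ZMod.card_units_eq_totient] at hcard
  rcases three_or_five hodd ho1 hcard with h | h <;> rw [h]
  exacts [Nat.prime_three, Nat.prime_five]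

end Cfsg.Agent.Transfer.UFLyons
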