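import Cfsg.Agent.Lib.Transfer.UnitaryFour.Local

/-!
# The statement behind the recognition of `PSU(3, 4)` by its Sylow 2-subgroup
-/

set_option autoImplicit false

namespace Cfsg.Agent.Transfer.UFLyons

open UnitaryFour

universe u

/-- A simple group with a Sylow 2-subgroup of the shape of `PSU(3, 4)` has a strongly embedded subgroup. -/
def Main : Prop :=
  ∀ (G : Type u) [Group G] [Finite G] [IsSimpleGroup G] (S : Sylow 2 G),
    Shape ↥(S : Subgroup G) → ∃ X : Subgroup G, Cfsg.IsStronglyPEmbedded 2 X

end Cfsg.Agent.Transfer.UFLyons
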