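import Mathlib

/-!
# The arithmetic of the principal block for a Sylow 2-subgroup of `PSU(3, 4)`

A row stands for a non-trivial character: `e` is its coefficient in the virtual character with
four further constituents, `A` and `b` are the other coefficient data, `f` is the degree.  The
degree is at least `64 (max (0, b, (A - b) / 4) + j) - 3 (4 A - 5 b) - 4 b`.  Linear certificates
show that no system of rows satisfies the block relations.
-/

set_option autoImplicit false

namespace Cfsg.Agent.Transfer.UFLyons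

/-- The value at a central involution. -/
def tval (A b : ℤ) : ℤ := 4 * A - 5 * b

/-- The least degree with the data `A`, `b` and a projective part of size `J`. -/
def fmin (J A b : ℤ) : ℤ := 64 * (max 0 (max b ((A - b + 3) / 4)) + J) - 3 * tval A b - 4 * b

/-- The scale of the certificates. -/
def scale : ℤ := 100000

/-- An upper bound for `scale * L * T ^ 2 / f`. -/
def weight (J L A b : ℤ) : ℤ :=
  (max L 0 * (tval A b) ^ 2 * scale + fmin J A b - 1) / fmin J A b

theorem fmin_le {J A b : ℤ} {M j f : ℕ} (hf : (f : ℤ) = 64 * ((M : ℤ) + j) - 3 * tval A b - 4 * b)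
    (hM1 : b ≤ M) (hM2 : A - b ≤ 4 * M) (hj : J ≤ j) : fmin J A b ≤ f := by
  have h : max 0 (max b ((A - b + 3) / 4)) ≤ (M : ℤ) :=
    max_le (Int.natCast_nonneg M) (max_le hM1 (by omega))
  rw [hf, fmin]
  omega

theorem term_le {J L A b : ℤ} {f : ℕ} (hf : fmin J A b ≤ f) (hpos : 0 < fmin J A b) :
    ((L * (tval A b) ^ 2 : ℤ) : ℚ) / (f : ℚ) * (scale : ℚ) ≤ (weight J L A b : ℚ) := by
  set d := fmin J A b with hd
  set n := max L 0 * (tval A b) ^ 2 * scale with hn
  have hn0 : 0 ≤ n := mul_nonneg (mul_nonneg (le_max_right _ _) (sq_nonneg _)) (by decide)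
  have hw : n ≤ d * weight J L A b := by
    have h1 := Int.emod_add_mul_ediv (n + d - 1) d
    have h2 : (n + d - 1) % d < d := Int.emod_lt_of_pos _ hpos
    show n ≤ d * ((n + d - 1) / d)
    omega
  have hw0 : 0 ≤ weight J L A b := Int.ediv_nonneg (by omega) hpos.le
  have hfq : (0 : ℚ) < f := by exact_mod_cast lt_of_lt_of_le hpos hf
  rw [div_mul_eq_mul_div, div_le_iff₀ hfq]
  have h3 : L * (tval A b) ^ 2 * scale ≤ weight J L A b * f :=
    calc L * (tval A b) ^ 2 * scale ≤ n :=
          mul_le_mul_of_nonneg_right (mul_le_mul_of_nonneg_right (le_max_left _ _) (sq_nonneg _)) (by decide)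
      _ ≤ d * weight J L A b := hw
      _ ≤ (f : ℤ) * weight J L A b := mul_le_mul_of_nonneg_right hf hw0
      _ = _ := mul_comm _ _
  exact_mod_cast h3

/-- All positions needed. -/
def range (n : ℕ) : List ℤ := (List.range (2 * n + 1)).map fun i : ℕ => (i : ℤ) - n

theorem mem_range {n : ℕ} {x : ℤ} (h1 : -(n : ℤ) ≤ x) (h2 : x ≤ n) : x ∈ range n := by
  refine List.mem_map.2 ⟨(x + (n : ℤ)).toNat, List.mem_range.2 ?_, ?_⟩
  · omega
  · rw [Int.toNat_of_nonneg (by omega)]
    omega

theorem fmin_pos_table : ∀ A ∈ range 6, ∀ b ∈ range 3, 0 < fmin 1 A b ∧ 0 < fmin 2 A b := by decide +kernel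

theorem fmin_pos {A b : ℤ} (hA : A * A ≤ 44) (hb : b * b ≤ 15) : 0 < fmin 1 A b ∧ 0 < fmin 2 A b :=
  fmin_pos_table A (mem_range (by push_cast; nlinarith) (by push_cast; nlinarith)) b
    (mem_range (by push_cast; nlinarith) (by push_cast; nlinarith))

/-- A linear certificate for the rows outside the four. -/
structure Cert where
  k : ℤ
  cT : ℤ
  cB : ℤ
  cA : ℤ
  cX : ℤ
  cTn : 0 ≤ cT

/-- The normalised weight of one of the four rows, for both signs. -/
def fourWeight (k a β : ℤ) : ℤ :=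
  max (weight 2 (k * β + 5 - a) a β) (weight 2 (-(k * β + 5 - a)) (-a) (-β))

/-- Every row within the budget is bounded by the certificate. -/
def rowsOK (c : Cert) (ex : Bool) (BT BB BA : ℤ) : Bool :=
  (range 6).all fun A => (range 3).all fun b =>
    decide (BT < (tval A b) ^ 2 ∨ BB < b * b ∨ BA < A * A ∨ (A = 0 ∧ b = 0) ∨
      (ex = true ∧ A = -2 ∧ b = 0) ∨
      weight 1 (c.k * b - A) A b ≤ c.cT * (tval A b) ^ 2 + c.cB * (b * b) + c.cA * (A * A) + c.cX * (A * b))

/-- The certificate refutes the budget. -/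
def certOK (c : Cert) (ex : Bool) (four BT BB BA BX : ℤ) : Bool :=
  decide (four + c.cT * BT + c.cB * BB + c.cA * BA + c.cX * BX < (c.k + 4) * scale) && rowsOK c ex BT BB BA

def cert1 : Cert := ⟨0, 1108, 0, 3335, 35, by decide⟩
def cert2 : Cert := ⟨0, 0, 45457, 40442, -81421, le_refl _⟩
def cert3 : Cert := ⟨3, 0, 74871, 36364, -103335, le_refl _⟩
def cert4 : Cert := ⟨3, 0, 77682, 34490, -102399, le_refl _⟩
def cert5 : Cert := ⟨3, 0, 53957, 26582, -74720, le_refl _⟩

/-- Four normalised rows. -/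
abbrev Quad := (ℤ × ℤ) × (ℤ × ℤ) × (ℤ × ℤ) × (ℤ × ℤ)

/-- A sum over four rows. -/
def qsum (q : Quad) (F : ℤ → ℤ → ℤ) : ℤ :=
  F q.1.1 q.1.2 + F q.2.1.1 q.2.1.2 + F q.2.2.1.1 q.2.2.1.2 + F q.2.2.2.1 q.2.2.2.2

/-- Whether one of the five certificates refutes the four rows. -/
def killed (q : Quad) : Bool :=
  let four3 := qsum q (fourWeight 3)
  let four0 := qsum q (fourWeight 0)
  let BT := 319 - qsum q fun a β => (tval a β) ^ 2
  let BB := 15 - qsum q fun _ β => β * β
  let BA := 44 - qsum q fun a _ => a * a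
  let BX := 19 - qsum q fun a β => a * β
  certOK cert1 false four0 BT BB BA BX || certOK cert2 false four0 BT BB BA BX ||
    certOK cert3 false four3 BT BB BA BX ||
    (decide (BT < 128) && certOK cert4 true four3 BT BB BA BX &&
      certOK cert5 true (four3 + weight 1 2 (-2) 0) (BT - 64) BB (BA - 4) BX)

/-- The necessary conditions on four normalised rows. -/
def viable (q : Quad) : Bool :=
  decide (qsum q (fun _ β => β) = 3 ∧ qsum q (fun _ β => β * β) ≤ 15 ∧ qsum q (fun a β => (tval a β) ^ 2) ≤ 319 ∧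
      (19 - qsum q fun a β => a * β) ^ 2 ≤
        (44 - qsum q fun a _ => a * a) * (15 - qsum q fun _ β => β * β) ∧
      scale < qsum q (weight 2 1))

theorem five_table : ∀ b₀ ∈ range 3, ∀ b₁ ∈ range 3, ∀ b₂ ∈ range 3, ∀ b₃ ∈ range 3,
    viable ((5, b₀), (1, b₁), (1, b₂), (1, b₃)) = true → killed ((5, b₀), (1, b₁), (1, b₂), (1, b₃)) = true := by
  decide +kernel

theorem three_table : ∀ b₀ ∈ range 3, ∀ b₂ ∈ range 3, ∀ b₃ ∈ range 3,
    viable ((3, b₀), (3, b₀), (1, b₂), (1, b₃)) = true → killed ((3, b₀), (3, b₀), (1, b₂), (1, b₃)) = true := by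
  decide +kernel

theorem triple_table : ∀ a ∈ range 6, ∀ β ∈ range 3, (8 - 3 * a - 1) % 4 = 0 → -3 ≤ 3 - 3 * β → 3 - 3 * β ≤ 3 →
    3 * (a * a) + (8 - 3 * a) * (8 - 3 * a) ≤ 44 → 3 * (β * β) + (3 - 3 * β) * (3 - 3 * β) ≤ 15 →
    3 * (tval a β) ^ 2 + (tval (8 - 3 * a) (3 - 3 * β)) ^ 2 ≤ 319 →
    3 * weight 1 1 a β + weight 1 1 (8 - 3 * a) (3 - 3 * β) ≤ scale := by
  decide +kernel

end Cfsg.Agent.Transfer.UFLyons
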