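import Cfsg.Agent.Lib.Transfer.UFLyons.JOne
import Cfsg.Agent.Lib.Transfer.UFLyons.Basic
import Cfsg.Agent.Lib.Invol.G1Local.Linear

/-!
# The theorem behind S0486 from the local data and the local theorem

`HasData` supplies the structure of the centralisers of central involutions, `CoreNorm` is what the local side
concludes with `FourUnique`; together they give a strongly embedded subgroup.
-/

set_option autoImplicit false
set_option linter.unusedSectionVars false
set_option linter.style.haveILetI false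

open scoped Pointwise

namespace Cfsg.Agent.Transfer.UFLyons

open Cfsg Subgroup UnitaryFour UnitaryCore

universe u

/-- The centraliser of a central involution is its core times `S ⟨x⟩`. -/
def HasData : Prop :=
  ∀ (G : Type u) [Group G] [Finite G] [IsSimpleGroup G] (S : Sylow 2 G), Shape ↥(S : Subgroup G) →
    ∀ z ∈ cen S, z ≠ 1 → ∃ x : G, Data S z x (Cfsg.centralizerPPrimeCore 2 z) ⊥

/-- The local conclusion. -/
def CoreNorm : Prop :=
  ∀ (G : Type u) [Group G] [Finite G] [IsSimpleGroup G], ¬ IsMulCommutative G → ∀ S : Sylow 2 G,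
    Invol.G1Local.Ctx S → ∀ t ∈ cen S, t ≠ 1 →
      Cfsg.centralizerPPrimeCore 2 t ≤ normalizer ((S : Subgroup G) : Set G)

variable {G : Type u} [Group G] [Finite G] [IsSimpleGroup G] {S : Sylow 2 G}

/-- All three cores at once. -/
theorem cores_linear (hd : HasData.{u}) (hS : Shape ↥(S : Subgroup G)) :
    (∃ X : Subgroup G, Cfsg.IsStronglyPEmbedded 2 X) ∨
      ∀ z ∈ cen S, z ≠ 1 →
        (∀ y ∈ Cfsg.centralizerPPrimeCore 2 z, ∀ y' ∈ Cfsg.centralizerPPrimeCore 2 z, y * y' = y' * y) ∧
        Cfsg.centralizerPPrimeCore 2 z ⊓ centralizer (cen S : Set G) = ⊥ ∧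
        ∃ p : ℕ, p.Prime ∧ ∀ y ∈ Cfsg.centralizerPPrimeCore 2 z, y ^ p = 1 := by
  cases nonempty_fintype G
  by_cases hse : ∃ X : Subgroup G, Cfsg.IsStronglyPEmbedded 2 X
  · exact Or.inl hse
  right
  intro z hz hz1
  obtain ⟨x, D⟩ := hd G S hS z hz hz1
  exact (core_linear D fun v hv hv1 => ⟨_, _, (hd G S hS v hv hv1).choose_spec⟩).resolve_left hse

/-- What the local side of G1 asked for. -/
theorem coreLinear_of (hd : HasData.{u}) : Invol.G1Local.CoreLinear.{u} := by
  intro G _ _ _ _ S hctx
  rcases cores_linear hd hctx.shape with h | h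
  · exact Or.inl h
  · exact Or.inr fun t ht ht1 => ⟨(h t ht ht1).1, (h t ht ht1).2.2⟩

/-- An element centralising the centre normalises `S` once the part of the core centralising it is trivial. -/
theorem centralizer_cen_le (hd : HasData.{u}) (hS : Shape ↥(S : Subgroup G)) {z : G} (hz : z ∈ cen S) (hz1 : z ≠ 1)
    (h : Cfsg.centralizerPPrimeCore 2 z ⊓ centralizer (cen S : Set G) = ⊥) :
    centralizer (cen S : Set G) ≤ normalizer ((S : Subgroup G) : Set G) := by
  obtain ⟨x, D⟩ := hd G S hS z hz hz1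
  intro c hc
  obtain ⟨k, hk, t, ht, rfl⟩ := D.cover c (centralizer_le (Set.singleton_subset_iff.2 hz) hc)
  have htA : t ∈ centralizer (cen S : Set G) :=
    (sup_le (fun w hw => mem_centralizer_iff.2 fun v hv => comm_of_cen hv hw)
      (zpowers_le.2 (mem_centralizer_iff.2 fun v hv => (D.xcen v hv).symm)) :
      (S : Subgroup G) ⊔ zpowers x ≤ centralizer (cen S : Set G)) ht
  have hk1 : k ∈ Cfsg.centralizerPPrimeCore 2 z ⊓ centralizer (cen S : Set G) := by
    refine ⟨hk, ?_⟩
    rw [show k = k * t * t⁻¹ by rw [mul_inv_cancel_right]]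
    exact (centralizer (cen S : Set G)).mul_mem hc ((centralizer (cen S : Set G)).inv_mem htA)
  rw [h, mem_bot] at hk1
  rw [hk1, one_mul]
  exact D.T_norm ht

/-- If the centraliser of the centre normalises `S`, central pairs determine the Sylow subgroup. -/
theorem fourUnique (hS : Shape ↥(S : Subgroup G))
    (hle : centralizer (cen S : Set G) ≤ normalizer ((S : Subgroup G) : Set G)) : Invol.CentRank.FourUnique G := by
  haveI : Fact (Nat.Prime 2) := ⟨Nat.prime_two⟩
  intro S₁ T z u hz hu huz _ hzS huS hzT huT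
  -- every involution of a Sylow subgroup is central in it
  have central : ∀ (P : Sylow 2 G) {v : G}, v ∈ (P : Subgroup G) → orderOf v = 2 →
      ∀ p ∈ (P : Subgroup G), v * p = p * v := by
    intro P v hv hv2 p hp
    have hP : Shape ↥(P : Subgroup G) := Shape.of_equiv (P.equiv S) hS
    have h := hP.inv ⟨v, hv⟩ (Subtype.ext (by
      show v * v = 1
      rw [← pow_two, ← hv2, pow_orderOf_eq_one]))
    exact (congrArg Subtype.val (mem_center_iff.1 h ⟨p, hp⟩)).symm
  obtain ⟨g, hg⟩ := MulAction.exists_smul_eq G S₁ S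
  set c := MulAut.conj g
  have hmap : ∀ (P : Sylow 2 G) {v : G}, v ∈ (P : Subgroup G) →
      g * v * g⁻¹ ∈ ((g • P : Sylow 2 G) : Subgroup G) := fun P v hv => by
    rw [Sylow.coe_subgroup_smul, ← Grp.map_conj_eq_smul]
    exact ⟨v, hv, rfl⟩
  have hzS' : g * z * g⁻¹ ∈ (S : Subgroup G) := hg ▸ hmap S₁ hzS
  have huS' : g * u * g⁻¹ ∈ (S : Subgroup G) := hg ▸ hmap S₁ huS
  have hz2 : orderOf (g * z * g⁻¹) = 2 := by rw [Invol.orderOf_conj_eq, hz.1]
  have hu2 : orderOf (g * u * g⁻¹) = 2 := by rw [Invol.orderOf_conj_eq, hu]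
  have hzA : g * z * g⁻¹ ∈ cen S :=
    (mem_cen hzS').2 (hS.inv _ (Subtype.ext (by
      show g * z * g⁻¹ * (g * z * g⁻¹) = 1
      rw [← pow_two, ← hz2, pow_orderOf_eq_one])))
  have huA : g * u * g⁻¹ ∈ cen S :=
    (mem_cen huS').2 (hS.inv _ (Subtype.ext (by
      show g * u * g⁻¹ * (g * u * g⁻¹) = 1
      rw [← pow_two, ← hu2, pow_orderOf_eq_one])))
  set a := g * z * g⁻¹ with ha
  set b := g * u * g⁻¹ with hb
  have hcen4 : Nat.card (cen S) = 4 := by
    rw [cen, card_map_of_injective (S : Subgroup G).subtype_injective, hS.centre]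
  have ha1 : a ≠ 1 := fun e => by rw [e, orderOf_one] at hz2; omega
  have hb1 : b ≠ 1 := fun e => by rw [e, orderOf_one] at hu2; omega
  have hab : a ≠ b := fun e => huz (mul_left_cancel (mul_right_cancel e)).symm
  have h1 : a * b ≠ 1 := fun e => hab (by
    rw [← inv_eq_of_mul_eq_one_right e, inv_eq_of_mul_eq_one_right (show a * a = 1 by
      rw [← pow_two, ← hz2, pow_orderOf_eq_one])])
  have hsub : ({1, a, b, a * b} : Set G) ⊆ (cen S : Set G) := by
    rintro r (rfl | rfl | rfl | rfl)
    exacts [one_mem _, hzA, huA, mul_mem hzA huA]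
  have hc4 : ({1, a, b, a * b} : Set G).ncard = 4 := by
    rw [Set.ncard_insert_of_notMem (by simp [Ne.symm ha1, Ne.symm hb1, Ne.symm h1]),
      Set.ncard_insert_of_notMem (by simp [hab, hb1]), Set.ncard_pair (fun e => ha1 (mul_eq_right.1 e.symm))]
  have heq := Set.eq_of_subset_of_ncard_le hsub
    (by rw [hc4, show (cen S : Set G).ncard = Nat.card (cen S) from rfl, hcen4]) (Set.toFinite _)
  have hTle : ((g • T : Sylow 2 G) : Subgroup G) ≤ normalizer ((S : Subgroup G) : Set G) := by
    intro p hp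
    refine hle (mem_centralizer_iff.2 fun v hv => ?_)
    have hv' : v ∈ ({1, a, b, a * b} : Set G) := heq ▸ hv
    have hap := central (g • T) (hmap T hzT) hz2 p hp
    have hbp := central (g • T) (hmap T huT) hu2 p hp
    simp only [Set.mem_insert_iff, Set.mem_singleton_iff] at hv'
    rcases hv' with rfl | rfl | rfl | rfl
    · simp
    · exact hap
    · exact hbp
    · calc a * b * p = a * (b * p) := mul_assoc _ _ _
        _ = a * (p * b) := by rw [hbp]
        _ = a * p * b := (mul_assoc _ _ _).symm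
        _ = p * a * b := by rw [hap]
        _ = p * (a * b) := mul_assoc _ _ _
  have hle' : ((g • T : Sylow 2 G) : Subgroup G) ≤ (S : Subgroup G) := fun q hq =>
    S.is_maximal' ((g • T).isPGroup'.to_sup_of_normal_right' S.isPGroup' hTle) le_sup_right ▸ mem_sup_left hq
  have hT : g • T = S := (Sylow.ext ((g • T).is_maximal' S.isPGroup' hle')).symm
  exact smul_left_cancel g (hg.trans hT.symm)

/-- A simple group with a Sylow 2-subgroup of this shape is not commutative. -/
theorem not_comm (hS : Shape ↥(S : Subgroup G)) : ¬ IsMulCommutative G := fun h => by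
  have hc : center ↥(S : Subgroup G) = ⊤ := by
    rw [Subgroup.eq_top_iff']
    exact fun w => mem_center_iff.2 fun v => Subtype.ext (h.is_comm.comm _ _)
  have h4 := hS.centre
  rw [hc, Subgroup.card_top, hS.card] at h4
  omega

/-- The main theorem from the two suppliers. -/
theorem main_of (hd : HasData.{u}) (hN : CoreNorm.{u}) : Main.{u} := by
  intro G _ _ _ S hS
  haveI : Fact (Nat.Prime 2) := ⟨Nat.prime_two⟩
  rcases cores_linear hd hS with h | h
  · exact h
  obtain ⟨z, hz, hz1⟩ : ∃ z ∈ cen S, z ≠ 1 := by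
    by_contra hno
    push Not at hno
    have h4 : Nat.card (cen S) = 4 := by
      rw [cen, card_map_of_injective (S : Subgroup G).subtype_injective, hS.centre]
    rw [(Subgroup.eq_bot_iff_forall _).2 hno, Subgroup.card_bot] at h4
    omega
  have hfu := fourUnique hS (centralizer_cen_le hd hS hz hz1 (h z hz hz1).2.1)
  refine ⟨normalizer ((S : Subgroup G) : Set G), stronglyEmbedded_of_centralizers hS _ ?_ le_rfl fun v hv hv1 => ?_⟩
  · intro htop
    haveI : ((S : Subgroup G)).Normal := normalizer_eq_top_iff.1 htop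
    rcases (inferInstance : ((S : Subgroup G)).Normal).eq_bot_or_eq_top with e | e
    · exact hz1 (mem_bot.1 (e ▸ cen_le hz))
    · haveI hn : (cen S).Normal := ⟨fun c hc g => by
        rw [← comm_of_cen hc (e ▸ mem_top g), mul_inv_cancel_right]
        exact hc⟩
      rcases hn.eq_bot_or_eq_top with e' | e'
      · exact hz1 (mem_bot.1 (e' ▸ hz))
      · exact not_comm hS ⟨⟨fun a b => comm_of_cen (show a ∈ cen S from e' ▸ mem_top a) (e ▸ mem_top b)⟩⟩
  · obtain ⟨x, D⟩ := hd G S hS v hv hv1
    have hK : Cfsg.centralizerPPrimeCore 2 v ≤ normalizer ((S : Subgroup G) : Set G) :=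
      hN G (not_comm hS) S ⟨hS, hfu⟩ v hv hv1
    intro c hc
    obtain ⟨k, hk, t, ht, rfl⟩ := D.cover c hc
    exact mul_mem (hK hk) (D.T_norm ht)

end Cfsg.Agent.Transfer.UFLyons
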