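import Cfsg.Agent.Lib.Invol.G1Local.Holds
import Cfsg.Agent.Lib.Transfer.UFLyons.Close
import Cfsg.Agent.Lib.Transfer.UFLyons.Reduce

/-!
# Simple groups with a Sylow 2-subgroup of the shape of `PSU(3, 4)`: the main theorem, unconditionally
-/

set_option autoImplicit false

namespace Cfsg.Agent.Transfer.UFLyons

universe u

/-- A simple group with a Sylow 2-subgroup of shape `PSU(3, 4)` has a strongly embedded subgroup. -/
theorem main : Main.{u} := main_of_coreNorm Invol.G1Local.coreNorm

end Cfsg.Agent.Transfer.UFLyons
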