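import Cfsg.Agent.Lib.Transfer.UnitaryCore.Block

/-!
# The structure constant on the section of `z` is positive

Two central involutions of `S` other than `z` multiply to `z`; this sharpens `Data.quad_nonneg`.
-/

set_option autoImplicit false
set_option linter.unusedSectionVars false
set_option linter.style.haveILetI false

open scoped ComplexConjugate Pointwise ComplexOrder

namespace Cfsg.Agent.Transfer.UFLyons

open Cfsg Subgroup UnitaryFour UnitaryCore Cfsg.Agent.Block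

universe u

variable {G : Type u} [Group G] [Fintype G] {S : Sylow 2 G} {z x : G} {K : Subgroup G}

theorem exists_third (D : Data S z x K ⊥) : ∃ a ∈ cen S, a ≠ 1 ∧ a ≠ z := by
  by_contra hno
  push Not at hno
  have h2 : (cen S : Set G) ⊆ {1, z} := fun a ha => by
    by_cases h1 : a = 1
    · exact Or.inl h1
    · exact Or.inr (hno a ha h1)
  have h3 := (Set.ncard_le_ncard h2 (Set.toFinite _)).trans (Set.ncard_insert_le _ _)
  rw [show (cen S : Set G).ncard = Nat.card (cen S) from rfl, D.card_cen, Set.ncard_singleton] at h3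
  norm_num at h3

/-- The structure constant is positive. -/
theorem quad_pos (D : Data S z x K ⊥) {I : Ideal AlgInt} (hI : IsPModular 2 I) :
    0 < ∑ χ ∈ blk I G, (χ : G → ℂ) z ^ 2 / (χ : G → ℂ) 1 * (χ : G → ℂ) z := by
  classical
  haveI : Fact (Nat.Prime 2) := ⟨Nat.prime_two⟩
  haveI := D.core_normal
  obtain ⟨k, hk⟩ := D.z_pow
  set C := centralizer ({z} : Set G) with hC
  set A := Finset.univ.filter (fun ξ : IrrCharacter ↥C =>
    IsInducedBlock I C (blockOf I (ξ : ↥C → ℂ)) (principalBlock I G)) with hA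
  have hAeq : A = Finset.univ.filter (fun ξ : IrrCharacter ↥C => ξ ∈ principalBlock I ↥C) := by
    ext ξ
    simp only [A, Finset.mem_filter, Finset.mem_univ, true_and]
    have hP : IsPGroup 2 (Subgroup.zpowers z) :=
      IsPGroup.of_card (n := k) (by rw [Nat.card_zpowers, hk])
    have hdef : InducedBlockDefined I C (blockOf I (ξ : ↥C → ℂ)) := by
      refine inducedBlockDefined_brauer hI hP (Subgroup.zpowers_le.2 (centralizer_self_mem z)) ?_ ?_
        (isPBlock_blockOf ξ)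
      · exact Subgroup.centralizer_le (Set.singleton_subset_iff.2 (Subgroup.mem_zpowers z))
      · refine le_trans ?_ (Subgroup.centralizer_le_normalizer _)
        intro c hc
        rw [Subgroup.mem_centralizer_iff]
        intro w hw
        obtain ⟨i, rfl⟩ := Subgroup.mem_zpowers_iff.1 hw
        exact ((show Commute c z from Subgroup.mem_centralizer_singleton_iff.1 hc).zpow_right i).eq.symm
    rw [principal_third_main hI hdef]
    exact ⟨fun h => h ▸ mem_blockOf_self hI ξ,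
      fun h => (pblock_eq_blockOf hI isPBlock_principalBlock h).symm⟩
  set Φ := fun c : ↥C => ∑ ξ ∈ A, conj ((ξ : ↥C → ℂ) c) * (ξ : ↥C → ℂ) 1
  have hΦ : ∀ c, 0 ≤ Φ c := by
    intro c
    have e : Φ c = ∑ᶠ ξ ∈ principalBlock I ↥C, (ξ : ↥C → ℂ) 1 * conj ((ξ : ↥C → ℂ) c) := by
      rw [finsum_mem_block]
      simp only [Φ, hAeq]
      exact Finset.sum_congr rfl fun ξ _ => mul_comm _ _
    rw [e, ElemEight.principal_sum_quotient (D.mem_block hI)]
    split_ifs
    · exact Nat.cast_nonneg _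
    · exact le_rfl
  have hval : ∀ χ : IrrCharacter G,
      (Nat.card ↥C : ℂ)⁻¹ * ∑ c : ↥C, (χ : G → ℂ) (z * (c : G)) * Φ c =
        if χ ∈ principalBlock I G then (χ : G → ℂ) z else 0 := by
    intro χ
    have h0 := value_eq_sum_inducing hI ⟨k, hk⟩ (isPBlock_principalBlock (G := G))
      (y := (1 : ↥C)) (by rw [orderOf_one]; norm_num) χ
    simp only [OneMemClass.coe_one, mul_one] at h0
    rw [← h0]
    simp only [Φ, classInner, Finset.mul_sum, Finset.sum_mul]
    rw [Finset.sum_comm]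
    exact Finset.sum_congr rfl fun ξ _ => Finset.sum_congr rfl fun c _ => by ring
  obtain ⟨a, ha, ha1, haz⟩ : ∃ a ∈ cen S, a ≠ 1 ∧ a ≠ z := exists_third D
  obtain ⟨g₀, -, hg₀⟩ := D.fused a ha ha1
  have hconj : IsConj (z * (g₀ * z * g₀⁻¹)) (z * ((1 : ↥C) : G))⁻¹ := by
    rw [hg₀, Subgroup.coe_one, mul_one, inv_eq_of_mul_eq_one_right D.z_sq]
    exact (D.isConj_cen (mul_mem D.hz ha) fun h => haz (by
      rw [← inv_eq_of_mul_eq_one_right h, inv_eq_of_mul_eq_one_right D.z_sq])).symm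
  have hpt : ∀ (c : ↥C) (g : G), 0 ≤ ∑ χ : IrrCharacter G,
      (χ : G → ℂ) (z * (g * z * g⁻¹)) * conj ((χ : G → ℂ) (z * (c : G))⁻¹) := fun c g => by
    rw [Cfsg.Agent.Char.sum_irr_mul_conj]
    split_ifs
    · exact Nat.cast_nonneg _
    · exact le_rfl
  have hin : ∀ c : ↥C, 0 ≤ (Nat.card G : ℂ)⁻¹ * ∑ g : G, ∑ χ : IrrCharacter G,
      (χ : G → ℂ) (z * (g * z * g⁻¹)) * conj ((χ : G → ℂ) (z * (c : G))⁻¹) := fun c =>
    mul_nonneg (inv_nonneg.2 (Nat.cast_nonneg _)) (Finset.sum_nonneg fun g _ => hpt c g)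
  have hin1 : 0 < (Nat.card G : ℂ)⁻¹ * ∑ g : G, ∑ χ : IrrCharacter G,
      (χ : G → ℂ) (z * (g * z * g⁻¹)) * conj ((χ : G → ℂ) (z * ((1 : ↥C) : G))⁻¹) :=
    mul_pos (inv_pos.2 (Nat.cast_pos.2 Nat.card_pos))
      (Finset.sum_pos' (fun g _ => hpt 1 g) ⟨g₀, Finset.mem_univ _, by
        rw [Cfsg.Agent.Char.sum_irr_mul_conj, if_pos hconj]
        exact Nat.cast_pos.2 Nat.card_pos⟩)
  have hΦ1 : 0 < Φ 1 := by
    have e : Φ 1 = ∑ᶠ ξ ∈ principalBlock I ↥C, (ξ : ↥C → ℂ) 1 * conj ((ξ : ↥C → ℂ) 1) := by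
      rw [finsum_mem_block]
      simp only [Φ, hAeq]
      exact Finset.sum_congr rfl fun ξ _ => mul_comm _ _
    rw [e, ElemEight.principal_sum_quotient (D.mem_block hI), if_pos (IsConj.refl _)]
    exact Nat.cast_pos.2 Nat.card_pos
  rw [← finsum_blk, finsum_mem_block, Finset.sum_filter]
  calc (0 : ℂ) < (Nat.card ↥C : ℂ)⁻¹ * ∑ c : ↥C, Φ c *
        ((Nat.card G : ℂ)⁻¹ * ∑ g : G, ∑ χ : IrrCharacter G,
          (χ : G → ℂ) (z * (g * z * g⁻¹)) * conj ((χ : G → ℂ) (z * (c : G))⁻¹)) := by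
        refine mul_pos (inv_pos.2 (Nat.cast_pos.2 Nat.card_pos))
          (Finset.sum_pos' (fun c _ => mul_nonneg (hΦ c) (hin c)) ⟨1, Finset.mem_univ _, mul_pos hΦ1 hin1⟩)
    _ = ∑ χ : IrrCharacter G, (χ : G → ℂ) z ^ 2 / (χ : G → ℂ) 1 *
          ((Nat.card ↥C : ℂ)⁻¹ * ∑ c : ↥C, (χ : G → ℂ) (z * (c : G)) * Φ c) := by
        have hϑ : ∀ u : G, (Nat.card G : ℂ)⁻¹ * ∑ g : G, ∑ χ : IrrCharacter G,
            (χ : G → ℂ) (z * (g * z * g⁻¹)) * conj ((χ : G → ℂ) u⁻¹) =
            ∑ χ : IrrCharacter G, (χ : G → ℂ) z ^ 2 / (χ : G → ℂ) 1 * (χ : G → ℂ) u := by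
          intro u
          rw [Finset.sum_comm, Finset.mul_sum]
          refine Finset.sum_congr rfl fun χ _ => ?_
          rw [← Finset.sum_mul, sum_mul_conj, irr_apply_inv, Complex.conj_conj]
          field_simp [Nat.card_pos.ne']
        simp only [hϑ, Finset.mul_sum]
        rw [Finset.sum_comm]
        exact Finset.sum_congr rfl fun c _ => Finset.sum_congr rfl fun χ _ => by ring
    _ = _ := Finset.sum_congr rfl fun χ _ => by rw [hval χ, mul_ite, mul_zero]

end Cfsg.Agent.Transfer.UFLyons
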