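import Cfsg.Agent.Lib.Transfer.UnitaryCore.Cols
import Cfsg.Agent.Lib.Char.FieldAut

/-!
# The five twisted sums on the section of `z`

For a fifth root of unity `ω` and `m : Fin 5`, five times an integer is the sum of `χ (z x ^ i) ω ^ (m i)`.
-/

set_option autoImplicit false
set_option linter.unusedSectionVars false
set_option linter.style.haveILetI false

open scoped ComplexConjugate Pointwise ComplexOrder

namespace Cfsg.Agent.Transfer.UFLyons

open Cfsg Subgroup UnitaryFour UnitaryCore Cfsg.Agent.Block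

universe u

variable {G : Type u} [Group G] [Fintype G]

/-- The twisted sums over a cyclic group of odd order are multiples of its order. -/
theorem twisted_int (χ : IrrCharacter G) {a b : G} (hab : Commute a b) (ha : a * a = 1) {n : ℕ} (hn : Odd n)
    (hb : b ^ n = 1) {ω : ℂ} (hω : ω ^ n = 1) :
    ∃ e : ℤ, ∑ i ∈ Finset.range n, (χ : G → ℂ) (a * b ^ i) * ω ^ i = (n : ℂ) * (e : ℂ) := by
  classical
  obtain ⟨r, ρ, hρ⟩ := irr_isChar χ
  obtain ⟨bs, c, -, hc, hk⟩ := Cfsg.Agent.Char.exists_rep_eigenbasis ρ (a * b)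
  obtain ⟨h, hh⟩ := hn
  have ha2 : a ^ 2 = 1 := by rw [pow_two, ha]
  have hpow : ∀ i : ℕ, (a * b) ^ (n + (n + 1) * i) = a * b ^ i := fun i => by
    rw [hab.mul_pow]
    congr 1
    · rw [show n + (n + 1) * i = 2 * (h + (h + 1) * i) + 1 by rw [hh]; ring, pow_succ, pow_mul, ha2, one_pow,
        one_mul]
    · rw [show n + (n + 1) * i = n * (1 + i) + i by ring, pow_add, pow_mul, hb, one_pow, one_mul]
  have h2n : (a * b) ^ (2 * n) = 1 := by
    rw [hab.mul_pow, pow_mul, ha2, one_pow, one_mul, mul_comm, pow_mul, hb, one_pow]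
  have hsign : ∀ j, c j ^ n = 1 ∨ c j ^ n = -1 := fun j => sq_eq_one_iff.1 (by
    obtain ⟨l, hl⟩ := orderOf_dvd_of_pow_eq_one h2n
    rw [← pow_mul, mul_comm n 2, hl, pow_mul, hc j, one_pow])
  refine ⟨∑ j, if c j ^ (n + 1) * ω = 1 then (if c j ^ n = 1 then 1 else -1) else 0, ?_⟩
  have hterm : ∀ i : ℕ, (χ : G → ℂ) (a * b ^ i) * ω ^ i = ∑ j, c j ^ n * (c j ^ (n + 1) * ω) ^ i := fun i => by
    rw [← hρ, ← hpow, hk, Finset.sum_mul]
    refine Finset.sum_congr rfl fun j _ => ?_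
    rw [mul_pow, ← pow_mul, pow_add, mul_assoc]
  rw [Finset.sum_congr rfl fun i _ => hterm i, Finset.sum_comm]
  push_cast
  rw [Finset.mul_sum]
  refine Finset.sum_congr rfl fun j _ => ?_
  rw [← Finset.mul_sum]
  split_ifs with h1 h2
  · rw [h1, h2]; simp
  · rw [h1, (hsign j).resolve_left h2]; simp
  · rw [mul_zero, mul_eq_zero]
    right
    have hone : (c j ^ (n + 1) * ω) ^ n = 1 := by
      rw [mul_pow, hω, mul_one, ← pow_mul, mul_comm, pow_mul]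
      rcases hsign j with e | e <;> rw [e]
      · exact one_pow _
      · exact Even.neg_one_pow ⟨h + 1, by omega⟩
    have := geom_sum_mul (c j ^ (n + 1) * ω) n
    rw [hone, sub_self, mul_eq_zero] at this
    exact this.resolve_right (sub_ne_zero.2 h1)

/-- Five equally spaced powers of a fifth root of unity. -/
theorem root_sum {ω : ℂ} (hω : IsPrimitiveRoot ω 5) (k : ℕ) :
    ∑ i : Fin 5, ω ^ (k * (i : ℕ)) = if k % 5 = 0 then 5 else 0 := by
  rw [Fin.sum_univ_eq_sum_range (fun i => ω ^ (k * i)) 5]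
  simp only [pow_mul]
  split_ifs with h
  · obtain ⟨l, hl⟩ := Nat.dvd_of_mod_eq_zero h
    rw [hl, pow_mul, hω.pow_eq_one, one_pow]
    simp
  · have h1 : (ω ^ k) ^ 5 = 1 := by rw [← pow_mul, mul_comm, pow_mul, hω.pow_eq_one, one_pow]
    have := geom_sum_mul (ω ^ k) 5
    rw [h1, sub_self, mul_eq_zero] at this
    refine this.resolve_right (sub_ne_zero.2 fun e => h ?_)
    have := (hω.pow_eq_one_iff_dvd k).1 e
    omega

theorem conj_root {ω : ℂ} (hω : IsPrimitiveRoot ω 5) (k : ℕ) : conj (ω ^ k) = ω ^ (4 * k) := by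
  have hn : ‖ω‖ = 1 := hω.norm'_eq_one (by norm_num)
  have h1 : conj ω = ω ^ 4 := by
    rw [← Complex.inv_eq_conj hn]
    refine inv_eq_of_mul_eq_one_right ?_
    rw [← pow_succ', hω.pow_eq_one]
  rw [map_pow, h1, pow_mul]

variable {S : Sylow 2 G} {z x : G} {K : Subgroup G}

/-- The twisted sums on the section of `z`. -/
theorem exists_twist (D : Data S z x K ⊥) {I : Ideal AlgInt} (hI : IsPModular 2 I) {χ : IrrCharacter G}
    (hχ : χ ∈ principalBlock I G) {ω : ℂ} (hω : IsPrimitiveRoot ω 5) (m : Fin 5) :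
    ∃ e : ℤ, ∑ i : Fin 5, (χ : G → ℂ) (z * x ^ (i : ℕ)) * ω ^ ((m : ℕ) * (i : ℕ)) = 5 * (e : ℂ) := by
  obtain ⟨k, hk⟩ := D.exists_order
  obtain ⟨e, he⟩ := twisted_int χ (a := z) (b := x) (D.xcen z D.hz).symm D.z_sq (n := 5 ^ (k + 1))
    (Odd.pow (by decide)) (by rw [← hk, pow_orderOf_eq_one]) (ω := ω ^ (m : ℕ)) (by
      rw [← pow_mul, mul_comm, pow_mul, pow_succ', pow_mul, hω.pow_eq_one, one_pow, one_pow])
  refine ⟨e, ?_⟩
  rw [pow_succ', sum_range_periodic (fun i => (χ : G → ℂ) (z * x ^ i) * (ω ^ (m : ℕ)) ^ i) (fun i => by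
    rw [D.val_mod hI hχ (i + 5), Nat.add_mod_right, ← D.val_mod hI hχ i, pow_add, ← pow_mul _ (m : ℕ) 5,
      mul_comm (m : ℕ) 5, pow_mul _ 5, hω.pow_eq_one, one_pow, mul_one]) (5 ^ k)] at he
  rw [Fin.sum_univ_eq_sum_range (fun i => (χ : G → ℂ) (z * x ^ i) * ω ^ ((m : ℕ) * i)) 5]
  simp only [pow_mul]
  refine mul_left_cancel₀ (pow_ne_zero k (show (5 : ℂ) ≠ 0 by norm_num)) ?_
  push_cast at he
  linear_combination he

/-- The twisted sums add up to the value at `z`. -/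
theorem twist_total {χ : IrrCharacter G} {ω : ℂ} (hω : IsPrimitiveRoot ω 5) {e : Fin 5 → ℤ} {v : ℤ}
    (hv : (χ : G → ℂ) z = v)
    (he : ∀ m : Fin 5, ∑ i : Fin 5, (χ : G → ℂ) (z * x ^ (i : ℕ)) * ω ^ ((m : ℕ) * (i : ℕ)) = 5 * (e m : ℂ)) :
    ∑ m, e m = v := by
  have h1 : ∑ m : Fin 5, ∑ i : Fin 5, (χ : G → ℂ) (z * x ^ (i : ℕ)) * ω ^ ((m : ℕ) * (i : ℕ)) = 5 * (v : ℂ) := by
    have hinner : ∀ i : Fin 5, ∑ m : Fin 5, ω ^ ((m : ℕ) * (i : ℕ)) = if i = 0 then 5 else 0 := fun i => by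
      rw [Finset.sum_congr rfl fun (m : Fin 5) _ => show ω ^ ((m : ℕ) * (i : ℕ)) = ω ^ ((i : ℕ) * (m : ℕ)) by
        rw [mul_comm], root_sum hω]
      refine if_congr ?_ rfl rfl
      rw [Fin.ext_iff, Fin.val_zero]
      have := i.isLt
      omega
    rw [Finset.sum_comm]
    simp only [← Finset.mul_sum, hinner, mul_ite, mul_zero, Finset.sum_ite_eq', Finset.mem_univ, if_true,
      Fin.val_zero, pow_zero, mul_one, hv]
    ring
  rw [Finset.sum_congr rfl fun m _ => he m, ← Finset.mul_sum] at h1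
  have h2 := mul_left_cancel₀ (show (5 : ℂ) ≠ 0 by norm_num) h1
  exact_mod_cast h2

/-- A field automorphism sending `ω` to `ω ^ 3` doubles the index. -/
theorem twist_galois {χ : IrrCharacter G} {ω : ℂ} (hω : IsPrimitiveRoot ω 5) {σ : ℂ ≃+* ℂ} (hσ : σ ω = ω ^ 3)
    {e e' : Fin 5 → ℤ}
    (he : ∀ m : Fin 5, ∑ i : Fin 5, (χ : G → ℂ) (z * x ^ (i : ℕ)) * ω ^ ((m : ℕ) * (i : ℕ)) = 5 * (e m : ℂ))
    (he' : ∀ m : Fin 5, ∑ i : Fin 5, (PrinCol.galIrr σ χ : G → ℂ) (z * x ^ (i : ℕ)) * ω ^ ((m : ℕ) * (i : ℕ)) =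
      5 * (e' m : ℂ)) (m : Fin 5) : e' m = e (2 * m) := by
  have h := congrArg σ (he (2 * m))
  rw [map_sum, map_mul, map_ofNat, map_intCast, Finset.sum_congr rfl (g := fun i : Fin 5 =>
    (PrinCol.galIrr σ χ : G → ℂ) (z * x ^ (i : ℕ)) * ω ^ ((m : ℕ) * (i : ℕ))) fun i _ => ?_, he'] at h
  · exact_mod_cast mul_left_cancel₀ (show (5 : ℂ) ≠ 0 by norm_num) h
  · rw [map_mul, map_pow, hσ]
    refine congrArg₂ (· * ·) rfl ?_
    rw [← pow_mul, pow_eq_pow_mod (3 * _) hω.pow_eq_one, pow_eq_pow_mod ((m : ℕ) * _) hω.pow_eq_one]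
    congr 1
    rw [Fin.val_mul, show ((2 : Fin 5) : ℕ) = 2 from rfl]
    rw [← mul_assoc, Nat.mul_mod, Nat.mul_mod 3, Nat.mod_mod, ← Nat.mul_mod 3, ← mul_assoc, Nat.mul_mod (3 * 2)]
    norm_num [Nat.mul_mod]

/-- The relations of the columns for the integers. -/
theorem gram (D : Data S z x K ⊥) {I : Ideal AlgInt} (hI : IsPModular 2 I) {ω : ℂ} (hω : IsPrimitiveRoot ω 5)
    {s : G} (hs : s ∈ (S : Subgroup G)) (hsz : s * s = z) {v d : IrrCharacter G → ℤ}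
    {e : IrrCharacter G → Fin 5 → ℤ} (hv : ∀ χ : IrrCharacter G, (χ : G → ℂ) z = v χ) (hd : ∀ χ : IrrCharacter G, (χ : G → ℂ) s = d χ)
    (he : ∀ χ : IrrCharacter G, χ ∈ blk I G → ∀ m : Fin 5,
      ∑ i : Fin 5, (χ : G → ℂ) (z * x ^ (i : ℕ)) * ω ^ ((m : ℕ) * (i : ℕ)) = 5 * (e χ m : ℂ)) :
    ∑ χ ∈ blk I G, v χ * v χ = 320 ∧ ∑ χ ∈ blk I G, d χ * d χ = 16 ∧ ∑ χ ∈ blk I G, d χ * v χ = 0 ∧
      (∀ m, ∑ χ ∈ blk I G, v χ * e χ m = 64) ∧ (∀ m, ∑ χ ∈ blk I G, d χ * e χ m = 0) ∧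
      ∀ m n, ∑ χ ∈ blk I G, e χ m * e χ n = if m = n then 16 else 12 := by
  classical
  set B := blk I G with hB
  have cast_eq : ∀ {F : IrrCharacter G → ℤ} {c : ℤ}, ∑ χ ∈ B, (F χ : ℂ) = (c : ℂ) → ∑ χ ∈ B, F χ = c :=
    fun h => by exact_mod_cast h
  have hzero : ∀ χ : IrrCharacter G, (χ : G → ℂ) (z * x ^ ((0 : Fin 5) : ℕ)) = v χ := fun χ => by
    rw [Fin.val_zero, pow_zero, mul_one, hv]
  have hpair : ∀ (F : IrrCharacter G → ℂ) (m : Fin 5),
      ∑ χ ∈ B, (5 * (e χ m : ℂ)) * F χ =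
        ∑ i : Fin 5, ω ^ ((m : ℕ) * (i : ℕ)) * ∑ χ ∈ B, (χ : G → ℂ) (z * x ^ (i : ℕ)) * F χ := by
    intro F m
    simp only [Finset.mul_sum]
    rw [Finset.sum_comm]
    refine Finset.sum_congr rfl fun χ hχ => ?_
    rw [← he χ hχ m, Finset.sum_mul]
    exact Finset.sum_congr rfl fun i _ => by ring
  refine ⟨cast_eq ?_, cast_eq ?_, cast_eq ?_, fun m => cast_eq ?_, fun m => cast_eq ?_, fun m n => cast_eq ?_⟩
  · have h := D.col_z hI (0 : Fin 5) 0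
    simp only [hzero, map_intCast, if_true] at h
    push_cast
    exact h
  · have h := D.col_root hI hs hsz
    simp only [hd, map_intCast] at h
    push_cast
    exact h
  · have h := D.orth_root_zx hI hs hsz 0
    simp only [pow_zero, mul_one, hd, hv, map_intCast] at h
    push_cast
    exact h
  · push_cast
    have h := hpair (fun χ => (v χ : ℂ)) m
    rw [Finset.sum_congr rfl fun (i : Fin 5) _ => show ω ^ ((m : ℕ) * (i : ℕ)) *
      (∑ χ ∈ B, (χ : G → ℂ) (z * x ^ (i : ℕ)) * (v χ : ℂ)) = if i = 0 then 320 else 0 by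
        have h0 := D.col_z hI i 0
        simp only [hzero, map_intCast] at h0
        rw [← hB] at h0
        rw [h0]
        split_ifs with hi
        · rw [hi, Fin.val_zero, mul_zero, pow_zero, one_mul]
        · exact mul_zero _,
      Finset.sum_ite_eq' Finset.univ (0 : Fin 5) (fun _ => (320 : ℂ)), if_pos (Finset.mem_univ _)] at h
    rw [← mul_right_inj' (show (5 : ℂ) ≠ 0 by norm_num), Finset.mul_sum,
      Finset.sum_congr rfl fun χ _ => show (5 : ℂ) * ((v χ : ℂ) * e χ m) = 5 * (e χ m : ℂ) * (v χ : ℂ) by ring, h]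
    norm_num
  · push_cast
    have h := hpair (fun χ => (χ : G → ℂ) s) m
    rw [Finset.sum_congr rfl fun (i : Fin 5) _ => show ω ^ ((m : ℕ) * (i : ℕ)) * (∑ χ ∈ B, (χ : G → ℂ) (z * x ^ (i : ℕ)) *
      (χ : G → ℂ) s) = 0 by
        have h0 := congrArg (starRingEnd ℂ) (D.orth_root_zx hI hs hsz (i : ℕ))
        rw [map_sum, map_zero] at h0
        rw [← hB] at h0
        rw [Finset.sum_congr rfl fun (χ : IrrCharacter G) _ => show (χ : G → ℂ) (z * x ^ (i : ℕ)) * (χ : G → ℂ) s =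
          conj ((χ : G → ℂ) s * conj ((χ : G → ℂ) (z * x ^ (i : ℕ)))) by
            rw [map_mul, Complex.conj_conj, hd, map_intCast]; ring, h0, mul_zero]] at h
    simp only [hd, Finset.sum_const_zero] at h
    rw [← mul_right_inj' (show (5 : ℂ) ≠ 0 by norm_num), Finset.mul_sum,
      Finset.sum_congr rfl fun χ _ => show (5 : ℂ) * ((d χ : ℂ) * e χ m) = 5 * (e χ m : ℂ) * (d χ : ℂ) by ring, h]
    norm_num
  · push_cast
    have h := hpair (fun χ => 5 * (e χ n : ℂ)) m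
    have hn : ∀ i : Fin 5, ∑ χ ∈ B, (χ : G → ℂ) (z * x ^ (i : ℕ)) * (5 * (e χ n : ℂ)) =
        (if i = 0 then 320 else 20) * ω ^ (4 * ((n : ℕ) * (i : ℕ))) := by
      intro i
      rw [Finset.sum_congr rfl fun (χ : IrrCharacter G) hχ => show (χ : G → ℂ) (z * x ^ (i : ℕ)) * (5 * (e χ n : ℂ)) =
        ∑ j : Fin 5, conj (ω ^ ((n : ℕ) * (j : ℕ))) *
          ((χ : G → ℂ) (z * x ^ (i : ℕ)) * conj ((χ : G → ℂ) (z * x ^ (j : ℕ)))) by
        have h5 := congrArg (starRingEnd ℂ) (he χ hχ n)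
        rw [map_sum, map_mul, map_ofNat, map_intCast] at h5
        rw [← h5, Finset.mul_sum]
        exact Finset.sum_congr rfl fun j _ => by rw [map_mul]; ring,
        Finset.sum_comm]
      simp only [← Finset.mul_sum, hB, D.col_z hI, mul_ite, mul_zero, Finset.sum_ite_eq, Finset.mem_univ, if_true,
        conj_root hω]
      split_ifs with h0 <;> ring
    rw [Finset.sum_congr rfl fun (i : Fin 5) _ => congrArg (ω ^ ((m : ℕ) * (i : ℕ)) * ·) (hn i)] at h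
    have hterm : ∀ i : Fin 5, ω ^ ((m : ℕ) * (i : ℕ)) *
        ((if i = 0 then (320 : ℂ) else 20) * ω ^ (4 * ((n : ℕ) * (i : ℕ)))) =
        (if i = 0 then 300 else 0) + 20 * ω ^ (((m : ℕ) + 4 * (n : ℕ)) * (i : ℕ)) := by
      intro i
      rw [show ω ^ ((m : ℕ) * (i : ℕ)) * ((if i = 0 then (320 : ℂ) else 20) * ω ^ (4 * ((n : ℕ) * (i : ℕ)))) =
        (if i = 0 then (320 : ℂ) else 20) * ω ^ (((m : ℕ) + 4 * (n : ℕ)) * (i : ℕ)) by
          rw [add_mul, pow_add, mul_assoc 4]; ring]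
      split_ifs with h0
      · rw [h0, Fin.val_zero, mul_zero, pow_zero]; norm_num
      · ring
    rw [Finset.sum_congr rfl fun i _ => hterm i, Finset.sum_add_distrib, ← Finset.mul_sum, root_sum hω,
      Finset.sum_ite_eq' Finset.univ (0 : Fin 5) (fun _ => (300 : ℂ)), if_pos (Finset.mem_univ _)] at h
    rw [← mul_right_inj' (show (25 : ℂ) ≠ 0 by norm_num), Finset.mul_sum,
      Finset.sum_congr rfl fun χ _ => show (25 : ℂ) * ((e χ m : ℂ) * e χ n) =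
        5 * (e χ m : ℂ) * (5 * (e χ n : ℂ)) by ring, h]
    have hmn : (((m : ℕ) + 4 * (n : ℕ)) % 5 = 0) ↔ m = n := by
      rw [Fin.ext_iff]
      have := m.isLt; have := n.isLt
      omega
    by_cases hmn' : m = n
    · rw [if_pos (hmn.2 hmn'), if_pos hmn']; norm_num
    · rw [if_neg (fun e => hmn' (hmn.1 e)), if_neg hmn']; norm_num

/-- The structure constants: all five twisted sums give the same, a root gives nothing. -/
theorem quad (D : Data S z x K ⊥) {I : Ideal AlgInt} (hI : IsPModular 2 I) {ω : ℂ} (hω : IsPrimitiveRoot ω 5)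
    {s : G} (hs : s ∈ (S : Subgroup G)) (hsz : s * s = z) {v d : IrrCharacter G → ℤ}
    {e : IrrCharacter G → Fin 5 → ℤ} (hv : ∀ χ : IrrCharacter G, (χ : G → ℂ) z = v χ) (hd : ∀ χ : IrrCharacter G, (χ : G → ℂ) s = d χ)
    (he : ∀ χ : IrrCharacter G, χ ∈ blk I G → ∀ m : Fin 5,
      ∑ i : Fin 5, (χ : G → ℂ) (z * x ^ (i : ℕ)) * ω ^ ((m : ℕ) * (i : ℕ)) = 5 * (e χ m : ℂ)) :
    ∑ χ ∈ blk I G, ((d χ * v χ ^ 2 : ℤ) : ℚ) / (charDegree (χ : G → ℂ) : ℚ) = 0 ∧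
      ∀ m, ∑ χ ∈ blk I G, ((5 * e χ m * v χ ^ 2 : ℤ) : ℚ) / (charDegree (χ : G → ℂ) : ℚ) =
        ∑ χ ∈ blk I G, ((v χ * v χ ^ 2 : ℤ) : ℚ) / (charDegree (χ : G → ℂ) : ℚ) := by
  classical
  set B := blk I G with hB
  have hN : ∀ χ : IrrCharacter G, (χ : G → ℂ) 1 = (charDegree (χ : G → ℂ) : ℂ) := fun χ => charDeg_spec' χ
  have cast_eq : ∀ {F F' : IrrCharacter G → ℤ},
      ∑ χ ∈ B, (χ : G → ℂ) z ^ 2 / (χ : G → ℂ) 1 * (F χ : ℂ) = ∑ χ ∈ B, (χ : G → ℂ) z ^ 2 / (χ : G → ℂ) 1 * (F' χ : ℂ) →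
      ∑ χ ∈ B, ((F χ * v χ ^ 2 : ℤ) : ℚ) / (charDegree (χ : G → ℂ) : ℚ) =
        ∑ χ ∈ B, ((F' χ * v χ ^ 2 : ℤ) : ℚ) / (charDegree (χ : G → ℂ) : ℚ) := by
    intro F F' h
    simp only [hv, hN] at h
    have h' : ((∑ χ ∈ B, ((F χ * v χ ^ 2 : ℤ) : ℚ) / (charDegree (χ : G → ℂ) : ℚ) : ℚ) : ℂ) =
        ((∑ χ ∈ B, ((F' χ * v χ ^ 2 : ℤ) : ℚ) / (charDegree (χ : G → ℂ) : ℚ) : ℚ) : ℂ) := by
      push_cast
      refine Eq.trans ?_ (h.trans ?_) <;> exact Finset.sum_congr rfl fun χ _ => by ring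
    exact_mod_cast h'
  refine ⟨?_, fun m => cast_eq ?_⟩
  · have h := cast_eq (F := d) (F' := fun _ => 0) (by
      have h := D.quad_root hI hs hsz
      simp only [hd] at h
      rw [h]
      simp)
    rw [h]
    simp
  · have h1 : ∀ χ : IrrCharacter G, χ ∈ B → ((5 * e χ m : ℤ) : ℂ) =
        ∑ i : Fin 5, (χ : G → ℂ) (z * x ^ (i : ℕ)) * ω ^ ((m : ℕ) * (i : ℕ)) := fun χ hχ => by
      rw [he χ hχ m]
      push_cast
      rfl
    rw [Finset.sum_congr rfl fun (χ : IrrCharacter G) hχ => congrArg ((χ : G → ℂ) z ^ 2 / (χ : G → ℂ) 1 * ·) (h1 χ hχ)]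
    simp only [Finset.mul_sum]
    rw [Finset.sum_comm, Fintype.sum_eq_single (0 : Fin 5)]
    · refine Finset.sum_congr rfl fun χ _ => ?_
      rw [Fin.val_zero, pow_zero, mul_zero, pow_zero, mul_one, mul_one, hv]
    · intro i hi
      rw [Finset.sum_congr rfl fun (χ : IrrCharacter G) _ => show (χ : G → ℂ) z ^ 2 / (χ : G → ℂ) 1 *
        ((χ : G → ℂ) (z * x ^ (i : ℕ)) * ω ^ ((m : ℕ) * (i : ℕ))) =
        (χ : G → ℂ) z ^ 2 / (χ : G → ℂ) 1 * (χ : G → ℂ) (z * x ^ (i : ℕ)) * ω ^ ((m : ℕ) * (i : ℕ)) by ring,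
        ← Finset.sum_mul, hB, D.quad_x hI (i := (i : ℕ)) (fun h5 => hi (Fin.ext (by
          have := i.isLt; obtain ⟨l, hl⟩ := h5; show (i : ℕ) = 0; omega))), zero_mul]

end Cfsg.Agent.Transfer.UFLyons
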