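import Cfsg.Agent.Lib.Transfer.UnitaryCore.Cols
import Cfsg.Agent.Lib.Char.Average
import Cfsg.Agent.Lib.Char.Kernel

/-!
# A character of the principal block on `K S`

`χ` takes one value on every coset `K w` with `w ∈ S` central, another one with `w` outside the centre; so the
average over the core and the whole character have two computable multiplicities on `S`, and their degrees differ
by a multiple of 64.
-/

set_option autoImplicit false
set_option linter.unusedSectionVars false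
set_option linter.style.haveILetI false

open scoped ComplexConjugate Pointwise

namespace Cfsg.Agent.Transfer.UFLyons

open Cfsg Subgroup UnitaryFour UnitaryCore Cfsg.Agent.Block

universe u

variable {G : Type u} [Group G] [Fintype G]

/-- The block data at every central involution of `S`. -/
def Everywhere (S : Sylow 2 G) : Prop :=
  ∀ v ∈ cen S, v ≠ 1 → ∃ (x : G) (K : Subgroup G), Data S v x K ⊥

variable {S : Sylow 2 G} {z x : G} {K : Subgroup G}

/-- An odd subgroup of `C(z)` normalised by `S` lies in the core. -/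
theorem odd_le_core (D : Data S z x K ⊥) {W : Subgroup G} (hW : Odd (Nat.card W))
    (hWz : W ≤ centralizer ({z} : Set G)) (hSW : (S : Subgroup G) ≤ normalizer (W : Set G)) : W ≤ K := by
  intro c hc
  have hKn : centralizer ({z} : Set G) ≤ normalizer (K : Set G) := fun g hg => mem_normalizer_iff.2 fun k =>
    ⟨D.K_norm g hg k, fun h => by
      have := D.K_norm g⁻¹ (inv_mem hg) _ h
      simpa [mul_assoc] using this⟩
  have hodd : Odd (Nat.card (W ⊔ K : Subgroup G)) :=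
    (hW.mul D.K_odd).of_dvd_nat (Grp.card_sup_dvd_mul (hWz.trans hKn))
  have hinf : ∀ u ∈ (S : Subgroup G), u ∈ W ⊔ K → u = 1 := fun u hu hu' =>
    eq_one_of_odd hu (hodd.of_dvd_nat (Subgroup.orderOf_dvd_natCard _ hu'))
  obtain ⟨k, hk, t, ht, rfl⟩ := D.cover c (hWz hc)
  have htC : t ∈ centralizer ({z} : Set G) := D.T_le ht
  have hcomm : ∀ w ∈ (S : Subgroup G), (k * t) * w * (k * t)⁻¹ * w⁻¹ ∈ K := by
    intro w hw
    have h1 : (k * t) * w * (k * t)⁻¹ * w⁻¹ ∈ W := by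
      rw [show (k * t) * w * (k * t)⁻¹ * w⁻¹ = (k * t) * (w * (k * t)⁻¹ * w⁻¹) by group]
      exact mul_mem hc ((mem_normalizer_iff.1 (hSW hw) _).1 (inv_mem hc))
    set y := t * w * t⁻¹ with hy
    have hyS : y ∈ (S : Subgroup G) := D.conj_mem ht hw
    have hyk : k * y * k⁻¹ * y⁻¹ ∈ K := by
      rw [show k * y * k⁻¹ * y⁻¹ = k * (y * k⁻¹ * y⁻¹) by group]
      exact mul_mem hk (D.K_norm y (D.S_le_cent hyS) _ (inv_mem hk))
    have e : (k * t) * w * (k * t)⁻¹ * w⁻¹ = (k * y * k⁻¹ * y⁻¹) * (y * w⁻¹) := by rw [hy]; group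
    have h3 : y * w⁻¹ ∈ W ⊔ K := by
      rw [show y * w⁻¹ = (k * y * k⁻¹ * y⁻¹)⁻¹ * ((k * t) * w * (k * t)⁻¹ * w⁻¹) by rw [e]; group]
      exact mul_mem (mem_sup_right (inv_mem hyk)) (mem_sup_left h1)
    rw [e, hinf _ (mul_mem hyS (inv_mem hw)) h3, mul_one]
    exact hyk
  obtain ⟨k', hk', w, hw, e⟩ := D.cent_mod (mul_mem (D.K_le hk) htC) hcomm
  have hw' : w ∈ W ⊔ K := by
    rw [show w = k'⁻¹ * (k * t) by rw [e, inv_mul_cancel_left]]
    exact mul_mem (mem_sup_right (inv_mem hk')) (mem_sup_left hc)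
  rw [e, hinf w hw hw', mul_one]
  exact hk'

/-- The part of the core centralising another central involution lies in its core. -/
theorem inf_cent_le (D : Data S z x K ⊥) {v y : G} {L : Subgroup G} (D' : Data S v y L ⊥) :
    K ⊓ centralizer ({v} : Set G) ≤ L := by
  refine odd_le_core D' (D.K_odd.of_dvd_nat (card_dvd_of_le inf_le_left)) inf_le_right fun s hs => ?_
  have h1 : ∀ w ∈ (S : Subgroup G), ∀ c ∈ K ⊓ centralizer ({v} : Set G),
      w * c * w⁻¹ ∈ K ⊓ centralizer ({v} : Set G) := fun w hw c hc =>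
    ⟨D.K_norm w (D.S_le_cent hw) c hc.1, (centralizer ({v} : Set G)).mul_mem ((centralizer ({v} : Set G)).mul_mem (D'.S_le_cent hw) hc.2)
      ((centralizer ({v} : Set G)).inv_mem (D'.S_le_cent hw))⟩
  refine mem_normalizer_iff.2 fun c => ⟨h1 s hs c, fun hc => ?_⟩
  have := h1 s⁻¹ (inv_mem hs) _ hc
  simpa [mul_assoc] using this

/-- The values on the cosets `K w`, `w ∈ S`. -/
theorem val_coset (D : Data S z x K ⊥) (hall : Everywhere S) {I : Ideal AlgInt} (hI : IsPModular 2 I)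
    {χ : IrrCharacter G} (hχ : χ ∈ principalBlock I G) {s : G} (hs : s ∈ (S : Subgroup G)) (hsz : s * s = z)
    {k w : G} (hk : k ∈ K) (hw : w ∈ (S : Subgroup G)) (hw1 : w ≠ 1) :
    (w ∈ cen S → (χ : G → ℂ) (k * w) = (χ : G → ℂ) z) ∧
      (w ∉ cen S → (χ : G → ℂ) (k * w) = (χ : G → ℂ) s) := by
  classical
  haveI : Fact (Nat.Prime 2) := ⟨Nat.prime_two⟩
  have hn : w ∈ normalizer (K : Set G) := mem_normalizer_iff.2 fun c =>
    ⟨D.K_norm w (D.S_le_cent hw) c, fun h => by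
      have := D.K_norm w⁻¹ (inv_mem (D.S_le_cent hw)) _ h
      simpa [mul_assoc] using this⟩
  obtain ⟨n, hn2⟩ := IsPGroup.iff_orderOf.1 S.isPGroup' ⟨w, hw⟩
  have hcop : Nat.Coprime (orderOf w) (Nat.card K) := by
    rw [← Subgroup.orderOf_coe ⟨w, hw⟩] at hn2
    rw [hn2]
    exact Nat.Coprime.pow_left n (Nat.coprime_two_left.2 D.K_odd)
  obtain ⟨q, -, c, hc, hcw, e⟩ := Char.exists_conj_centralizer_coset K w hn hcop k hk
  rw [Char.IsClass.eq_of_isConj (irr_classFun χ) (isConj_iff.2 ⟨q, e⟩ : IsConj (k * w) (c * w)), hcw]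
  have key : ∀ b ∈ cen S, b ≠ 1 → c * b = b * c → ∃ (y : G) (L : Subgroup G), Data S b y L ⊥ ∧ c ∈ L := by
    intro b hb hb1 hcb
    obtain ⟨y, L, D'⟩ := hall b hb hb1
    exact ⟨y, L, D', inf_cent_le D D' ⟨hc, mem_centralizer_singleton_iff.2 hcb⟩⟩
  refine ⟨fun hwc => ?_, fun hwc => ?_⟩
  · obtain ⟨y, L, D', hcL⟩ := key w hwc hw1 hcw
    rw [D'.val_core hI hχ hcL]
    exact (Char.IsClass.eq_of_isConj (irr_classFun χ) (D.isConj_cen hwc hw1)).symm
  · have hb1 : w * w ≠ 1 := fun h => hwc (D.mem_cen_of_sq hw h)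
    have hcb : c * (w * w) = w * w * c := ((show Commute c w from hcw).mul_right hcw).eq
    obtain ⟨y, L, D', hcL⟩ := key _ (D.sq_mem hw) hb1 hcb
    rw [D'.val_root hI hχ hw rfl hcL hcw.symm]
    exact (Char.IsClass.eq_of_isConj (irr_classFun χ) (D.isConj_noncen hs hsz hw hwc)).symm

/-- A non-trivial linear character of `S`, trivial on the centre. -/
theorem exists_linear (D : Data S z x K ⊥) :
    ∃ ψ : IrrCharacter ↥(S : Subgroup G), (ψ : ↥(S : Subgroup G) → ℂ) 1 = 1 ∧ ψ ≠ trivialIrr _ ∧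
      ∀ v ∈ center ↥(S : Subgroup G), (ψ : ↥(S : Subgroup G) → ℂ) v = 1 := by
  classical
  haveI : Fintype ↥(S : Subgroup G) := Fintype.ofFinite _
  obtain ⟨w, hw, hwc⟩ := D.exists_noncen
  by_contra hno
  push Not at hno
  have hlin : ∀ ψ : IrrCharacter ↥(S : Subgroup G), (ψ : ↥(S : Subgroup G) → ℂ) 1 = 1 → ψ = trivialIrr _ := by
    intro ψ h1
    by_contra hne
    obtain ⟨v, hv, hv1⟩ := hno ψ h1 hne
    rcases irr_cases D.shape ψ with ⟨-, h⟩ | ⟨h4, -⟩
    · exact hv1 (h v hv)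
    · rw [h1] at h4; norm_num at h4
  have h1 := linear_sum D.shape (1 : ↥(S : Subgroup G))
  have hsing : Finset.univ.filter (fun ψ : IrrCharacter ↥(S : Subgroup G) => (ψ : ↥(S : Subgroup G) → ℂ) 1 = 1) =
      {trivialIrr ↥(S : Subgroup G)} :=
    Finset.eq_singleton_iff_unique_mem.2 ⟨Finset.mem_filter.2 ⟨Finset.mem_univ _, rfl⟩,
      fun ψ hψ => hlin ψ (Finset.mem_filter.1 hψ).2⟩
  rw [hsing, Finset.sum_singleton, if_pos (one_mem _)] at h1
  change (1 : ℂ) = 16 at h1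
  norm_num at h1

/-- Multiplicities of a character of `S` with two values off the identity. -/
theorem mult_eqs (D : Data S z x K ⊥) {φ : ↥(S : Subgroup G) → ℂ} (hφ : IsCharacter ↥(S : Subgroup G) φ)
    {m v d : ℤ} (h1 : φ 1 = m)
    (hv : ∀ y : ↥(S : Subgroup G), y ∈ center ↥(S : Subgroup G) → y ≠ 1 → φ y = v)
    (hd : ∀ y : ↥(S : Subgroup G), y ∉ center ↥(S : Subgroup G) → φ y = d) :
    ∃ N M₀ M : ℕ, 3 * (m - v) = 16 * (N : ℤ) ∧ m + 3 * v + 60 * d = 64 * (M₀ : ℤ) ∧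
      m + 3 * v - 4 * d = 64 * (M : ℤ) := by
  classical
  haveI : Fintype ↥(S : Subgroup G) := Fintype.ofFinite _
  have hcs : ∀ f : ↥(S : Subgroup G) → ℂ, (∀ y ∈ center ↥(S : Subgroup G), f y = 1) →
      (∑ y ∈ Finset.univ.filter (fun y : ↥(S : Subgroup G) => y ∈ center ↥(S : Subgroup G)), φ y * f y) =
        m + 3 * v := by
    intro f hf
    rw [← Finset.add_sum_erase _ _ (Finset.mem_filter.2 ⟨Finset.mem_univ (1 : ↥(S : Subgroup G)), one_mem _⟩),
      hf 1 (one_mem _), h1, mul_one, Finset.sum_congr rfl (g := fun _ => (v : ℂ)) fun y hy => by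
        obtain ⟨hy1, hy2⟩ := Finset.mem_erase.1 hy
        rw [hf y (Finset.mem_filter.1 hy2).2, mul_one, hv y (Finset.mem_filter.1 hy2).2 hy1],
      Finset.sum_const, Finset.card_erase_of_mem (Finset.mem_filter.2 ⟨Finset.mem_univ _, one_mem _⟩),
      center_card' D.shape, nsmul_eq_mul]
    norm_num
  have hcens : censum φ = m + 3 * v := by
    rw [← hcs (fun _ => 1) fun _ _ => rfl]
    simp only [censum, mul_one]
  obtain ⟨N, hN⟩ := exists_rest D.shape hφ
  rw [h1, hcens] at hN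
  obtain ⟨ψ, hψ1, hψne, hψv⟩ := exists_linear D
  have hmul : ∀ η : IrrCharacter ↥(S : Subgroup G), (∀ y ∈ center ↥(S : Subgroup G), (η : ↥(S : Subgroup G) → ℂ) y = 1) →
      ∃ k : ℕ, (m : ℂ) + 3 * v + d * (∑ y ∈ Finset.univ.filter (fun y : ↥(S : Subgroup G) => ¬ y ∈ center ↥(S : Subgroup G)),
        conj ((η : ↥(S : Subgroup G) → ℂ) y)) = 64 * (k : ℂ) := by
    intro η hη
    obtain ⟨k, hk⟩ := Char.IsChar.classInner_nat hφ (Char.IsIrr.isCharacter η.2)
    refine ⟨k, ?_⟩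
    rw [← hk, classInner, D.card_S,
      ← Finset.sum_filter_add_sum_filter_not Finset.univ (fun y : ↥(S : Subgroup G) => y ∈ center ↥(S : Subgroup G)),
      hcs (fun y => conj ((η : ↥(S : Subgroup G) → ℂ) y)) (fun y hy => by rw [hη y hy, map_one]),
      Finset.mul_sum]
    rw [show (∑ y ∈ Finset.univ.filter (fun y : ↥(S : Subgroup G) => ¬ y ∈ center ↥(S : Subgroup G)),
        φ y * conj ((η : ↥(S : Subgroup G) → ℂ) y)) =
        ∑ y ∈ Finset.univ.filter (fun y : ↥(S : Subgroup G) => ¬ y ∈ center ↥(S : Subgroup G)),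
          (d : ℂ) * conj ((η : ↥(S : Subgroup G) → ℂ) y) from
      Finset.sum_congr rfl fun y hy => by rw [hd y (Finset.mem_filter.1 hy).2]]
    push_cast
    ring
  obtain ⟨M₀, hM₀⟩ := hmul (trivialIrr _) fun _ _ => rfl
  obtain ⟨M, hM⟩ := hmul ψ hψv
  have hsum0 : ∑ y ∈ Finset.univ.filter (fun y : ↥(S : Subgroup G) => ¬ y ∈ center ↥(S : Subgroup G)),
      conj (((trivialIrr _ : IrrCharacter ↥(S : Subgroup G)) : ↥(S : Subgroup G) → ℂ) y) = 60 := by
    rw [Finset.sum_congr rfl (g := fun _ => (1 : ℂ)) fun y _ => by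
        show conj (1 : ℂ) = 1
        exact map_one _, Finset.sum_const, Finset.filter_not,
      Finset.card_sdiff_of_subset (Finset.filter_subset _ _), center_card' D.shape, Finset.card_univ,
      ← Nat.card_eq_fintype_card, D.card_S]
    norm_num
  have hsum1 : ∑ y ∈ Finset.univ.filter (fun y : ↥(S : Subgroup G) => ¬ y ∈ center ↥(S : Subgroup G)),
      conj ((ψ : ↥(S : Subgroup G) → ℂ) y) = -4 := by
    have h := Char.classInner_irr_ne ψ.2 (trivialIrr ↥(S : Subgroup G)).2 fun h => hψne (Subtype.ext h)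
    rw [classInner, mul_eq_zero] at h
    have h' := h.resolve_left (inv_ne_zero (Nat.cast_ne_zero.2 Nat.card_pos.ne'))
    rw [← Finset.sum_filter_add_sum_filter_not Finset.univ (fun y : ↥(S : Subgroup G) => y ∈ center ↥(S : Subgroup G)),
      Finset.sum_congr rfl (g := fun _ => (1 : ℂ)) fun y hy => by
        show (ψ : ↥(S : Subgroup G) → ℂ) y * conj (1 : ℂ) = 1
        rw [hψv y (Finset.mem_filter.1 hy).2, map_one, mul_one],
      Finset.sum_const, center_card' D.shape, Finset.sum_congr rfl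
        (s₂ := Finset.univ.filter (fun y : ↥(S : Subgroup G) => ¬ y ∈ center ↥(S : Subgroup G)))
        (g := fun y => (ψ : ↥(S : Subgroup G) → ℂ) y) fun y _ => by
          show (ψ : ↥(S : Subgroup G) → ℂ) y * conj (1 : ℂ) = _
          rw [map_one, mul_one], nsmul_eq_mul, mul_one] at h'
    have h2 := congrArg (starRingEnd ℂ) (eq_neg_of_add_eq_zero_right h')
    rw [map_sum, map_neg, map_natCast] at h2
    rw [h2]
    norm_num
  rw [hsum0] at hM₀
  rw [hsum1] at hM
  refine ⟨N, M₀, M, ?_, ?_, ?_⟩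
  · have : ((3 * (m - v) : ℤ) : ℂ) = ((16 * (N : ℤ) : ℤ) : ℂ) := by push_cast; linear_combination 4 * hN
    exact_mod_cast this
  · have : ((m + 3 * v + 60 * d : ℤ) : ℂ) = ((64 * (M₀ : ℤ) : ℤ) : ℂ) := by push_cast; linear_combination hM₀
    exact_mod_cast this
  · have : ((m + 3 * v - 4 * d : ℤ) : ℂ) = ((64 * (M : ℤ) : ℤ) : ℂ) := by push_cast; linear_combination hM
    exact_mod_cast this

/-- Degree and multiplicities: `χ(1) = 64 (M + j) - 3 v + 4 d`, and `j = 0` only if the core is in the kernel. -/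
theorem exists_degree (D : Data S z x K ⊥) (hall : Everywhere S) {I : Ideal AlgInt} (hI : IsPModular 2 I)
    {χ : IrrCharacter G} (hχ : χ ∈ principalBlock I G) {s : G} (hs : s ∈ (S : Subgroup G)) (hsz : s * s = z)
    {v d : ℤ} (hv : (χ : G → ℂ) z = v) (hd : (χ : G → ℂ) s = d) :
    ∃ M j : ℕ, (charDegree (χ : G → ℂ) : ℤ) = 64 * ((M : ℤ) + j) - 3 * v + 4 * d ∧ -d ≤ M ∧
      v - d ≤ 16 * (M : ℤ) ∧ (j = 0 → ∀ k ∈ K, (χ : G → ℂ) k = (χ : G → ℂ) 1) ∧
      (letI : Fintype ↥K := Fintype.ofFinite _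
       (charDegree (χ : G → ℂ) : ℂ) =
        (Nat.card K : ℂ)⁻¹ * (∑ k : ↥K, (χ : G → ℂ) k) + 64 * (j : ℂ)) := by
  classical
  set f := charDegree (χ : G → ℂ)
  have hf : (χ : G → ℂ) 1 = (f : ℂ) := charDeg_spec' χ
  set C := centralizer ({z} : Set G) with hC
  haveI := D.core_normal
  set N := K.subgroupOf C with hN
  haveI : Fintype ↥N := Fintype.ofFinite _
  letI : Fintype ↥K := Fintype.ofFinite _
  set res : ↥C → ℂ := fun y => (χ : G → ℂ) y
  have hres : IsCharacter ↥C res := Char.IsChar.res (irr_isChar χ) C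
  have havg : IsCharacter ↥C (Char.avgN N res) := Char.IsChar.avgN N hres
  set inc : ↥(S : Subgroup G) →* ↥C := Subgroup.inclusion D.S_le_cent with hinc
  have hcoset : ∀ y : ↥(S : Subgroup G), y ≠ 1 → Char.avgN N res (inc y) =
      if y ∈ center ↥(S : Subgroup G) then (v : ℂ) else (d : ℂ) := by
    intro y hy
    have hval : ∀ n : ↥N, res ((n : ↥C) * inc y) = if y ∈ center ↥(S : Subgroup G) then (v : ℂ) else (d : ℂ) := by
      intro n
      have h := val_coset D hall hI hχ hs hsz (mem_subgroupOf.1 n.2) y.2 fun e => hy (Subtype.ext e)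
      show (χ : G → ℂ) (((n : ↥C) : G) * (y : G)) = _
      split_ifs with hyc
      · rw [h.1 ((mem_cen y.2).2 hyc), hv]
      · rw [h.2 fun hc => hyc ((mem_cen y.2).1 hc), hd]
    show (Nat.card ↥N : ℂ)⁻¹ * ∑ n : ↥N, res ((n : ↥C) * inc y) = _
    rw [Finset.sum_congr rfl fun n _ => hval n, Finset.sum_const, Finset.card_univ, nsmul_eq_mul,
      ← Nat.card_eq_fintype_card, ← mul_assoc, inv_mul_cancel₀ (Nat.cast_ne_zero.2 Nat.card_pos.ne'), one_mul]
  have hone : Char.avgN N res (inc 1) = (Nat.card K : ℂ)⁻¹ * ∑ k : ↥K, (χ : G → ℂ) k := by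
    show (Nat.card ↥N : ℂ)⁻¹ * ∑ n : ↥N, res ((n : ↥C) * inc 1) = _
    rw [map_one, show Nat.card ↥N = Nat.card ↥K from Nat.card_congr (subgroupOfEquivOfLe D.K_le).toEquiv]
    congr 1
    exact Fintype.sum_equiv (subgroupOfEquivOfLe D.K_le).toEquiv _ _ fun n => by rw [mul_one]; rfl
  -- the average is the multiplicity of the trivial character of `K`
  have hresK : IsCharacter ↥K (fun k : ↥K => (χ : G → ℂ) k) := Char.IsChar.res (irr_isChar χ) K
  obtain ⟨b, hbmul, hb⟩ := Char.IsChar.exists_decomp_inner hresK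
  set m := b (trivialIrr ↥K)
  have hm : (Nat.card K : ℂ)⁻¹ * ∑ k : ↥K, (χ : G → ℂ) k = (m : ℂ) := by
    rw [← hbmul (trivialIrr ↥K)]
    simp only [classInner]
    congr 1
    refine Finset.sum_congr rfl fun k _ => ?_
    show _ = (χ : G → ℂ) k * conj (1 : ℂ)
    rw [map_one, mul_one]
  have hdeg : (f : ℂ) = ∑ κ : IrrCharacter ↥K, (b κ : ℂ) * (κ : ↥K → ℂ) 1 := by
    rw [← hf, show (χ : G → ℂ) 1 = (fun k : ↥K => (χ : G → ℂ) k) 1 from rfl, hb]
    simp [Finset.sum_apply]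
  have hrest : f = m + ∑ κ ∈ Finset.univ.erase (trivialIrr ↥K), b κ * charDegree (κ : ↥K → ℂ) := by
    have h1 : (f : ℂ) = ((m + ∑ κ ∈ Finset.univ.erase (trivialIrr ↥K), b κ * charDegree (κ : ↥K → ℂ) : ℕ) : ℂ) := by
      rw [hdeg, ← Finset.add_sum_erase Finset.univ _ (Finset.mem_univ (trivialIrr ↥K))]
      push_cast
      rw [show ((trivialIrr ↥K : IrrCharacter ↥K) : ↥K → ℂ) 1 = 1 from rfl, mul_one]
      congr 1
      exact Finset.sum_congr rfl fun κ _ => by rw [← charDeg_spec' κ]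
    exact_mod_cast h1
  obtain ⟨N₁, M₀, M, hN₁, hM₀, hM⟩ := mult_eqs D (φ := fun y => Char.avgN N res (inc y))
    (Char.IsChar.comp inc havg) (m := m) (v := v) (d := d) (by rw [hone, hm, Int.cast_natCast])
    (fun y hy hy1 => by rw [hcoset y hy1, if_pos hy])
    (fun y hy => by rw [hcoset y (fun e => hy (e ▸ one_mem _)), if_neg hy])
  obtain ⟨N₂, M₀', M', hN₂, hM₀', hM'⟩ := mult_eqs D (φ := fun y : ↥(S : Subgroup G) => (χ : G → ℂ) y)
    (Char.IsChar.res (irr_isChar χ) _) (m := f) (v := v) (d := d)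
    (by rw [Subgroup.coe_one, hf, Int.cast_natCast])
    (fun y hy hy1 => by
      have h := val_coset D hall hI hχ hs hsz (one_mem K) y.2 fun e => hy1 (Subtype.ext e)
      rw [one_mul] at h
      exact (h.1 ((mem_cen y.2).2 hy)).trans hv)
    (fun y hy => by
      have h := val_coset D hall hI hχ hs hsz (one_mem K) y.2 fun e => hy (by
        rw [show y = 1 from Subtype.ext e]; exact one_mem _)
      rw [one_mul] at h
      exact (h.2 fun hc => hy ((mem_cen y.2).1 hc)).trans hd)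
  have hle : m ≤ f := hrest ▸ Nat.le_add_right _ _
  refine ⟨M, M' - M, ?_, by omega, by omega, fun hj k hk => ?_, ?_⟩
  · have : M ≤ M' := by omega
    push_cast [Nat.cast_sub this]
    omega
  · have hfm : f = m := by omega
    have hz0 : ∑ κ ∈ Finset.univ.erase (trivialIrr ↥K), b κ * charDegree (κ : ↥K → ℂ) = 0 := by omega
    have h := congrFun hb ⟨k, hk⟩
    rw [Finset.sum_apply, ← Finset.add_sum_erase Finset.univ _ (Finset.mem_univ (trivialIrr ↥K)),
      Finset.sum_eq_zero (s := Finset.univ.erase (trivialIrr ↥K)) fun κ hκ => ?_, add_zero] at h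
    · rw [hf, hfm]
      refine h.trans ?_
      show (b (trivialIrr ↥K) : ℂ) • (1 : ℂ) = _
      rw [smul_eq_mul, mul_one]
    · rcases mul_eq_zero.1 (Finset.sum_eq_zero_iff.1 hz0 κ hκ) with h0 | h0
      · simp [h0]
      · exfalso
        obtain ⟨n, hn, hn1⟩ := Char.IsIrr.one_eq_pos κ.2
        rw [charDeg_spec' κ, h0] at hn1
        exact hn.ne' (by exact_mod_cast hn1.symm)
  · have h1 : (f : ℤ) - m = 64 * ((M' - M : ℕ) : ℤ) := by
      push_cast [Nat.cast_sub (show M ≤ M' by omega)]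
      omega
    have h2 : ((f : ℂ)) - m = 64 * ((M' - M : ℕ) : ℂ) := by exact_mod_cast h1
    show (f : ℂ) = _
    rw [show (f : ℂ) = (m : ℂ) + 64 * ((M' - M : ℕ) : ℂ) by linear_combination h2, ← hm]

end Cfsg.Agent.Transfer.UFLyons
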