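import Cfsg.Agent.Lib.Transfer.UFLyons.Rows
import Cfsg.Agent.Lib.Transfer.UFLyons.Vals
import Cfsg.Agent.Lib.Transfer.UFLyons.Twist
import Cfsg.Agent.Lib.Transfer.UFLyons.Positive
import Cfsg.Agent.Lib.Block.PrincipalColumn

/-!
# Some character of the principal block exceeds its average over the core by 64 only
-/

set_option autoImplicit false
set_option linter.unusedSectionVars false
set_option linter.style.haveILetI false

open scoped ComplexConjugate Pointwise ComplexOrder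

namespace Cfsg.Agent.Transfer.UFLyons

open Cfsg Subgroup UnitaryFour UnitaryCore Cfsg.Agent.Block

universe u

/-- Three members of the four never have equal rows. -/
theorem no_equal_three {ι : Type*} {Y : Sys ι} {i j l : ι} (hi : i ∈ Y.supp) (hj : j ∈ Y.supp) (hl : l ∈ Y.supp)
    (hij : i ≠ j) (hil : i ≠ l) (hjl : j ≠ l)
    (h1 : Y.e j = Y.e i ∧ Y.A j = Y.A i ∧ Y.b j = Y.b i)
    (h2 : Y.e l = Y.e i ∧ Y.A l = Y.A i ∧ Y.b l = Y.b i) : False := by
  classical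
  obtain ⟨m, hm, hmn⟩ : ∃ m ∈ Y.supp, m ∉ ({i, j, l} : Finset ι) := by
    refine Finset.exists_mem_notMem_of_card_lt_card ?_
    rw [Y.card_supp]
    exact lt_of_le_of_lt Finset.card_le_three (by norm_num)
  simp only [Finset.mem_insert, Finset.mem_singleton, not_or] at hmn
  let q : Sys.Four Y :=
    ⟨i, j, l, m, hi, hj, hl, hm, hij, hil, Ne.symm hmn.1, hjl, Ne.symm hmn.2.1, Ne.symm hmn.2.2⟩
  refine Sys.no_triple q h1 h2 ?_
  obtain ⟨p, hp⟩ := Y.shape
  have hmem : ∀ r ∈ Y.supp, Y.e r * Y.A r = 5 ∨ Y.e r * Y.A r = 3 ∨ Y.e r * Y.A r = 1 := by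
    intro r hr
    rw [p.supp_eq] at hr
    simp only [Finset.mem_insert, Finset.mem_singleton] at hr
    simp only [Sys.Four.quad] at hp
    rcases hp with ⟨a, b, c, d⟩ | ⟨a, b, c, d, -⟩ <;> rcases hr with rfl | rfl | rfl | rfl <;> omega
  have hs := Sys.sum_A (Y := Y)
  rw [q.sum_eq] at hs
  have ej : Y.e j * Y.A j = Y.e i * Y.A i := by rw [h1.1, h1.2.1]
  have el : Y.e l * Y.A l = Y.e i * Y.A i := by rw [h2.1, h2.2.1]
  simp only [q] at hs
  rw [ej, el] at hs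
  left
  show (Y.e m * Y.A m - 1) % 4 = 0
  rcases hmem m hm with h | h | h <;> rcases hmem i hi with h' | h' | h' <;> omega

variable {G : Type u} [Group G] [Fintype G] {S : Sylow 2 G} {z x : G} {K : Subgroup G}

/-- Some non-trivial character of the principal block is its average over `K` plus 64, and has at most two Galois
conjugates. -/
theorem exists_small [IsSimpleGroup G] (D : Data S z x K ⊥) (hall : Everywhere S) (hK : K ≠ ⊥)
    {I : Ideal AlgInt} (hI : IsPModular 2 I) :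
    ∃ χ : IrrCharacter G, χ ∈ principalBlock I G ∧ χ ≠ trivialIrr G ∧
      (letI : Fintype ↥K := Fintype.ofFinite _
       (charDegree (χ : G → ℂ) : ℂ) = (Nat.card K : ℂ)⁻¹ * (∑ k : ↥K, (χ : G → ℂ) k) + 64) ∧
      ∀ F : Finset (IrrCharacter G), (∀ η ∈ F, ∃ σ, PrinCol.galIrr σ χ = η) → F.card ≤ 2 := by
  classical
  haveI : Fact (Nat.Prime 2) := ⟨Nat.prime_two⟩
  obtain ⟨s, hs, hsz⟩ := D.exists_root
  choose v d e₀ hv hd he₀ using D.exists_vals hI hs hsz
  set B := blk I G with hB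
  have hmem : ∀ χ ∈ B, χ ∈ principalBlock I G := fun χ hχ => by simpa [hB, blk] using hχ
  have hmem' : ∀ χ, χ ∈ principalBlock I G → χ ∈ B := fun χ hχ => by simpa [hB, blk] using hχ
  obtain ⟨ω, hω⟩ : ∃ ω : ℂ, IsPrimitiveRoot ω 5 := ⟨_, Complex.isPrimitiveRoot_exp 5 (by norm_num)⟩
  have htw : ∀ χ : IrrCharacter G, ∀ m : Fin 5, ∃ n : ℤ, χ ∈ B →
      ∑ i : Fin 5, (χ : G → ℂ) (z * x ^ (i : ℕ)) * ω ^ ((m : ℕ) * (i : ℕ)) = 5 * (n : ℂ) := fun χ m => by
    by_cases h : χ ∈ B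
    · obtain ⟨n, hn⟩ := exists_twist D hI (hmem χ h) hω m
      exact ⟨n, fun _ => hn⟩
    · exact ⟨0, fun h' => absurd h' h⟩
  choose t ht using htw
  have ht' : ∀ χ : IrrCharacter G, χ ∈ B → ∀ m : Fin 5,
      ∑ i : Fin 5, (χ : G → ℂ) (z * x ^ (i : ℕ)) * ω ^ ((m : ℕ) * (i : ℕ)) = 5 * (t χ m : ℂ) := fun χ h m => ht χ m h
  have hdeg : ∀ χ : IrrCharacter G, ∃ M j : ℕ, χ ∈ B →
      ((charDegree (χ : G → ℂ) : ℤ) = 64 * ((M : ℤ) + j) - 3 * v χ + 4 * d χ ∧ -d χ ≤ M ∧ v χ - d χ ≤ 16 * (M : ℤ) ∧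
        (j = 0 → ∀ k ∈ K, (χ : G → ℂ) k = (χ : G → ℂ) 1) ∧
        (letI : Fintype ↥K := Fintype.ofFinite _
         (charDegree (χ : G → ℂ) : ℂ) = (Nat.card K : ℂ)⁻¹ * (∑ k : ↥K, (χ : G → ℂ) k) + 64 * (j : ℂ))) := fun χ => by
    by_cases h : χ ∈ B
    · obtain ⟨M, j, h'⟩ := exists_degree D hall hI (hmem χ h) hs hsz (hv χ) (hd χ)
      exact ⟨M, j, fun _ => h'⟩
    · exact ⟨0, 0, fun h' => absurd h' h⟩
  choose M j hMj using hdeg
  set q : IrrCharacter G → ℤ := fun χ => (v χ - d χ) / 4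
  have hq : ∀ χ, v χ - d χ = 4 * q χ := fun χ => by
    have := D.congr_four hs hsz χ (hv χ) (hd χ)
    simp only [q]
    omega
  obtain ⟨hvv, hdd, hdv, hve, hde, hee⟩ := gram D hI hω hs hsz hv hd ht'
  obtain ⟨hquad_d, hquad_e⟩ := quad D hI hω hs hsz hv hd ht'
  have htot : ∀ χ ∈ B, ∑ m, t χ m = v χ := fun χ h => twist_total hω (hv χ) (ht' χ h)
  -- the trivial row
  have h1B : trivialIrr G ∈ B := hmem' _ (trivial_mem_principalBlock hI)
  have hone : ∀ g : G, ((trivialIrr G : IrrCharacter G) : G → ℂ) g = 1 := fun g => rfl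
  have hv1 : v (trivialIrr G) = 1 := by have := hv (trivialIrr G); rw [hone] at this; exact_mod_cast this.symm
  have hd1 : d (trivialIrr G) = 1 := by have := hd (trivialIrr G); rw [hone] at this; exact_mod_cast this.symm
  have hq1 : q (trivialIrr G) = 0 := by have := hq (trivialIrr G); omega
  have ht1 : ∀ m : Fin 5, t (trivialIrr G) m = if m = 0 then 1 else 0 := fun m => by
    have h := ht' _ h1B m
    simp only [hone, one_mul, root_sum hω] at h
    have hm : (m : ℕ) % 5 = 0 ↔ m = 0 := by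
      have := m.isLt
      rw [Fin.ext_iff, Fin.val_zero]
      omega
    by_cases h0 : m = 0
    · rw [if_pos (hm.2 h0)] at h
      rw [if_pos h0]
      have h' : (5 : ℂ) * ((t (trivialIrr G) m : ℤ) : ℂ) = 5 * ((1 : ℤ) : ℂ) := by rw [← h]; norm_num
      exact_mod_cast mul_left_cancel₀ (by norm_num : (5 : ℂ) ≠ 0) h'
    · rw [if_neg fun e => h0 (hm.1 e)] at h
      rw [if_neg h0]
      have h' : (5 : ℂ) * ((t (trivialIrr G) m : ℤ) : ℂ) = 5 * ((0 : ℤ) : ℂ) := by rw [← h]; norm_num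
      exact_mod_cast mul_left_cancel₀ (by norm_num : (5 : ℂ) ≠ 0) h'
  set s' := B.erase (trivialIrr G) with hs'
  have split : ∀ F : IrrCharacter G → ℤ, ∑ χ ∈ s', F χ = (∑ χ ∈ B, F χ) - F (trivialIrr G) := fun F => by
    rw [← Finset.add_sum_erase B F h1B, ← hs']; ring
  set e : IrrCharacter G → ℤ := fun χ => q χ - t χ 0 with he
  -- bilinear consequences of the columns
  have hqq : ∑ χ ∈ B, q χ * q χ = 21 := by
    have h : ∑ χ ∈ B, 16 * (q χ * q χ) = 336 := by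
      rw [Finset.sum_congr rfl fun χ _ => show 16 * (q χ * q χ) = v χ * v χ - 2 * (d χ * v χ) + d χ * d χ by
        linear_combination (-(4 * q χ) - (v χ - d χ)) * hq χ, Finset.sum_add_distrib, Finset.sum_sub_distrib,
        ← Finset.mul_sum, hvv, hdd, hdv]
      norm_num
    rw [← Finset.mul_sum] at h
    omega
  have hqt : ∀ m, ∑ χ ∈ B, q χ * t χ m = 16 := fun m => by
    have h : ∑ χ ∈ B, 4 * (q χ * t χ m) = 64 := by
      rw [Finset.sum_congr rfl fun χ _ => show 4 * (q χ * t χ m) = v χ * t χ m - d χ * t χ m by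
        linear_combination (-(t χ m)) * hq χ, Finset.sum_sub_distrib, hve, hde]
      norm_num
    rw [← Finset.mul_sum] at h
    omega
  have hqd : ∑ χ ∈ B, q χ * d χ = -4 := by
    have h : ∑ χ ∈ B, 4 * (q χ * d χ) = -16 := by
      rw [Finset.sum_congr rfl fun χ _ => show 4 * (q χ * d χ) = d χ * v χ - d χ * d χ by
        linear_combination (-(d χ)) * hq χ, Finset.sum_sub_distrib, hdv, hdd]
      norm_num
    rw [← Finset.mul_sum] at h
    omega
  have hrow : ∀ m n, ∑ χ ∈ B, (q χ - t χ m) * (q χ - t χ n) = if m = n then 5 else 1 := fun m n => by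
    rw [Finset.sum_congr rfl fun χ _ => show (q χ - t χ m) * (q χ - t χ n) =
      q χ * q χ - q χ * t χ m - q χ * t χ n + t χ m * t χ n by ring, Finset.sum_add_distrib,
      Finset.sum_sub_distrib, Finset.sum_sub_distrib, hqq, hqt, hqt, hee]
    split_ifs <;> norm_num
  have hrowd : ∀ m, ∑ χ ∈ B, (q χ - t χ m) * -d χ = 4 := fun m => by
    rw [Finset.sum_congr rfl fun χ _ => show (q χ - t χ m) * -d χ = d χ * t χ m - q χ * d χ by ring,
      Finset.sum_sub_distrib, hde, hqd]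
    norm_num
  have hAA : ∑ χ ∈ B, (q χ - d χ) * (q χ - d χ) = 45 := by
    rw [Finset.sum_congr rfl fun χ _ => show (q χ - d χ) * (q χ - d χ) = q χ * q χ - 2 * (q χ * d χ) + d χ * d χ by ring,
      Finset.sum_add_distrib, Finset.sum_sub_distrib, ← Finset.mul_sum, hqq, hqd, hdd]
    norm_num
  have hAb : ∑ χ ∈ B, (q χ - d χ) * -d χ = 20 := by
    rw [Finset.sum_congr rfl fun χ _ => show (q χ - d χ) * -d χ = d χ * d χ - q χ * d χ by ring,
      Finset.sum_sub_distrib, hdd, hqd]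
    norm_num
  -- degrees
  set N : IrrCharacter G → ℕ := fun χ => charDegree (χ : G → ℂ) with hN
  have hN1 : ∀ χ : IrrCharacter G, (χ : G → ℂ) 1 = (N χ : ℂ) := fun χ => charDeg_spec' χ
  have heN : ∑ χ ∈ B, e χ * (N χ : ℤ) = 0 := by
    have h1 : ∑ χ ∈ B, (d χ : ℂ) * (N χ : ℂ) = 0 := by
      rw [← D.orth_one_root hI hs hsz]
      exact Finset.sum_congr rfl fun χ _ => by rw [hd, hN1, map_intCast]; ring
    have h2 : ∑ χ ∈ B, (v χ : ℂ) * (N χ : ℂ) = 0 := by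
      rw [← D.orth_one_zx hI 0]
      exact Finset.sum_congr rfl fun χ _ => by rw [pow_zero, mul_one, hv, hN1, map_intCast]; ring
    have h3 : ∑ χ ∈ B, (t χ 0 : ℂ) * (N χ : ℂ) = 0 := by
      rw [← mul_right_inj' (show (5 : ℂ) ≠ 0 by norm_num), Finset.mul_sum, mul_zero,
        Finset.sum_congr rfl fun χ hχ => show (5 : ℂ) * ((t χ 0 : ℂ) * (N χ : ℂ)) =
          ∑ i : Fin 5, conj ((χ : G → ℂ) 1 * conj ((χ : G → ℂ) (z * x ^ (i : ℕ)))) by
          rw [← mul_assoc, ← ht' χ hχ 0, Finset.sum_mul]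
          refine Finset.sum_congr rfl fun i _ => ?_
          rw [Fin.val_zero, zero_mul, pow_zero, mul_one, map_mul, Complex.conj_conj, hN1, map_natCast, mul_comm],
        Finset.sum_comm]
      refine Finset.sum_eq_zero fun i _ => ?_
      rw [← map_sum, D.orth_one_zx hI (i : ℕ), map_zero]
    have h : ((∑ χ ∈ B, 4 * (e χ * (N χ : ℤ)) : ℤ) : ℂ) = ((0 : ℤ) : ℂ) := by
      rw [Finset.sum_congr rfl fun χ _ => show 4 * (e χ * (N χ : ℤ)) =
        v χ * (N χ : ℤ) - d χ * (N χ : ℤ) - 4 * (t χ 0 * (N χ : ℤ)) by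
          simp only [he]
          linear_combination (-(N χ : ℤ)) * hq χ]
      simp only [Finset.sum_sub_distrib, ← Finset.mul_sum]
      push_cast
      linear_combination h2 - h1 - 4 * h3
    have h' : ∑ χ ∈ B, 4 * (e χ * (N χ : ℤ)) = 0 := by exact_mod_cast h
    rw [← Finset.mul_sum] at h'
    omega
  have he1 : e (trivialIrr G) = -1 := by simp [he, hq1, ht1]
  have hee' : ∑ χ ∈ s', e χ * e χ = 4 := by
    rw [split, hrow 0 0, he1, if_pos rfl]
    norm_num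
  have hNt : N (trivialIrr G) = 1 := by
    have h := hN1 (trivialIrr G)
    rw [hone] at h
    exact_mod_cast h.symm
  have hunit : ∀ χ ∈ s', e χ = 1 ∨ e χ = -1 ∨ e χ = 0 := by
    intro χ hχ
    by_contra hbad
    push Not at hbad
    obtain ⟨b1, b2, b3⟩ := hbad
    have hrest := Finset.add_sum_erase s' (fun χ => e χ * e χ) hχ
    rw [hee'] at hrest
    have hnn : 0 ≤ ∑ η ∈ s'.erase χ, e η * e η := Finset.sum_nonneg fun η _ => mul_self_nonneg _
    have hle2 : -2 ≤ e χ ∧ e χ ≤ 2 := ⟨by nlinarith, by nlinarith⟩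
    have h2 : e χ = 2 ∨ e χ = -2 := by omega
    have hz0 : ∑ η ∈ s'.erase χ, e η * e η = 0 := by rcases h2 with h | h <;> rw [h] at hrest <;> omega
    have hzero : ∀ η ∈ s'.erase χ, e η = 0 := fun η hη => mul_self_eq_zero.1
      ((Finset.sum_eq_zero_iff_of_nonneg fun η _ => mul_self_nonneg _).1 hz0 η hη)
    have h5 := split (fun χ => e χ * (N χ : ℤ))
    rw [← Finset.add_sum_erase s' _ hχ, Finset.sum_eq_zero fun η hη => by rw [hzero η hη, zero_mul], add_zero,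
      heN, he1, hNt] at h5
    rcases h2 with h | h <;> rw [h] at h5 <;> omega
  -- kernels
  have hj1 : ∀ χ ∈ s', 1 ≤ j χ := by
    intro χ hχ
    obtain ⟨hne, hχB⟩ := Finset.mem_erase.1 hχ
    refine Nat.one_le_iff_ne_zero.2 fun h0 => ?_
    have hker := (hMj χ hχB).2.2.2.1 h0
    rcases (Cfsg.Agent.Char.charKer_normal (irr_isChar χ)).eq_bot_or_eq_top with hk | hk
    · exact hK ((Subgroup.eq_bot_iff_forall K).2 fun k hk' =>
        Subgroup.mem_bot.1 (hk ▸ (Cfsg.Agent.Char.mem_charKer _).2 (hker k hk')))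
    · exact hne (Subtype.ext (Cfsg.Agent.Char.irr_const_eq_one χ.2 fun g =>
        (Cfsg.Agent.Char.mem_charKer (irr_isChar χ)).1 (hk ▸ Subgroup.mem_top g)))
  -- Galois
  have gal : ∀ (σ : ℂ ≃+* ℂ) (χ : IrrCharacter G), χ ∈ s' →
      PrinCol.galIrr σ χ ∈ s' ∧ e (PrinCol.galIrr σ χ) = e χ ∧ d (PrinCol.galIrr σ χ) = d χ ∧
        q (PrinCol.galIrr σ χ) = q χ := by
    intro σ χ hχ
    obtain ⟨hne, hχB⟩ := Finset.mem_erase.1 hχ
    have happ : ∀ g : G, (PrinCol.galIrr σ χ : G → ℂ) g = σ ((χ : G → ℂ) g) := fun _ => rfl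
    have hηB := hmem' _ (PrinCol.galIrr_mem hI σ (hmem χ hχB))
    have h1 : v (PrinCol.galIrr σ χ) = v χ := by
      have := happ z; rw [hv, hv, map_intCast] at this; exact_mod_cast this
    have h2 : d (PrinCol.galIrr σ χ) = d χ := by
      have := happ s; rw [hd, hd, map_intCast] at this; exact_mod_cast this
    have h3 : t (PrinCol.galIrr σ χ) 0 = t χ 0 := by
      have := ht' _ hηB 0
      rw [Finset.sum_congr rfl fun (i : Fin 5) _ => show (PrinCol.galIrr σ χ : G → ℂ) (z * x ^ (i : ℕ)) *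
        ω ^ (((0 : Fin 5) : ℕ) * (i : ℕ)) = σ ((χ : G → ℂ) (z * x ^ (i : ℕ)) * ω ^ (((0 : Fin 5) : ℕ) * (i : ℕ))) by
          rw [happ, Fin.val_zero, zero_mul, pow_zero, mul_one, mul_one],
        ← map_sum, ht' χ hχB 0, map_mul, map_ofNat, map_intCast] at this
      exact_mod_cast (mul_left_cancel₀ (by norm_num : (5 : ℂ) ≠ 0) this).symm
    have hq' : q (PrinCol.galIrr σ χ) = q χ := by simp only [q, h1, h2]
    refine ⟨Finset.mem_erase.2 ⟨fun e1 => hne (Subtype.ext (funext fun g => σ.injective ?_)), hηB⟩,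
      by simp only [he, hq', h3], h2, hq'⟩
    rw [← happ, e1]
    show (1 : ℂ) = σ 1
    rw [map_one]
  obtain ⟨σ, hσ⟩ := Char.exists_ringAut_pow 5 3 (by norm_num) (by decide)
  set g : Fin 4 → Fin 5 := ![1, 2, 4, 3] with hg
  have hgstep : ∀ k, g (k + 1) = 2 * g k := by rw [hg]; decide
  have hg0 : ∀ k, g k ≠ 0 := by rw [hg]; decide
  have hgsum : ∀ f : Fin 5 → ℤ, ∑ m, f m = f 0 + (f (g 0) + f (g 1) + f (g 2) + f (g 3)) := fun f => by
    rw [Fin.sum_univ_five, show g 0 = 1 by simp [hg], show g 1 = 2 by simp [hg], show g 2 = 4 by simp [hg],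
      show g 3 = 3 by simp [hg]]
    ring
  have hκ : (0 : ℚ) < ∑ χ ∈ B, ((v χ * v χ ^ 2 : ℤ) : ℚ) / (N χ : ℚ) := by
    have h := quad_pos D hI
    have h' : ((∑ χ ∈ B, ((v χ * v χ ^ 2 : ℤ) : ℚ) / (N χ : ℚ) : ℚ) : ℂ) =
        ∑ χ ∈ blk I G, (χ : G → ℂ) z ^ 2 / (χ : G → ℂ) 1 * (χ : G → ℂ) z := by
      push_cast
      exact Finset.sum_congr rfl fun χ _ => by rw [hv, hN1]; ring
    rw [← h'] at h
    rw [← Complex.ofReal_ratCast, Complex.zero_lt_real] at h
    exact Rat.cast_pos.1 h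
  set κ := ∑ χ ∈ B, ((v χ * v χ ^ 2 : ℤ) : ℚ) / (N χ : ℚ) with hκdef
  have lin : ∀ (F F' : IrrCharacter G → ℤ) (a b : ℤ), ∑ χ ∈ B, (((a * F χ + b * F' χ) * v χ ^ 2 : ℤ) : ℚ) / (N χ : ℚ) =
      (a : ℚ) * ∑ χ ∈ B, ((F χ * v χ ^ 2 : ℤ) : ℚ) / (N χ : ℚ) +
        (b : ℚ) * ∑ χ ∈ B, ((F' χ * v χ ^ 2 : ℤ) : ℚ) / (N χ : ℚ) := by
    intro F F' a b
    rw [Finset.mul_sum, Finset.mul_sum, ← Finset.sum_add_distrib]
    exact Finset.sum_congr rfl fun χ _ => by push_cast; ring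
  have hquad_q : ∑ χ ∈ B, ((q χ * v χ ^ 2 : ℤ) : ℚ) / (N χ : ℚ) = κ / 4 := by
    have h := lin v d 1 (-1)
    rw [hquad_d, mul_zero, add_zero, Finset.sum_congr rfl fun χ _ => show
      (((1 * v χ + -1 * d χ) * v χ ^ 2 : ℤ) : ℚ) / (N χ : ℚ) = 4 * (((q χ * v χ ^ 2 : ℤ) : ℚ) / (N χ : ℚ)) by
        rw [show 1 * v χ + -1 * d χ = 4 * q χ by linarith [hq χ]]; push_cast; ring, ← Finset.mul_sum,
      Int.cast_one, one_mul] at h
    linarith
  have hquad_t : ∀ m, ∑ χ ∈ B, ((t χ m * v χ ^ 2 : ℤ) : ℚ) / (N χ : ℚ) = κ / 5 := fun m => by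
    have h := hquad_e m
    rw [← hB, Finset.sum_congr rfl fun χ _ => show ((5 * t χ m * v χ ^ 2 : ℤ) : ℚ) / (charDegree (χ : G → ℂ) : ℚ) =
      5 * (((t χ m * v χ ^ 2 : ℤ) : ℚ) / (N χ : ℚ)) by push_cast; ring, ← Finset.mul_sum] at h
    linarith
  have hT : ∀ χ, tval (q χ - d χ) (-d χ) = v χ := fun χ => by have := hq χ; simp only [tval]; omega
  have splitq : ∀ F : IrrCharacter G → ℤ, ∑ χ ∈ s', ((F χ * v χ ^ 2 : ℤ) : ℚ) / (N χ : ℚ) =
      (∑ χ ∈ B, ((F χ * v χ ^ 2 : ℤ) : ℚ) / (N χ : ℚ)) - (F (trivialIrr G) : ℚ) := fun F => by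
    rw [← Finset.add_sum_erase B _ h1B, ← hs', hv1, hNt]
    push_cast
    ring
  let Y : Sys (IrrCharacter G) :=
  { s := s'
    e := e
    A := fun χ => q χ - d χ
    b := fun χ => -d χ
    a := fun k χ => q χ - t χ (g k)
    M := M
    j := j
    f := N
    π := PrinCol.galIrr σ
    deg := fun χ hχ => by
      show (N χ : ℤ) = 64 * ((M χ : ℤ) + j χ) - 3 * tval (q χ - d χ) (-d χ) - 4 * -d χ
      rw [hT]
      have := (hMj χ (Finset.mem_of_mem_erase hχ)).1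
      simp only [hN]
      omega
    bM := fun χ hχ => (hMj χ (Finset.mem_of_mem_erase hχ)).2.1
    AM := fun χ hχ => by
      have h := (hMj χ (Finset.mem_of_mem_erase hχ)).2.2.1
      have := hq χ
      show q χ - d χ - -d χ ≤ 4 * (M χ : ℤ)
      omega
    one_le := hj1
    Aeq := fun χ hχ => by
      have h := htot χ (Finset.mem_of_mem_erase hχ)
      rw [hgsum] at h
      have := hq χ
      show q χ - d χ = e χ + (q χ - t χ (g 0) + (q χ - t χ (g 1)) + (q χ - t χ (g 2)) + (q χ - t χ (g 3)))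
      simp only [he]
      omega
    unit := hunit
    ee := hee'
    ea := fun k => by
      rw [split, hrow 0 (g k), if_neg (fun h => hg0 k h.symm), hq1, ht1, if_neg (hg0 k), he1]
      norm_num
    aa := fun k => le_of_eq (by
      rw [split, hrow (g k) (g k), if_pos rfl, hq1, ht1, if_neg (hg0 k)]
      norm_num)
    eb := by
      rw [split, hrowd 0, he1, hd1]
      norm_num
    bb := by
      rw [split, Finset.sum_congr rfl fun χ _ => neg_mul_neg (d χ) (d χ), hdd, hd1]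
      norm_num
    AA := by rw [split, hAA, hq1, hd1]; norm_num
    Ab := by rw [split, hAb, hq1, hd1]; norm_num
    TT := le_of_eq (by
      rw [Finset.sum_congr rfl fun χ _ => show (tval (q χ - d χ) (-d χ)) ^ 2 = v χ * v χ by rw [hT, pow_two],
        split, hvv, hv1]
      norm_num)
    pos := by
      rw [Finset.sum_congr rfl fun χ _ => show ((e χ * (tval (q χ - d χ) (-d χ)) ^ 2 : ℤ) : ℚ) / (N χ : ℚ) =
        ((e χ * v χ ^ 2 : ℤ) : ℚ) / (N χ : ℚ) by rw [hT], splitq, he1]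
      have h := lin q (fun χ => t χ 0) 1 (-1)
      rw [hquad_q, hquad_t, Finset.sum_congr rfl fun χ _ => show
        (((1 * q χ + -1 * t χ 0) * v χ ^ 2 : ℤ) : ℚ) / (N χ : ℚ) = ((e χ * v χ ^ 2 : ℤ) : ℚ) / (N χ : ℚ) by
          rw [show 1 * q χ + -1 * t χ 0 = e χ by simp only [he]; ring]] at h
      rw [h]
      push_cast
      linarith
    phi := by
      rw [Finset.sum_congr rfl fun χ _ => show ((-d χ * (tval (q χ - d χ) (-d χ)) ^ 2 : ℤ) : ℚ) / (N χ : ℚ) =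
        (((fun χ => -d χ) χ * v χ ^ 2 : ℤ) : ℚ) / (N χ : ℚ) by rw [hT], splitq,
        Finset.sum_congr rfl fun χ _ => show (((fun χ => -d χ) χ * v χ ^ 2 : ℤ) : ℚ) / (N χ : ℚ) =
          -(((d χ * v χ ^ 2 : ℤ) : ℚ) / (N χ : ℚ)) by push_cast; ring, Finset.sum_neg_distrib, hquad_d, hd1]
      norm_num
    avg := by
      rw [Finset.sum_congr rfl fun χ _ => show (((5 * e χ - (q χ - d χ)) * (tval (q χ - d χ) (-d χ)) ^ 2 : ℤ) : ℚ) / (N χ : ℚ) =
        (((fun χ => 5 * e χ - (q χ - d χ)) χ * v χ ^ 2 : ℤ) : ℚ) / (N χ : ℚ) by rw [hT], splitq]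
      have h1 := lin q (fun χ => t χ 0) 4 (-5)
      have h2 := lin (fun χ => 4 * q χ + -5 * t χ 0) d 1 1
      rw [h1, hquad_q, hquad_t, hquad_d] at h2
      rw [Finset.sum_congr rfl fun χ _ => show (((fun χ => 5 * e χ - (q χ - d χ)) χ * v χ ^ 2 : ℤ) : ℚ) / (N χ : ℚ) =
        (((1 * (fun χ => 4 * q χ + -5 * t χ 0) χ + 1 * d χ) * v χ ^ 2 : ℤ) : ℚ) / (N χ : ℚ) by
          congr 2; simp only [he]; ring, h2, he1, hq1, hd1]
      push_cast
      ring
    move := fun χ hχ _ => by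
      obtain ⟨h1, h2, h3, h4⟩ := gal σ χ hχ
      refine ⟨h1, h2, by show q _ - d _ = q _ - d _; rw [h3, h4], by show -d _ = -d _; rw [h3], fun k => ?_⟩
      show q (PrinCol.galIrr σ χ) - t (PrinCol.galIrr σ χ) (g k) = q χ - t χ (g (k + 1))
      rw [h4, hgstep, twist_galois hω (hσ ω hω.pow_eq_one) (ht' χ (Finset.mem_of_mem_erase hχ))
        (ht' _ (Finset.mem_of_mem_erase h1)) (g k)]
    inj := fun χ _ χ' _ h => Subtype.ext (funext fun y => σ.injective (congrFun (congrArg Subtype.val h) y)) }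
  obtain ⟨χ, hχ, hjχ⟩ : ∃ χ ∈ Y.supp, j χ < 2 := by
    by_contra hno
    push Not at hno
    exact Y.not_all_large hno
  obtain ⟨hχs, hχe⟩ := Y.mem_supp.1 hχ
  obtain ⟨hne, hχB⟩ := Finset.mem_erase.1 hχs
  refine ⟨χ, hmem χ hχB, hne, ?_, fun F hF => ?_⟩
  · have h := (hMj χ hχB).2.2.2.2
    rw [show j χ = 1 by have := hj1 χ hχs; omega, Nat.cast_one, mul_one] at h
    exact h
  · by_contra hcard
    push Not at hcard
    obtain ⟨a, b, c, ha, hb, hc, hab, hac, hbc⟩ := Finset.two_lt_card_iff.1 hcard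
    have row : ∀ η ∈ F, η ∈ Y.supp ∧ Y.e η = Y.e χ ∧ Y.A η = Y.A χ ∧ Y.b η = Y.b χ := by
      intro η hη
      obtain ⟨τ, rfl⟩ := hF η hη
      obtain ⟨h1, h2, h3, h4⟩ := gal τ χ hχs
      exact ⟨Y.mem_supp.2 ⟨h1, fun h0 => hχe (h2.symm.trans h0)⟩, h2, by show q _ - d _ = q _ - d _; rw [h3, h4],
        by show -d _ = -d _; rw [h3]⟩
    obtain ⟨ma, ea, Aa, ba⟩ := row a ha
    obtain ⟨mb, eb, Ab, bb⟩ := row b hb
    obtain ⟨mc, ec, Ac, bc⟩ := row c hc
    exact no_equal_three ma mb mc hab hac hbc ⟨eb.trans ea.symm, Ab.trans Aa.symm, bb.trans ba.symm⟩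
      ⟨ec.trans ea.symm, Ac.trans Aa.symm, bc.trans ba.symm⟩

end Cfsg.Agent.Transfer.UFLyons
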