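import Cfsg.Agent.Lib.Transfer.UFLyons.Arith

/-!
# No system of rows satisfies the block relations
-/

set_option autoImplicit false

namespace Cfsg.Agent.Transfer.UFLyons

theorem all_fixed_table : ∀ x ∈ range 2, ∀ y ∈ range 2, ∀ z ∈ range 2, ∀ w ∈ range 2,
    x + y + z + w = 1 → x * x + y * y + z * z + w * w ≤ 5 →
    (1 + 4 * x) ^ 2 + (1 + 4 * y) ^ 2 + (1 + 4 * z) ^ 2 + (1 + 4 * w) ^ 2 ≤ 44 →
    (x = 1 ∧ y = 0 ∧ z = 0 ∧ w = 0) ∨ (x = 0 ∧ y = 1 ∧ z = 0 ∧ w = 0) ∨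
      (x = 0 ∧ y = 0 ∧ z = 1 ∧ w = 0) ∨ (x = 0 ∧ y = 0 ∧ z = 0 ∧ w = 1) := by
  decide +kernel

theorem one_pair_table : ∀ x ∈ range 2, ∀ y ∈ range 2, ∀ z ∈ range 2, ∀ w ∈ range 2,
    x + y + z + w = 1 → x * x + y * y + z * z + w * w ≤ 5 →
    2 * (1 + 2 * (x + y)) ^ 2 + (1 + 4 * z) ^ 2 + (1 + 4 * w) ^ 2 ≤ 44 →
    (x + y = 1 ∧ z = 0 ∧ w = 0) ∨ (x + y = 0 ∧ ((z = 1 ∧ w = 0) ∨ (z = 0 ∧ w = 1))) := by
  decide +kernel

theorem two_pair_table : ∀ x ∈ range 2, ∀ y ∈ range 2, ∀ z ∈ range 2, ∀ w ∈ range 2,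
    x + y + z + w = 1 → x * x + y * y + z * z + w * w ≤ 5 →
    2 * (1 + 2 * (x + y)) ^ 2 + 2 * (1 + 2 * (z + w)) ^ 2 ≤ 44 →
    (x + y = 1 ∧ z + w = 0) ∨ (x + y = 0 ∧ z + w = 1) := by
  decide +kernel

/-- The data of the non-trivial characters. -/
structure Sys (ι : Type*) where
  s : Finset ι
  e : ι → ℤ
  A : ι → ℤ
  b : ι → ℤ
  a : Fin 4 → ι → ℤ
  M : ι → ℕ
  j : ι → ℕ
  f : ι → ℕ
  π : ι → ι
  deg : ∀ i ∈ s, (f i : ℤ) = 64 * ((M i : ℤ) + j i) - 3 * tval (A i) (b i) - 4 * b i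
  bM : ∀ i ∈ s, b i ≤ M i
  AM : ∀ i ∈ s, A i - b i ≤ 4 * M i
  one_le : ∀ i ∈ s, 1 ≤ j i
  Aeq : ∀ i ∈ s, A i = e i + (a 0 i + a 1 i + a 2 i + a 3 i)
  unit : ∀ i ∈ s, e i = 1 ∨ e i = -1 ∨ e i = 0
  ee : ∑ i ∈ s, e i * e i = 4
  ea : ∀ k, ∑ i ∈ s, e i * a k i = 1
  aa : ∀ k, ∑ i ∈ s, a k i * a k i ≤ 5
  eb : ∑ i ∈ s, e i * b i = 3
  bb : ∑ i ∈ s, b i * b i = 15
  AA : ∑ i ∈ s, A i * A i = 44
  Ab : ∑ i ∈ s, A i * b i = 19
  TT : ∑ i ∈ s, (tval (A i) (b i)) ^ 2 ≤ 319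
  pos : (1 : ℚ) < ∑ i ∈ s, ((e i * (tval (A i) (b i)) ^ 2 : ℤ) : ℚ) / (f i : ℚ)
  phi : ∑ i ∈ s, ((b i * (tval (A i) (b i)) ^ 2 : ℤ) : ℚ) / (f i : ℚ) = 1
  avg : ∑ i ∈ s, (((5 * e i - A i) * (tval (A i) (b i)) ^ 2 : ℤ) : ℚ) / (f i : ℚ) = 4
  move : ∀ i ∈ s, e i ≠ 0 → π i ∈ s ∧ e (π i) = e i ∧ A (π i) = A i ∧ b (π i) = b i ∧
    ∀ k, a k (π i) = a (k + 1) i
  inj : ∀ i ∈ s, ∀ i' ∈ s, π i = π i' → i = i'

namespace Sys

variable {ι : Type*} (Y : Sys ι)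

theorem bound {i : ι} (hi : i ∈ Y.s) : Y.A i * Y.A i ≤ 44 ∧ Y.b i * Y.b i ≤ 15 :=
  ⟨Y.AA ▸ Finset.single_le_sum (f := fun i => Y.A i * Y.A i) (fun i _ => mul_self_nonneg _) hi,
    Y.bb ▸ Finset.single_le_sum (f := fun i => Y.b i * Y.b i) (fun i _ => mul_self_nonneg _) hi⟩

theorem a_bound {i : ι} (hi : i ∈ Y.s) (k : Fin 4) : Y.a k i * Y.a k i ≤ 5 :=
  (Finset.single_le_sum (f := fun i => Y.a k i * Y.a k i) (fun i _ => mul_self_nonneg _) hi).trans (Y.aa k)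

theorem term {i : ι} (hi : i ∈ Y.s) {J : ℤ} (hJ1 : J = 1 ∨ J = 2) (hJ : J ≤ Y.j i) (L : ℤ) :
    ((L * (tval (Y.A i) (Y.b i)) ^ 2 : ℤ) : ℚ) / (Y.f i : ℚ) * (scale : ℚ) ≤
      (weight J L (Y.A i) (Y.b i) : ℚ) := by
  refine term_le (fmin_le (Y.deg i hi) (Y.bM i hi) (Y.AM i hi) hJ) ?_
  obtain ⟨h1, h2⟩ := fmin_pos (Y.bound hi).1 (Y.bound hi).2
  rcases hJ1 with rfl | rfl <;> assumption

open Classical in
/-- The support of `e`. -/
noncomputable def supp : Finset ι := Y.s.filter fun i => Y.e i ≠ 0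

theorem mem_supp {i : ι} : i ∈ Y.supp ↔ i ∈ Y.s ∧ Y.e i ≠ 0 := by simp [supp]

theorem card_supp : Y.supp.card = 4 := by
  classical
  have h := Y.ee
  rw [← Finset.sum_filter_of_ne (p := fun i => Y.e i ≠ 0) (fun i _ hne h0 => hne (by rw [h0, zero_mul])),
    Finset.sum_congr rfl (g := fun _ => (1 : ℤ)) fun i hi => by
      obtain ⟨hi, hne⟩ := Finset.mem_filter.1 hi
      rcases Y.unit i hi with e | e | e
      · simp [e]
      · simp [e]
      · exact absurd e hne,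
    Finset.sum_const, nsmul_one] at h
  exact_mod_cast h

theorem sum_supp {F : ι → ℤ} (hF : ∀ i ∈ Y.s, Y.e i = 0 → F i = 0) : ∑ i ∈ Y.supp, F i = ∑ i ∈ Y.s, F i := by
  classical
  exact Finset.sum_filter_of_ne fun i hi hne h0 => hne (hF i hi h0)

variable {Y}

theorem sq_one {i : ι} (hi : i ∈ Y.supp) : Y.e i * Y.e i = 1 := by
  obtain ⟨hi, hne⟩ := Y.mem_supp.1 hi
  rcases Y.unit i hi with e | e | e
  · simp [e]
  · simp [e]
  · exact absurd e hne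

/-- The four members of the support. -/
structure Four (Y : Sys ι) where
  i₀ : ι
  i₁ : ι
  i₂ : ι
  i₃ : ι
  mem₀ : i₀ ∈ Y.supp
  mem₁ : i₁ ∈ Y.supp
  mem₂ : i₂ ∈ Y.supp
  mem₃ : i₃ ∈ Y.supp
  ne : i₀ ≠ i₁ ∧ i₀ ≠ i₂ ∧ i₀ ≠ i₃ ∧ i₁ ≠ i₂ ∧ i₁ ≠ i₃ ∧ i₂ ≠ i₃

theorem Four.supp_eq [DecidableEq ι] (q : Four Y) : Y.supp = {q.i₀, q.i₁, q.i₂, q.i₃} := by
  obtain ⟨h01, h02, h03, h12, h13, h23⟩ := q.ne
  symm
  refine Finset.eq_of_subset_of_card_le (fun x hx => ?_) ?_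
  · simp only [Finset.mem_insert, Finset.mem_singleton] at hx
    rcases hx with rfl | rfl | rfl | rfl
    exacts [q.mem₀, q.mem₁, q.mem₂, q.mem₃]
  · rw [Y.card_supp, Finset.card_insert_of_notMem (by simp [h01, h02, h03]),
      Finset.card_insert_of_notMem (by simp [h12, h13]), Finset.card_pair h23]

theorem Four.sum_eq (q : Four Y) {α : Type*} [AddCommMonoid α] (F : ι → α) :
    ∑ i ∈ Y.supp, F i = F q.i₀ + F q.i₁ + F q.i₂ + F q.i₃ := by
  classical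
  obtain ⟨h01, h02, h03, h12, h13, h23⟩ := q.ne
  rw [q.supp_eq, Finset.sum_insert (by simp [h01, h02, h03]), Finset.sum_insert (by simp [h12, h13]),
    Finset.sum_pair h23, ← add_assoc, ← add_assoc]

/-- The normalised rows. -/
def Four.quad (q : Four Y) : Quad :=
  ((Y.e q.i₀ * Y.A q.i₀, Y.e q.i₀ * Y.b q.i₀), (Y.e q.i₁ * Y.A q.i₁, Y.e q.i₁ * Y.b q.i₁),
    (Y.e q.i₂ * Y.A q.i₂, Y.e q.i₂ * Y.b q.i₂), (Y.e q.i₃ * Y.A q.i₃, Y.e q.i₃ * Y.b q.i₃))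

theorem Four.qsum_eq (q : Four Y) (F : ℤ → ℤ → ℤ) :
    qsum q.quad F = ∑ i ∈ Y.supp, F (Y.e i * Y.A i) (Y.e i * Y.b i) :=
  (q.sum_eq fun i => F (Y.e i * Y.A i) (Y.e i * Y.b i)).symm

theorem sum_A : ∑ i ∈ Y.supp, Y.e i * Y.A i = 8 := by
  rw [Y.sum_supp fun i _ h => by rw [h, zero_mul],
    Finset.sum_congr rfl fun i hi => by rw [Y.Aeq i hi, mul_add, mul_add, mul_add, mul_add],
    Finset.sum_add_distrib, Finset.sum_add_distrib, Finset.sum_add_distrib, Finset.sum_add_distrib,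
    Y.ee, Y.ea, Y.ea, Y.ea, Y.ea]
  norm_num

theorem sum_b : ∑ i ∈ Y.supp, Y.e i * Y.b i = 3 := by
  rw [Y.sum_supp fun i _ h => by rw [h, zero_mul], Y.eb]

theorem sq_le {F : ι → ℤ} {c : ℤ} (h : ∑ i ∈ Y.s, F i * F i ≤ c) :
    ∑ i ∈ Y.supp, (Y.e i * F i) * (Y.e i * F i) ≤ c := by
  classical
  refine le_trans ?_ h
  rw [Finset.sum_congr rfl fun i hi => show (Y.e i * F i) * (Y.e i * F i) = F i * F i by
    rw [mul_mul_mul_comm, sq_one hi, one_mul]]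
  exact Finset.sum_le_sum_of_subset_of_nonneg (Finset.filter_subset _ _) fun i _ _ => mul_self_nonneg _

theorem tval_mul (ε A b : ℤ) (h : ε * ε = 1) : (tval (ε * A) (ε * b)) ^ 2 = (tval A b) ^ 2 := by
  rw [tval, tval, show 4 * (ε * A) - 5 * (ε * b) = ε * (4 * A - 5 * b) by ring, mul_pow, pow_two ε, h, one_mul]

theorem tsq_le : ∑ i ∈ Y.supp, (tval (Y.e i * Y.A i) (Y.e i * Y.b i)) ^ 2 ≤ 319 := by
  classical
  refine le_trans ?_ Y.TT
  rw [Finset.sum_congr rfl fun i hi => tval_mul _ _ _ (sq_one hi)]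
  exact Finset.sum_le_sum_of_subset_of_nonneg (Finset.filter_subset _ _) fun i _ _ => sq_nonneg _

/-- Positivity of the four. -/
theorem scale_lt {J : ℤ} (hJ1 : J = 1 ∨ J = 2) (hJ : ∀ i ∈ Y.supp, J ≤ Y.j i) :
    scale < ∑ i ∈ Y.supp, weight J 1 (Y.e i * Y.A i) (Y.e i * Y.b i) := by
  classical
  have h1 : ∀ i ∈ Y.supp, ((Y.e i * (tval (Y.A i) (Y.b i)) ^ 2 : ℤ) : ℚ) / (Y.f i : ℚ) * (scale : ℚ) ≤
      (weight J 1 (Y.e i * Y.A i) (Y.e i * Y.b i) : ℚ) := by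
    intro i hi
    obtain ⟨his, hne⟩ := Y.mem_supp.1 hi
    rcases Y.unit i his with e | e | e
    · rw [e, one_mul, one_mul, one_mul]
      have := Y.term his hJ1 (hJ i hi) 1
      rwa [one_mul] at this
    · refine le_trans (b := (0 : ℚ)) ?_ ?_
      · rw [e]
        refine mul_nonpos_of_nonpos_of_nonneg (div_nonpos_of_nonpos_of_nonneg ?_ (Nat.cast_nonneg _)) (by decide)
        push_cast
        nlinarith [sq_nonneg ((tval (Y.A i) (Y.b i) : ℤ) : ℚ)]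
      · have hb := Y.bound his
        have hp := fmin_pos (A := Y.e i * Y.A i) (b := Y.e i * Y.b i) (by rw [e]; linarith) (by rw [e]; linarith)
        have hd : 0 < fmin J (Y.e i * Y.A i) (Y.e i * Y.b i) := by
          rcases hJ1 with rfl | rfl
          exacts [hp.1, hp.2]
        have hn : 0 ≤ max (1 : ℤ) 0 * (tval (Y.e i * Y.A i) (Y.e i * Y.b i)) ^ 2 * scale :=
          mul_nonneg (mul_nonneg (le_max_right _ _) (sq_nonneg _)) (by decide)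
        exact_mod_cast Int.ediv_nonneg (by omega) hd.le
    · exact absurd e hne
  have h2 : ∑ i ∈ Y.s, ((Y.e i * (tval (Y.A i) (Y.b i)) ^ 2 : ℤ) : ℚ) / (Y.f i : ℚ) =
      ∑ i ∈ Y.supp, ((Y.e i * (tval (Y.A i) (Y.b i)) ^ 2 : ℤ) : ℚ) / (Y.f i : ℚ) :=
    (Finset.sum_filter_of_ne (p := fun i => Y.e i ≠ 0) fun i _ hne h0 => hne (by simp [h0])).symm
  have h3 := Y.pos
  rw [h2] at h3
  have h4 := mul_lt_mul_of_pos_right h3 (show (0 : ℚ) < (scale : ℚ) by norm_num [scale])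
  rw [one_mul, Finset.sum_mul] at h4
  exact_mod_cast lt_of_lt_of_le h4 (Finset.sum_le_sum h1)

/-- Three equal rows beside a fourth one of residue one are impossible. -/
theorem no_triple (q : Four Y)
    (h1 : Y.e q.i₁ = Y.e q.i₀ ∧ Y.A q.i₁ = Y.A q.i₀ ∧ Y.b q.i₁ = Y.b q.i₀)
    (h2 : Y.e q.i₂ = Y.e q.i₀ ∧ Y.A q.i₂ = Y.A q.i₀ ∧ Y.b q.i₂ = Y.b q.i₀)
    (h3 : (Y.e q.i₃ * Y.A q.i₃ - 1) % 4 = 0 ∨
      (Y.e q.i₃ = Y.e q.i₀ ∧ Y.A q.i₃ = Y.A q.i₀ ∧ Y.b q.i₃ = Y.b q.i₀)) : False := by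
  obtain ⟨e1, A1, b1⟩ := h1
  obtain ⟨e2, A2, b2⟩ := h2
  have hA := Y.sum_A
  have hB := Y.sum_b
  rw [q.sum_eq, e1, A1, e2, A2] at hA
  rw [q.sum_eq, e1, b1, e2, b2] at hB
  rcases h3 with h3 | ⟨e3, A3, b3⟩
  swap
  · rw [e3, b3] at hB
    omega
  have hAA := Y.sq_le Y.AA.le
  have hbb := Y.sq_le Y.bb.le
  have hTT := Y.tsq_le
  have hpos := Y.scale_lt (J := 1) (Or.inl rfl) fun i hi => by
    exact_mod_cast Y.one_le i (Y.mem_supp.1 hi).1
  rw [q.sum_eq, e1, A1, e2, A2] at hAA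
  rw [q.sum_eq, e1, b1, e2, b2] at hbb
  rw [q.sum_eq, e1, A1, b1, e2, A2, b2] at hTT hpos
  have hb0 := Y.bound (Y.mem_supp.1 q.mem₀).1
  set a := Y.e q.i₀ * Y.A q.i₀ with ha
  set β := Y.e q.i₀ * Y.b q.i₀ with hβ
  have ea : Y.e q.i₃ * Y.A q.i₃ = 8 - 3 * a := by omega
  have eb : Y.e q.i₃ * Y.b q.i₃ = 3 - 3 * β := by omega
  rw [ea] at h3 hAA hTT hpos
  rw [eb] at hbb hTT hpos
  have ha14 : a * a ≤ 14 := by linarith [mul_self_nonneg (8 - 3 * a)]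
  have hb5 : β * β ≤ 5 := by linarith [mul_self_nonneg (3 - 3 * β)]
  have ha6 : -6 ≤ a ∧ a ≤ 6 := ⟨by nlinarith only [ha14], by nlinarith only [ha14]⟩
  have hb3 : -3 ≤ β ∧ β ≤ 3 := ⟨by nlinarith only [hb5], by nlinarith only [hb5]⟩
  have hc5 : (3 - 3 * β) * (3 - 3 * β) ≤ 15 := by linarith [mul_self_nonneg β]
  have h6 := triple_table a (mem_range (by push_cast; omega) (by push_cast; omega)) β
    (mem_range (by push_cast; omega) (by push_cast; omega)) h3 (by nlinarith only [hc5]) (by nlinarith only [hc5])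
    (by linarith only [hAA]) (by linarith only [hbb]) (by linarith only [hTT])
  linarith only [h6, hpos]

theorem pi_mem {i : ι} (hi : i ∈ Y.supp) : Y.π i ∈ Y.supp := by
  obtain ⟨his, hne⟩ := Y.mem_supp.1 hi
  obtain ⟨h1, h2, -⟩ := Y.move i his hne
  exact Y.mem_supp.2 ⟨h1, h2 ▸ hne⟩

theorem pi_data {i : ι} (hi : i ∈ Y.supp) : Y.e (Y.π i) = Y.e i ∧ Y.A (Y.π i) = Y.A i ∧ Y.b (Y.π i) = Y.b i ∧
    ∀ k, Y.a k (Y.π i) = Y.a (k + 1) i :=
  (Y.move i (Y.mem_supp.1 hi).1 (Y.mem_supp.1 hi).2).2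

theorem pi_inj {i i' : ι} (hi : i ∈ Y.supp) (hi' : i' ∈ Y.supp) (h : Y.π i = Y.π i') : i = i' :=
  Y.inj i (Y.mem_supp.1 hi).1 i' (Y.mem_supp.1 hi').1 h

/-- A fixed row is constant. -/
theorem fixed_row {i : ι} (hi : i ∈ Y.supp) (h : Y.π i = i) :
    (∀ k, Y.a k i = Y.a 0 i) ∧ Y.e i * Y.A i = 1 + 4 * (Y.e i * Y.a 0 i) := by
  have hk : ∀ k : Fin 4, Y.a k i = Y.a (k + 1) i := fun k => by
    have := (pi_data hi).2.2.2 k
    rwa [h] at this
  have h0 : Y.a 1 i = Y.a 0 i ∧ Y.a 2 i = Y.a 0 i ∧ Y.a 3 i = Y.a 0 i := by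
    have e0 : Y.a 0 i = Y.a 1 i := hk 0
    have e1 : Y.a 1 i = Y.a 2 i := hk 1
    have e2 : Y.a 2 i = Y.a 3 i := hk 2
    exact ⟨e0.symm, (e0.trans e1).symm, ((e0.trans e1).trans e2).symm⟩
  refine ⟨fun k => by fin_cases k <;> simp [h0], ?_⟩
  rw [Y.Aeq i (Y.mem_supp.1 hi).1, h0.1, h0.2.1, h0.2.2]
  linear_combination sq_one hi

/-- A row moved by an involution has period two. -/
theorem pair_row {i : ι} (hi : i ∈ Y.supp) (h : Y.π (Y.π i) = i) :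
    Y.a 0 (Y.π i) = Y.a 1 i ∧ Y.e i * Y.A i = 1 + 2 * (Y.e i * Y.a 0 i + Y.e i * Y.a 1 i) := by
  have hk : ∀ k : Fin 4, Y.a k i = Y.a (k + 1 + 1) i := fun k => by
    have h1 := (pi_data (pi_mem hi)).2.2.2 k
    rw [h, (pi_data hi).2.2.2] at h1
    exact h1
  refine ⟨(pi_data hi).2.2.2 0, ?_⟩
  rw [Y.Aeq i (Y.mem_supp.1 hi).1, show Y.a 2 i = Y.a 0 i from (hk 0).symm,
    show Y.a 3 i = Y.a 1 i from (hk 1).symm]
  linear_combination sq_one hi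

/-- No orbit of length at least three. -/
theorem period {i : ι} (hi : i ∈ Y.supp) : Y.π i = i ∨ Y.π (Y.π i) = i := by
  classical
  by_contra hno
  push Not at hno
  set j := Y.π i with hj
  set l := Y.π j with hl
  have hjm := pi_mem hi
  have hlm := pi_mem hjm
  have hij : i ≠ j := fun e => hno.1 e.symm
  have hil : i ≠ l := fun e => hno.2 e.symm
  have hjl : j ≠ l := fun e => hij (pi_inj hi hjm e)
  obtain ⟨m, hm, hmn⟩ : ∃ m ∈ Y.supp, m ∉ ({i, j, l} : Finset ι) := by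
    refine Finset.exists_mem_notMem_of_card_lt_card ?_
    rw [Y.card_supp]
    exact lt_of_le_of_lt Finset.card_le_three (by norm_num)
  simp only [Finset.mem_insert, Finset.mem_singleton, not_or] at hmn
  let q : Four Y := ⟨i, j, l, m, hi, hjm, hlm, hm, hij, hil, Ne.symm hmn.1, hjl, Ne.symm hmn.2.1, Ne.symm hmn.2.2⟩
  have d1 := pi_data hi
  have d2 := pi_data hjm
  refine no_triple q ⟨d1.1, d1.2.1, d1.2.2.1⟩
    ⟨d2.1.trans d1.1, d2.2.1.trans d1.2.1, d2.2.2.1.trans d1.2.2.1⟩ ?_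
  have hmem := pi_mem hm
  rw [q.supp_eq] at hmem
  simp only [Finset.mem_insert, Finset.mem_singleton] at hmem
  rcases hmem with e | e | e | e
  · have d := pi_data hm
    rw [e] at d
    exact Or.inr ⟨d.1.symm, d.2.1.symm, d.2.2.1.symm⟩
  · exact absurd (pi_inj hm hi (e.trans hj)) hmn.1
  · exact absurd (pi_inj hm hjm (e.trans hl)) hmn.2.1
  · left
    show (Y.e m * Y.A m - 1) % 4 = 0
    rw [(fixed_row hm e).2]
    omega

theorem ax_bound {i : ι} (hi : i ∈ Y.supp) (k : Fin 4) : Y.e i * Y.a k i ∈ range 2 := by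
  have h := Y.a_bound (Y.mem_supp.1 hi).1 k
  have h2 : (Y.e i * Y.a k i) * (Y.e i * Y.a k i) = Y.a k i * Y.a k i := by
    rw [mul_mul_mul_comm, sq_one hi, one_mul]
  exact mem_range (by push_cast; nlinarith) (by push_cast; nlinarith)

theorem sum_x (k : Fin 4) : ∑ i ∈ Y.supp, Y.e i * Y.a k i = 1 := by
  rw [Y.sum_supp fun i _ h => by rw [h, zero_mul], Y.ea]

/-- The two possible shapes of the four. -/
theorem shape : ∃ q : Four Y,
    (q.quad.1.1 = 5 ∧ q.quad.2.1.1 = 1 ∧ q.quad.2.2.1.1 = 1 ∧ q.quad.2.2.2.1 = 1) ∨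
    (q.quad.1.1 = 3 ∧ q.quad.2.1.1 = 3 ∧ q.quad.2.2.1.1 = 1 ∧ q.quad.2.2.2.1 = 1 ∧
      q.quad.1.2 = q.quad.2.1.2) := by
  classical
  have hAA := Y.sq_le Y.AA.le
  have hxx := Y.sq_le (Y.aa 0)
  have hx := Y.sum_x 0
  by_cases hall : ∀ i ∈ Y.supp, Y.π i = i
  · obtain ⟨u, v, w, x, huv, huw, hux, hvw, hvx, hwx, he⟩ := Finset.card_eq_four.1 Y.card_supp
    have hu : u ∈ Y.supp := by simp [he]
    have hv : v ∈ Y.supp := by simp [he]
    have hw : w ∈ Y.supp := by simp [he]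
    have hx' : x ∈ Y.supp := by simp [he]
    let q : Four Y := ⟨u, v, w, x, hu, hv, hw, hx', huv, huw, hux, hvw, hvx, hwx⟩
    have fu := (fixed_row hu (hall u hu)).2
    have fv := (fixed_row hv (hall v hv)).2
    have fw := (fixed_row hw (hall w hw)).2
    have fx := (fixed_row hx' (hall x hx')).2
    rw [q.sum_eq] at hAA hxx hx
    simp only [q] at hAA hxx hx
    rw [fu, fv, fw, fx] at hAA
    rcases all_fixed_table _ (ax_bound hu 0) _ (ax_bound hv 0) _ (ax_bound hw 0) _ (ax_bound hx' 0)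
      hx hxx (by linarith) with ⟨a1, a2, a3, a4⟩ | ⟨a1, a2, a3, a4⟩ | ⟨a1, a2, a3, a4⟩ | ⟨a1, a2, a3, a4⟩ <;>
      simp only [a1, a2, a3, a4] at fu fv fw fx <;> norm_num at fu fv fw fx
    · exact ⟨q, Or.inl ⟨fu, fv, fw, fx⟩⟩
    · exact ⟨⟨v, u, w, x, hv, hu, hw, hx', huv.symm, hvw, hvx, huw, hux, hwx⟩, Or.inl ⟨fv, fu, fw, fx⟩⟩
    · exact ⟨⟨w, v, u, x, hw, hv, hu, hx', hvw.symm, huw.symm, hwx, huv.symm, hvx, hux⟩, Or.inl ⟨fw, fv, fu, fx⟩⟩
    · exact ⟨⟨x, v, w, u, hx', hv, hw, hu, hvx.symm, hwx.symm, hux.symm, hvw, huv.symm, huw.symm⟩,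
        Or.inl ⟨fx, fv, fw, fu⟩⟩
  push Not at hall
  obtain ⟨i, hi, hne⟩ := hall
  have hji : Y.π (Y.π i) = i := (period hi).resolve_left hne
  set j := Y.π i with hj
  have hjm := pi_mem hi
  obtain ⟨m, hm, n, hn, hmn, hrest⟩ : ∃ m ∈ Y.supp, ∃ n ∈ Y.supp, m ≠ n ∧
      m ≠ i ∧ m ≠ j ∧ n ≠ i ∧ n ≠ j := by
    have hc : ((Y.supp.erase i).erase j).card = 2 := by
      rw [Finset.card_erase_of_mem (Finset.mem_erase.2 ⟨hne, hjm⟩), Finset.card_erase_of_mem hi, Y.card_supp]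
    obtain ⟨m, n, hmn, he⟩ := Finset.card_eq_two.1 hc
    have hm : m ∈ (Y.supp.erase i).erase j := by simp [he]
    have hn : n ∈ (Y.supp.erase i).erase j := by simp [he]
    simp only [Finset.mem_erase] at hm hn
    exact ⟨m, hm.2.2, n, hn.2.2, hmn, hm.2.1, hm.1, hn.2.1, hn.1⟩
  obtain ⟨hmi, hmj, hni, hnj⟩ := hrest
  let q : Four Y := ⟨i, j, m, n, hi, hjm, hm, hn, hne.symm, hmi.symm, hni.symm, hmj.symm, hnj.symm, hmn⟩
  have di := pi_data hi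
  have pi' := pair_row hi hji
  have hA : Y.e j * Y.A j = Y.e i * Y.A i := by rw [hj, di.1, di.2.1]
  have hB : q.quad.1.2 = q.quad.2.1.2 := by
    show Y.e i * Y.b i = Y.e j * Y.b j
    rw [hj, di.1, di.2.2.1]
  have hxj : Y.e j * Y.a 0 j = Y.e i * Y.a 1 i := by rw [hj, di.1, pi'.1]
  rw [q.sum_eq] at hAA hxx hx
  simp only [q] at hAA hxx hx
  rw [hA, pi'.2] at hAA
  rw [hxj] at hxx hx
  have hmem := pi_mem hm
  rw [q.supp_eq] at hmem
  simp only [Finset.mem_insert, Finset.mem_singleton] at hmem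
  have hmij : Y.π m = m ∨ Y.π m = n := by
    rcases hmem with e | e | e | e
    · exact absurd (pi_inj hm hjm (e.trans hji.symm)) hmj
    · exact absurd (pi_inj hm hi (e.trans hj)) hmi
    · exact Or.inl e
    · exact Or.inr e
  rcases hmij with e | e
  · have hnn : Y.π n = n := by
      have hmem' := pi_mem hn
      rw [q.supp_eq] at hmem'
      simp only [Finset.mem_insert, Finset.mem_singleton] at hmem'
      rcases hmem' with e' | e' | e' | e'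
      · exact absurd (pi_inj hn hjm (e'.trans hji.symm)) hnj
      · exact absurd (pi_inj hn hi (e'.trans hj)) hni
      · exact absurd (pi_inj hn hm (e'.trans e.symm)) hmn.symm
      · exact e'
    have fm := (fixed_row hm e).2
    have fn := (fixed_row hn hnn).2
    rw [fm, fn] at hAA
    rcases one_pair_table _ (ax_bound hi 0) _ (ax_bound hi 1) _ (ax_bound hm 0) _ (ax_bound hn 0)
      hx hxx (by linarith) with ⟨a1, a2, a3⟩ | ⟨a1, ⟨a2, a3⟩ | ⟨a2, a3⟩⟩ <;>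
      rw [a1] at pi' <;> rw [a2] at fm <;> rw [a3] at fn <;> norm_num at fm fn
    · exact ⟨q, Or.inr ⟨pi'.2, hA.trans pi'.2, fm, fn, hB⟩⟩
    · exact ⟨⟨m, i, j, n, hm, hi, hjm, hn, hmi, hmj, hmn, hne.symm, hni.symm, hnj.symm⟩,
        Or.inl ⟨fm, pi'.2, hA.trans pi'.2, fn⟩⟩
    · exact ⟨⟨n, i, j, m, hn, hi, hjm, hm, hni, hnj, hmn.symm, hne.symm, hmi.symm, hmj.symm⟩,
        Or.inl ⟨fn, pi'.2, hA.trans pi'.2, fm⟩⟩
  · have hnm : Y.π (Y.π m) = m := (period hm).resolve_left (by rw [e]; exact hmn.symm)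
    have pm := pair_row hm hnm
    have dm := pi_data hm
    rw [e] at pm dm
    have hA' : Y.e n * Y.A n = Y.e m * Y.A m := by rw [dm.1, dm.2.1]
    have hxn : Y.e n * Y.a 0 n = Y.e m * Y.a 1 m := by rw [dm.1, pm.1]
    rw [hA', pm.2] at hAA
    rw [hxn] at hxx hx
    rcases two_pair_table _ (ax_bound hi 0) _ (ax_bound hi 1) _ (ax_bound hm 0) _ (ax_bound hm 1)
      hx hxx (by linarith) with ⟨a1, a2⟩ | ⟨a1, a2⟩ <;> rw [a1] at pi' <;> rw [a2] at pm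
    · exact ⟨q, Or.inr ⟨pi'.2, hA.trans pi'.2, pm.2, hA'.trans pm.2, hB⟩⟩
    · exact ⟨⟨m, n, i, j, hm, hn, hi, hjm, hmn, hmi, hmj, hni, hnj, hne.symm⟩,
        Or.inr ⟨pm.2, hA'.trans pm.2, pi'.2, hA.trans pi'.2, by
          show Y.e m * Y.b m = Y.e n * Y.b n
          rw [dm.1, dm.2.2.1]⟩⟩

/-- The rows outside the four against a certificate, with a set of rows taken out. -/
theorem cert_bound {c : Cert} {ex : Bool} {BT BB BA : ℤ} (r : Finset ι) (hr : r ⊆ Y.s)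
    (hok : rowsOK c ex BT BB BA = true) (hT : ∀ i ∈ r, (tval (Y.A i) (Y.b i)) ^ 2 ≤ BT)
    (hB : ∀ i ∈ r, Y.b i * Y.b i ≤ BB) (hA : ∀ i ∈ r, Y.A i * Y.A i ≤ BA)
    (hex : ex = true → ∀ i ∈ r, ¬ (Y.A i = -2 ∧ Y.b i = 0)) :
    (∑ i ∈ r, (((c.k * Y.b i - Y.A i) * (tval (Y.A i) (Y.b i)) ^ 2 : ℤ) : ℚ) / (Y.f i : ℚ)) * (scale : ℚ) ≤
      ((c.cT * ∑ i ∈ r, (tval (Y.A i) (Y.b i)) ^ 2 + c.cB * ∑ i ∈ r, Y.b i * Y.b i +
        c.cA * ∑ i ∈ r, Y.A i * Y.A i + c.cX * ∑ i ∈ r, Y.A i * Y.b i : ℤ) : ℚ) := by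
  rw [Finset.mul_sum, Finset.mul_sum, Finset.mul_sum, Finset.mul_sum, ← Finset.sum_add_distrib,
    ← Finset.sum_add_distrib, ← Finset.sum_add_distrib, Finset.sum_mul, Int.cast_sum]
  refine Finset.sum_le_sum fun i hi => ?_
  have his := hr hi
  refine le_trans (Y.term his (J := 1) (Or.inl rfl) (by exact_mod_cast Y.one_le i his) (c.k * Y.b i - Y.A i)) ?_
  have hA6 : Y.A i ∈ range 6 := mem_range (by push_cast; nlinarith [(Y.bound his).1])
    (by push_cast; nlinarith [(Y.bound his).1])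
  have hb3 : Y.b i ∈ range 3 := mem_range (by push_cast; nlinarith [(Y.bound his).2])
    (by push_cast; nlinarith [(Y.bound his).2])
  simp only [rowsOK, List.all_eq_true, decide_eq_true_eq] at hok
  rcases hok _ hA6 _ hb3 with h | h | h | ⟨h, h'⟩ | ⟨h, h'⟩ | h
  · exact absurd h (not_lt.2 (hT i hi))
  · exact absurd h (not_lt.2 (hB i hi))
  · exact absurd h (not_lt.2 (hA i hi))
  · refine le_of_eq_of_le (b := (0 : ℚ)) ?_ ?_
    · rw [h, h']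
      norm_num [weight, tval, fmin, scale]
    · rw [h, h']
      norm_num [tval]
  · exact absurd h' (hex h i hi)
  · exact_mod_cast h

/-- The four against the combination. -/
theorem four_bound (hj : ∀ i ∈ Y.supp, 2 ≤ Y.j i) (k : ℤ) :
    (∑ i ∈ Y.supp, (((k * Y.b i + (5 * Y.e i - Y.A i)) * (tval (Y.A i) (Y.b i)) ^ 2 : ℤ) : ℚ) / (Y.f i : ℚ)) *
      (scale : ℚ) ≤ ((∑ i ∈ Y.supp, fourWeight k (Y.e i * Y.A i) (Y.e i * Y.b i) : ℤ) : ℚ) := by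
  rw [Finset.sum_mul, Int.cast_sum]
  refine Finset.sum_le_sum fun i hi => ?_
  obtain ⟨his, hne⟩ := Y.mem_supp.1 hi
  refine le_trans (Y.term his (J := 2) (Or.inr rfl) (by exact_mod_cast hj i hi) _) ?_
  rw [Int.cast_le, fourWeight]
  rcases Y.unit i his with e | e | e
  · refine le_max_of_le_left (le_of_eq ?_)
    rw [e]
    congr 1 <;> ring
  · refine le_max_of_le_right (le_of_eq ?_)
    rw [e]
    congr 1 <;> ring
  · exact absurd e hne

open Classical in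
/-- The rows outside the four. -/
noncomputable def rest (Y : Sys ι) : Finset ι := Y.s.filter fun i => Y.e i = 0

theorem split_sum {α : Type*} [AddCommMonoid α] (F : ι → α) :
    ∑ i ∈ Y.s, F i = ∑ i ∈ Y.supp, F i + ∑ i ∈ Y.rest, F i := by
  classical
  rw [supp, rest, add_comm, ← Finset.sum_filter_add_sum_filter_not Y.s (fun i => Y.e i = 0)]

theorem combo (k : ℤ) :
    ∑ i ∈ Y.s, (((k * Y.b i + (5 * Y.e i - Y.A i)) * (tval (Y.A i) (Y.b i)) ^ 2 : ℤ) : ℚ) / (Y.f i : ℚ) =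
      (k : ℚ) + 4 := by
  rw [← Y.avg, show (k : ℚ) = (k : ℚ) * 1 from (mul_one _).symm, ← Y.phi, Finset.mul_sum, ← Finset.sum_add_distrib]
  refine Finset.sum_congr rfl fun i _ => ?_
  push_cast
  ring

theorem false_of_rest {c : Cert} {four R : ℤ} (hj : ∀ i ∈ Y.supp, 2 ≤ Y.j i)
    (hfour : ∑ i ∈ Y.supp, fourWeight c.k (Y.e i * Y.A i) (Y.e i * Y.b i) ≤ four)
    (hbound : (∑ i ∈ Y.rest, (((c.k * Y.b i - Y.A i) * (tval (Y.A i) (Y.b i)) ^ 2 : ℤ) : ℚ) / (Y.f i : ℚ)) *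
      (scale : ℚ) ≤ (R : ℚ))
    (hlt : four + R < (c.k + 4) * scale) : False := by
  classical
  have h1 := congrArg (· * (scale : ℚ)) (Y.combo c.k)
  rw [Y.split_sum, add_mul,
    Finset.sum_congr rfl (s₁ := Y.rest) (g := fun i =>
      (((c.k * Y.b i - Y.A i) * (tval (Y.A i) (Y.b i)) ^ 2 : ℤ) : ℚ) / (Y.f i : ℚ)) fun i hi => by
      rw [rest, Finset.mem_filter] at hi
      rw [hi.2]; ring_nf] at h1
  have h2 := four_bound hj c.k
  have h3 : ((∑ i ∈ Y.supp, fourWeight c.k (Y.e i * Y.A i) (Y.e i * Y.b i) : ℤ) : ℚ) ≤ (four : ℚ) := by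
    exact_mod_cast hfour
  have h4 : ((four + R : ℤ) : ℚ) < (((c.k + 4) * scale : ℤ) : ℚ) := by
    exact_mod_cast hlt
  push_cast at h1 hbound h3 h4 h2
  linarith

/-- The theorem of this file. -/
theorem not_all_large (hj : ∀ i ∈ Y.supp, 2 ≤ Y.j i) : False := by
  classical
  obtain ⟨q, hshape⟩ := Y.shape
  have hsub : Y.rest ⊆ Y.s := Finset.filter_subset _ _
  set BT := 319 - qsum q.quad (fun a β => (tval a β) ^ 2) with hBT
  set BB := 15 - qsum q.quad (fun _ β => β * β) with hBB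
  set BA := 44 - qsum q.quad (fun a _ => a * a) with hBA
  set BX := 19 - qsum q.quad (fun a β => a * β) with hBX
  have eT : ∑ i ∈ Y.rest, (tval (Y.A i) (Y.b i)) ^ 2 ≤ BT := by
    rw [hBT, q.qsum_eq, Finset.sum_congr rfl fun i hi => tval_mul _ _ _ (sq_one hi)]
    have := Y.TT
    rw [Y.split_sum] at this
    linarith
  have hsq : ∀ (F H : ι → ℤ), ∀ i ∈ Y.supp, (Y.e i * F i) * (Y.e i * H i) = F i * H i := fun F H i hi => by
    rw [mul_mul_mul_comm, sq_one hi, one_mul]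
  have eB : ∑ i ∈ Y.rest, Y.b i * Y.b i = BB := by
    rw [hBB, q.qsum_eq, Finset.sum_congr rfl (hsq Y.b Y.b)]
    have := Y.bb
    rw [Y.split_sum] at this
    linarith
  have eA : ∑ i ∈ Y.rest, Y.A i * Y.A i = BA := by
    rw [hBA, q.qsum_eq, Finset.sum_congr rfl (hsq Y.A Y.A)]
    have := Y.AA
    rw [Y.split_sum] at this
    linarith
  have eX : ∑ i ∈ Y.rest, Y.A i * Y.b i = BX := by
    rw [hBX, q.qsum_eq, Finset.sum_congr rfl (hsq Y.A Y.b)]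
    have := Y.Ab
    rw [Y.split_sum] at this
    linarith
  have hcs : BX ^ 2 ≤ BA * BB := by
    rw [← eA, ← eB, ← eX]
    have := Finset.sum_mul_sq_le_sq_mul_sq Y.rest Y.A Y.b
    simpa only [pow_two] using this
  have hv : viable q.quad = true := by
    simp only [viable, decide_eq_true_eq]
    refine ⟨?_, ?_, ?_, hcs, ?_⟩
    · rw [q.qsum_eq]; exact Y.sum_b
    · rw [q.qsum_eq]; exact Y.sq_le Y.bb.le
    · rw [q.qsum_eq]; exact Y.tsq_le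
    · rw [q.qsum_eq]; exact Y.scale_lt (Or.inr rfl) fun i hi => by exact_mod_cast hj i hi
  have hb : ∀ {i : ι}, i ∈ Y.supp → Y.e i * Y.b i ∈ range 3 := fun {i} hi => by
    have h := (Y.bound (Y.mem_supp.1 hi).1).2
    have h2 := hsq Y.b Y.b i hi
    exact mem_range (by push_cast; nlinarith) (by push_cast; nlinarith)
  have hk : killed q.quad = true := by
    rcases hshape with ⟨h0, h1, h2, h3⟩ | ⟨h0, h1, h2, h3, h4⟩
    · have he : q.quad = ((5, q.quad.1.2), (1, q.quad.2.1.2), (1, q.quad.2.2.1.2), (1, q.quad.2.2.2.2)) :=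
        Prod.ext (Prod.ext h0 rfl) (Prod.ext (Prod.ext h1 rfl) (Prod.ext (Prod.ext h2 rfl) (Prod.ext h3 rfl)))
      rw [he] at hv ⊢
      exact five_table _ (hb q.mem₀) _ (hb q.mem₁) _ (hb q.mem₂) _ (hb q.mem₃) hv
    · have he : q.quad = ((3, q.quad.1.2), (3, q.quad.1.2), (1, q.quad.2.2.1.2), (1, q.quad.2.2.2.2)) :=
        Prod.ext (Prod.ext h0 rfl) (Prod.ext (Prod.ext h1 h4.symm) (Prod.ext (Prod.ext h2 rfl) (Prod.ext h3 rfl)))
      rw [he] at hv ⊢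
      exact three_table _ (hb q.mem₀) _ (hb q.mem₂) _ (hb q.mem₃) hv
  have single : ∀ (F : ι → ℤ) (c : ℤ), (∀ i ∈ Y.rest, 0 ≤ F i) → ∑ i ∈ Y.rest, F i ≤ c → ∀ i ∈ Y.rest, F i ≤ c :=
    fun F c h0 h i hi => (Finset.single_le_sum h0 hi).trans h
  have plain : ∀ c : Cert, certOK c false (qsum q.quad (fourWeight c.k)) BT BB BA BX = true → False := by
    intro c hc
    simp only [certOK, Bool.and_eq_true, decide_eq_true_eq] at hc
    refine false_of_rest (R := c.cT * BT + c.cB * BB + c.cA * BA + c.cX * BX) hj (le_of_eq (q.qsum_eq _).symm)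
      (le_trans (cert_bound Y.rest hsub hc.2
      (single _ _ (fun i _ => sq_nonneg _) eT) (single _ _ (fun i _ => mul_self_nonneg _) eB.le)
      (single _ _ (fun i _ => mul_self_nonneg _) eA.le) (fun h => absurd h Bool.false_ne_true)) ?_) (by linarith [hc.1])
    rw [eB, eA, eX, Int.cast_le]
    nlinarith [c.cTn]
  simp only [killed, Bool.or_eq_true, Bool.and_eq_true, decide_eq_true_eq, ← hBT, ← hBB, ← hBA, ← hBX] at hk
  rcases hk with ((h | h) | h) | ⟨⟨h128, h4⟩, h5⟩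
  · exact plain cert1 h
  · exact plain cert2 h
  · exact plain cert3 h
  by_cases hone : ∃ i₀ ∈ Y.rest, Y.A i₀ = -2 ∧ Y.b i₀ = 0
  · obtain ⟨i₀, hi₀, hA0, hb0⟩ := hone
    simp only [certOK, Bool.and_eq_true, decide_eq_true_eq] at h5
    set r := Y.rest.erase i₀
    have t0 : (tval (Y.A i₀) (Y.b i₀)) ^ 2 = 64 := by rw [hA0, hb0]; rfl
    have rT : ∑ i ∈ r, (tval (Y.A i) (Y.b i)) ^ 2 ≤ BT - 64 := by
      rw [← Finset.add_sum_erase _ _ hi₀, t0] at eT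
      linarith
    have rB : ∑ i ∈ r, Y.b i * Y.b i = BB := by
      rw [← Finset.add_sum_erase _ _ hi₀, hb0] at eB
      linarith
    have rA : ∑ i ∈ r, Y.A i * Y.A i = BA - 4 := by
      rw [← Finset.add_sum_erase _ _ hi₀, hA0] at eA
      linarith
    have rX : ∑ i ∈ r, Y.A i * Y.b i = BX := by
      rw [← Finset.add_sum_erase _ _ hi₀, hb0] at eX
      linarith
    have hex : ∀ i ∈ r, ¬ (Y.A i = -2 ∧ Y.b i = 0) := by
      rintro i hi ⟨h1, h2⟩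
      have h3 := Finset.single_le_sum (f := fun i => (tval (Y.A i) (Y.b i)) ^ 2) (fun i _ => sq_nonneg _) hi
      rw [h1, h2] at h3
      simp only [tval] at h3 rT
      omega
    have hrs : ∀ (F : ι → ℤ) (c : ℤ), (∀ i, 0 ≤ F i) → ∑ i ∈ r, F i ≤ c → ∀ i ∈ r, F i ≤ c :=
      fun F c h0 h i hi => (Finset.single_le_sum (fun i _ => h0 i) hi).trans h
    have hb5 := cert_bound (c := cert5) r ((Finset.erase_subset _ _).trans hsub) h5.2
      (hrs _ _ (fun i => sq_nonneg _) rT) (hrs _ _ (fun i => mul_self_nonneg _) rB.le)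
      (hrs _ _ (fun i => mul_self_nonneg _) rA.le) (fun _ => hex)
    have ht := Y.term (hsub hi₀) (J := 1) (Or.inl rfl) (by exact_mod_cast Y.one_le _ (hsub hi₀))
      (cert5.k * Y.b i₀ - Y.A i₀)
    have hw : weight 1 (cert5.k * Y.b i₀ - Y.A i₀) (Y.A i₀) (Y.b i₀) = weight 1 2 (-2) 0 := by
      rw [hA0, hb0]
      norm_num
    rw [hw] at ht
    rw [rB, rA, rX] at hb5
    refine false_of_rest (c := cert5) (four := qsum q.quad (fourWeight cert5.k))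
      (R := weight 1 2 (-2) 0 + (cert5.cT * (BT - 64) + cert5.cB * BB + cert5.cA * (BA - 4) + cert5.cX * BX))
      hj (le_of_eq (q.qsum_eq _).symm) ?_ ?_
    · rw [← Finset.add_sum_erase _ _ hi₀, add_mul, Int.cast_add]
      refine add_le_add ht (le_trans hb5 (Int.cast_le.2 ?_))
      nlinarith [cert5.cTn]
    · have h5' := h5.1
      simp only [show cert5.k = 3 from rfl] at h5' ⊢
      linarith
  · simp only [certOK, Bool.and_eq_true, decide_eq_true_eq] at h4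
    push Not at hone
    refine false_of_rest (c := cert4) (R := cert4.cT * BT + cert4.cB * BB + cert4.cA * BA + cert4.cX * BX) hj
      (le_of_eq (q.qsum_eq _).symm) (le_trans (cert_bound Y.rest hsub h4.2
      (single _ _ (fun i _ => sq_nonneg _) eT) (single _ _ (fun i _ => mul_self_nonneg _) eB.le)
      (single _ _ (fun i _ => mul_self_nonneg _) eA.le) (fun _ i hi h => hone i hi h.1 h.2)) ?_) (by
        have h4' := h4.1
        simp only [show cert4.k = 3 from rfl] at h4' ⊢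
        linarith)
    rw [eB, eA, eX, Int.cast_le]
    nlinarith [cert4.cTn]

end Sys

end Cfsg.Agent.Transfer.UFLyons
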