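import Cfsg.Agent.Lib.Transfer.UnitaryFour.Shape

/-!
# The quadratic map of a group of the shape of a Sylow 2-subgroup of `PSU(3, 4)`

Squaring induces a map from the sixteen cosets of the centre to the centre.  No three cosets forming a line have
the same square, each of the three classes has five cosets, and an odd group of automorphisms fixing the centre
induces on the cosets nothing or a cyclic group of order five without fixed point.
-/

set_option autoImplicit false
set_option linter.unusedSectionVars false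
set_option linter.style.haveILetI false

namespace Cfsg.Agent.Transfer.UFLyons.Lines

open Subgroup UnitaryFour

variable {T : Type*} [Group T]

/-- The commutator with `a`, as a homomorphism to the centre. -/
def cmHom (h : Shape T) (a : T) : T →* center T where
  toFun b := ⟨b * a * b⁻¹ * a⁻¹, h.comm b a⟩
  map_one' := Subtype.ext (show 1 * a * 1⁻¹ * a⁻¹ = (1 : T) by group)
  map_mul' b b' := Subtype.ext (by
    show b * b' * a * (b * b')⁻¹ * a⁻¹ = b * a * b⁻¹ * a⁻¹ * (b' * a * b'⁻¹ * a⁻¹)
    have h1 := mem_center_iff.1 (h.comm b' a) b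
    calc b * b' * a * (b * b')⁻¹ * a⁻¹ = b * (b' * a * b'⁻¹ * a⁻¹) * (a * b⁻¹ * a⁻¹) := by group
      _ = b' * a * b'⁻¹ * a⁻¹ * b * (a * b⁻¹ * a⁻¹) := by rw [h1]
      _ = b' * a * b'⁻¹ * a⁻¹ * (b * a * b⁻¹ * a⁻¹) := by group
      _ = _ := (mem_center_iff.1 (h.comm b' a) (b * a * b⁻¹ * a⁻¹)).symm)

theorem cmHom_coe (h : Shape T) (a b : T) : (cmHom h a b : T) = b * a * b⁻¹ * a⁻¹ := rfl

theorem cmHom_eq_one (h : Shape T) {a b : T} : cmHom h a b = 1 ↔ b * a = a * b := by
  rw [← Subtype.coe_inj, cmHom_coe]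
  exact mul_inv_eq_one.trans mul_inv_eq_iff_eq_mul

theorem cmHom_self (h : Shape T) (a : T) : cmHom h a a = 1 := (cmHom_eq_one h).2 rfl

theorem cmHom_symm (h : Shape T) (a b : T) : cmHom h a b = cmHom h b a := by
  refine Subtype.ext ?_
  rw [cmHom_coe, cmHom_coe]
  calc b * a * b⁻¹ * a⁻¹ = (a * b * a⁻¹ * b⁻¹)⁻¹ := by group
    _ = _ := inv_eq_of_mul_eq_one_right (h.exp _ (h.comm a b))

theorem center_inv (h : Shape T) (v : center T) : v⁻¹ = v :=
  inv_eq_of_mul_eq_one_right (Subtype.ext (h.exp v v.2))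

/-- The square, as an element of the centre. -/
def sqc (h : Shape T) (t : T) : center T := ⟨t * t, h.sq t⟩

theorem sqc_coe (h : Shape T) (t : T) : (sqc h t : T) = t * t := rfl

theorem sqc_mul (h : Shape T) (a b : T) : sqc h (a * b) = cmHom h a b * sqc h a * sqc h b := by
  refine Subtype.ext ?_
  show a * b * (a * b) = b * a * b⁻¹ * a⁻¹ * (a * a) * (b * b)
  have h1 := mem_center_iff.1 (h.comm b a) a
  calc a * b * (a * b) = a * (b * a * b⁻¹ * a⁻¹) * (a * b * b) := by group
    _ = b * a * b⁻¹ * a⁻¹ * a * (a * b * b) := by rw [h1]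
    _ = _ := by group

theorem sqc_eq_one (h : Shape T) {t : T} : sqc h t = 1 ↔ t ∈ center T := by
  rw [← Subtype.coe_inj, sqc_coe]
  exact ⟨fun e => h.inv t e, fun ht => h.exp t ht⟩

theorem sqc_mul_center (h : Shape T) (t : T) {c : T} (hc : c ∈ center T) : sqc h (t * c) = sqc h t := by
  rw [sqc_mul, (sqc_eq_one h).2 hc, (cmHom_eq_one h).2 (mem_center_iff.1 hc t).symm, one_mul, mul_one]

theorem cmHom_surjective (h : Shape T) {a : T} (ha : a ∉ center T) : Function.Surjective (cmHom h a) := by
  intro v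
  obtain ⟨y, hy⟩ := h.full a ha v v.2
  exact ⟨y, Subtype.ext (by rw [cmHom_coe, hy, mul_inv_cancel_right])⟩

variable [Finite T]

theorem card_ker (h : Shape T) {a : T} (ha : a ∉ center T) : Nat.card (cmHom h a).ker = 16 := by
  have h1 := (cmHom h a).ker.card_mul_index
  rw [index_ker, MonoidHom.range_eq_top.2 (cmHom_surjective h ha), Subgroup.card_top, h.centre, h.card] at h1
  omega

/-- The centraliser of a noncentral element is abelian. -/
theorem comm_of_comm (h : Shape T) {r p p' : T} (hr : r ∉ center T) (hp : p * r = r * p) (hp' : p' * r = r * p') :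
    p * p' = p' * p := by
  set P := (cmHom h r).ker
  have hP : ∀ {x : T}, x ∈ P ↔ x * r = r * x := fun {x} => MonoidHom.mem_ker.trans (cmHom_eq_one h)
  set M := center T ⊔ zpowers r with hM
  have hMP : M ≤ P := sup_le (fun x hx => hP.2 (mem_center_iff.1 hx r).symm) (zpowers_le.2 (hP.2 rfl))
  by_cases hpM : p ∈ M
  · have h2 : M ≤ centralizer ({p'} : Set T) :=
      sup_le (fun x hx => mem_centralizer_singleton_iff.2 (mem_center_iff.1 hx p').symm)
        (zpowers_le.2 (mem_centralizer_singleton_iff.2 hp'.symm))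
    exact mem_centralizer_singleton_iff.1 (h2 hpM)
  set H := M ⊔ zpowers p
  have hHP : H ≤ P := sup_le hMP (zpowers_le.2 (hP.2 hp))
  have hlt : ∀ {A B : Subgroup T}, A < B → 2 * Nat.card A ≤ Nat.card B := by
    intro A B hAB
    obtain ⟨k, hk⟩ := card_dvd_of_le hAB.le
    rw [hk]
    rcases k with _ | _ | k
    · exact absurd hk (by rw [mul_zero]; exact Nat.card_pos.ne')
    · exact absurd (Subgroup.eq_of_le_of_card_ge hAB.le (by rw [hk, zero_add, mul_one])) hAB.ne
    · rw [mul_comm]; exact Nat.mul_le_mul_left _ (by omega)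
  have h1 : 2 * Nat.card (center T) ≤ Nat.card M :=
    hlt (lt_of_le_of_ne le_sup_left fun e => hr (e ▸ mem_sup_right (mem_zpowers r)))
  have h2 : 2 * Nat.card M ≤ Nat.card H :=
    hlt (lt_of_le_of_ne le_sup_left fun e => hpM (e ▸ mem_sup_right (mem_zpowers p)))
  rw [h.centre] at h1
  have hHe : H = P := Subgroup.eq_of_le_of_card_ge hHP (by rw [card_ker h hr]; omega)
  have h3 : H ≤ centralizer ({p} : Set T) :=
    sup_le (sup_le (fun x hx => mem_centralizer_singleton_iff.2 (mem_center_iff.1 hx p).symm)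
      (zpowers_le.2 (mem_centralizer_singleton_iff.2 hp.symm))) (zpowers_le.2 (mem_centralizer_singleton_iff.2 rfl))
  exact (mem_centralizer_singleton_iff.1 (h3 (hHe ▸ hP.2 hp'))).symm

/-- Commuting elements with the same square agree modulo the centre. -/
theorem congr_of_comm (h : Shape T) {a b : T} (hc : a * b = b * a) (hs : a * a = b * b) :
    a⁻¹ * b ∈ center T := by
  refine h.inv _ ?_
  have h1 : Commute a⁻¹ b := (show Commute a b from hc).inv_left
  calc a⁻¹ * b * (a⁻¹ * b) = a⁻¹ * (b * a⁻¹) * b := by group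
    _ = a⁻¹ * (a⁻¹ * b) * b := by rw [← h1.eq]
    _ = (a * a)⁻¹ * (b * b) := by group
    _ = 1 := by rw [hs, inv_mul_cancel]

theorem sqc_swap (h : Shape T) (a b : T) : sqc h (b * a) = sqc h (a * b) := by
  have hz : b⁻¹ * a⁻¹ * b * a ∈ center T := by simpa using h.comm b⁻¹ a⁻¹
  rw [show b * a = a * b * (b⁻¹ * a⁻¹ * b * a) by group, sqc_mul_center h _ hz]

/-- Every square occurs in the centraliser of a noncentral element. -/
theorem exists_comm_sq (h : Shape T) {r : T} (hr : r ∉ center T) (v : center T) :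
    ∃ p : T, p * r = r * p ∧ sqc h p = v := by
  set P := (cmHom h r).ker
  let f : P →* center T :=
    { toFun := fun p => sqc h p
      map_one' := (sqc_eq_one h).2 (one_mem _)
      map_mul' := fun p q => by
        rw [Subgroup.coe_mul, sqc_mul, (cmHom_eq_one h).2 (comm_of_comm h hr ((cmHom_eq_one h).1 q.2)
          ((cmHom_eq_one h).1 p.2)), one_mul] }
  have hker : Nat.card f.ker ≤ 4 := by
    rw [← h.centre]
    exact Nat.card_le_card_of_injective (fun x : f.ker => (⟨((x : P) : T), (sqc_eq_one h).1 x.2⟩ : center T))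
      fun x y e => Subtype.ext (Subtype.ext (congrArg (fun z : center T => (z : T)) e))
  have h1 := f.ker.card_mul_index
  rw [index_ker, card_ker h hr] at h1
  have h2 : f.range = ⊤ := Subgroup.eq_top_of_le_card _ (by
    rw [h.centre]
    by_contra hlt
    have := Nat.mul_le_mul hker (show Nat.card f.range ≤ 3 by omega)
    omega)
  obtain ⟨p, hp⟩ := MonoidHom.range_eq_top.1 h2 v
  exact ⟨p, (cmHom_eq_one h).1 p.2, hp⟩

/-- The four elements of the centre. -/
theorem center_cases (h : Shape T) {v u : center T} (hv : v ≠ 1) (hu : u ≠ 1) (huv : u ≠ v) (x : center T) :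
    x = 1 ∨ x = v ∨ x = u ∨ x = v * u := by
  classical
  have h3 : v * u ≠ 1 := fun e => huv (by rw [eq_inv_of_mul_eq_one_right e, center_inv h])
  have h4 : v * u ≠ v := fun e => hu (mul_eq_left.1 e)
  have h5 : v * u ≠ u := fun e => hv (mul_eq_right.1 e)
  have hc : ({1, v, u, v * u} : Set (center T)).ncard = 4 := by
    rw [Set.ncard_insert_of_notMem (by simp [Ne.symm hv, Ne.symm hu, Ne.symm h3]),
      Set.ncard_insert_of_notMem (by simp [Ne.symm huv, Ne.symm h4]), Set.ncard_pair (Ne.symm h5)]
  have := Set.eq_of_subset_of_ncard_le (Set.subset_univ ({1, v, u, v * u} : Set (center T)))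
    (by rw [hc, Set.ncard_univ, h.centre]) (Set.toFinite _)
  have hx : x ∈ ({1, v, u, v * u} : Set (center T)) := this ▸ Set.mem_univ x
  simpa using hx

/-- A noncentral element whose commutator with a pair of elements of square `v` is `(u, 1)` has square `u`. -/
theorem sq_of_comm_pair (h : Shape T) {v u : center T} (hv : v ≠ 1) (hu : u ≠ 1) (huv : u ≠ v) {a b t : T}
    (ha : sqc h a = v) (hb : sqc h b = v) (hab : cmHom h a b = v) (hta : cmHom h a t = u)
    (htb : cmHom h b t = 1) : sqc h t = u := by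
  have hz : ∀ {y : T}, cmHom h a y ≠ 1 → sqc h y ≠ 1 := fun {y} hy e =>
    hy ((cmHom_eq_one h).2 (mem_center_iff.1 ((sqc_eq_one h).1 e) a).symm)
  have h1 := hz (y := t) (by rw [hta]; exact hu)
  have h2 := hz (y := t * a) (by rw [map_mul, hta, cmHom_self, mul_one]; exact hu)
  have h3 := hz (y := t * b) (by
    rw [map_mul, hta, hab]
    exact fun e => huv (by rw [eq_inv_of_mul_eq_one_left e, center_inv h]))
  rw [sqc_mul, cmHom_symm, hta, ha] at h2
  rw [sqc_mul, cmHom_symm, htb, hb, one_mul] at h3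
  rcases center_cases h hv hu huv (sqc h t) with e | e | e | e
  · exact absurd e h1
  · exact absurd (by rw [e]; exact Subtype.ext (h.exp v v.2)) h3
  · exact e
  · refine absurd ?_ h2
    rw [e]
    exact Subtype.ext (by
      show (u : T) * (v * u) * v = 1
      have hvu : (v : T) * u = u * v := (mem_center_iff.1 v.2 u).symm
      rw [hvu, ← mul_assoc, h.exp u u.2, one_mul, h.exp v v.2])

/-- No line of cosets with a single square. -/
theorem no_line (h : Shape T) {a b : T} (ha : a ∉ center T) (hb : b ∉ center T) (hsb : a * a = b * b)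
    (hsab : a * b * (a * b) = a * a) : False := by
  set v := sqc h a with hvdef
  have hv : v ≠ 1 := fun e => ha ((sqc_eq_one h).1 e)
  have hbv : sqc h b = v := Subtype.ext hsb.symm
  have habv : cmHom h a b = v := by
    have h1 : sqc h (a * b) = v := Subtype.ext hsab
    rw [sqc_mul, ← hvdef, hbv, mul_assoc, show v * v = 1 from Subtype.ext (h.exp v v.2), mul_one] at h1
    exact h1
  have hker : ∀ w : T, cmHom h a w = 1 → cmHom h b w = 1 → w ∈ center T := by
    intro w hwa hwb
    by_contra hw
    refine hv (habv.symm.trans ((cmHom_eq_one h).2 ?_))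
    exact comm_of_comm h hw ((cmHom_eq_one h).1 hwb).symm ((cmHom_eq_one h).1 hwa).symm
  let χ : T →* center T × center T := (cmHom h a).prod (cmHom h b)
  have hχ : Function.Surjective χ := by
    refine MonoidHom.range_eq_top.1 (Subgroup.eq_top_of_le_card _ ?_)
    have h1 := χ.ker.card_mul_index
    rw [index_ker, h.card] at h1
    have h2 : Nat.card χ.ker ≤ 4 := by
      rw [← h.centre]
      refine Subgroup.card_le_of_le fun w hw => ?_
      exact hker w (congrArg Prod.fst (MonoidHom.mem_ker.1 hw)) (congrArg Prod.snd (MonoidHom.mem_ker.1 hw))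
    rw [Nat.card_prod, h.centre]
    by_contra hlt
    have := Nat.mul_le_mul h2 (show Nat.card χ.range ≤ 15 by omega)
    omega
  obtain ⟨u, hu, huv⟩ : ∃ u : center T, u ≠ 1 ∧ u ≠ v := by
    by_contra hno
    push Not at hno
    have h2 : (Set.univ : Set (center T)) ⊆ {1, v} := fun x _ => by
      by_cases hx : x = 1
      · exact Or.inl hx
      · exact Or.inr (hno x hx)
    have := (Set.ncard_le_ncard h2 (Set.toFinite _)).trans (Set.ncard_insert_le _ _)
    rw [Set.ncard_univ, h.centre, Set.ncard_singleton] at this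
    omega
  obtain ⟨t, ht⟩ := hχ (u, 1)
  obtain ⟨s, hs⟩ := hχ (1, u)
  have hta : cmHom h a t = u := congrArg Prod.fst ht
  have htb : cmHom h b t = 1 := congrArg Prod.snd ht
  have hsa : cmHom h a s = 1 := congrArg Prod.fst hs
  have hsb' : cmHom h b s = u := congrArg Prod.snd hs
  have htt : sqc h t = u := sq_of_comm_pair h hv hu huv rfl hbv habv hta htb
  have hss : sqc h s = u := sq_of_comm_pair h hv hu huv hbv rfl (by rw [cmHom_symm]; exact habv) hsb' hsa
  have hz : ∀ {y : T}, cmHom h a y ≠ 1 → sqc h y ≠ 1 := fun {y} hy e =>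
    hy ((cmHom_eq_one h).2 (mem_center_iff.1 ((sqc_eq_one h).1 e) a).symm)
  have hets : cmHom h t s = u := by
    set e := cmHom h t s
    have h1 := hz (y := t * s) (by rw [map_mul, hta, hsa, mul_one]; exact hu)
    have h2 := hz (y := t * s * a) (by rw [map_mul, map_mul, hta, hsa, cmHom_self, mul_one, mul_one]; exact hu)
    have h3 := hz (y := t * s * (a * b)) (by
      rw [map_mul, map_mul, map_mul, hta, hsa, cmHom_self, habv, mul_one, one_mul]
      exact fun e' => huv (by rw [eq_inv_of_mul_eq_one_left e', center_inv h]))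
    have hts : sqc h (t * s) = e := by
      rw [sqc_mul, htt, hss, mul_assoc, show u * u = 1 from Subtype.ext (h.exp u u.2), mul_one]
    have hv' : sqc h (a * b) = v := Subtype.ext hsab
    rw [hts] at h1
    rw [sqc_mul, hts, cmHom_symm, map_mul, hta, hsa, mul_one] at h2
    rw [sqc_mul, hts, hv', cmHom_symm, map_mul,
      show cmHom h (a * b) t = u from by rw [cmHom_symm, map_mul, cmHom_symm h t a, hta, cmHom_symm h t b, htb, mul_one],
      show cmHom h (a * b) s = u from by rw [cmHom_symm, map_mul, cmHom_symm h s a, hsa, cmHom_symm h s b, hsb', one_mul],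
      show u * u = 1 from Subtype.ext (h.exp u u.2), one_mul] at h3
    rcases center_cases h hv hu huv e with e' | e' | e' | e'
    · exact absurd e' h1
    · exact absurd (by rw [e']; exact Subtype.ext (h.exp v v.2)) h3
    · exact e'
    · refine absurd ?_ h2
      rw [e', show sqc h a = v from rfl]
      exact Subtype.ext (by
        show (u : T) * (v * u) * v = 1
        have hvu : (v : T) * u = u * v := (mem_center_iff.1 v.2 u).symm
        rw [hvu, ← mul_assoc, h.exp u u.2, one_mul, h.exp v v.2])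
  -- commutators with `t` lie in `⟨u⟩`
  set H := (zpowers u).comap (cmHom h t)
  have hmem : ∀ {y : T}, cmHom h t y = 1 ∨ cmHom h t y = u → y ∈ H := fun {y} hy => by
    rw [mem_comap]
    rcases hy with e | e <;> rw [e]
    · exact one_mem _
    · exact mem_zpowers u
  have hgen : (H.map χ) = ⊤ := by
    refine eq_top_iff.2 fun p _ => ?_
    have g1 : (v, (1 : center T)) ∈ H.map χ :=
      ⟨b, hmem (Or.inl (by rw [cmHom_symm, htb])), Prod.ext habv (cmHom_self h b)⟩
    have g2 : ((1 : center T), v) ∈ H.map χ :=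
      ⟨a, hmem (Or.inr (by rw [cmHom_symm, hta])),
        Prod.ext (cmHom_self h a) (show cmHom h b a = v by rw [cmHom_symm]; exact habv)⟩
    have g3 : (u, (1 : center T)) ∈ H.map χ := ⟨t, hmem (Or.inl (cmHom_self h t)), ht⟩
    have g4 : ((1 : center T), u) ∈ H.map χ := ⟨s, hmem (Or.inr hets), hs⟩
    have g5 : (p.1, (1 : center T)) ∈ H.map χ := by
      rcases center_cases h hv hu huv p.1 with e | e | e | e <;> rw [e]
      · exact one_mem _
      · exact g1
      · exact g3
      · simpa using mul_mem g1 g3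
    have g6 : ((1 : center T), p.2) ∈ H.map χ := by
      rcases center_cases h hv hu huv p.2 with e | e | e | e <;> rw [e]
      · exact one_mem _
      · exact g2
      · exact g4
      · simpa using mul_mem g2 g4
    simpa using mul_mem g5 g6
  have htc : t ∉ center T := fun e => hu (htt.symm.trans ((sqc_eq_one h).2 e))
  obtain ⟨y, hy⟩ := cmHom_surjective h htc v
  obtain ⟨y', hy', he⟩ := (hgen.symm ▸ mem_top (χ y) : χ y ∈ H.map χ)
  have hd : y'⁻¹ * y ∈ H := hmem (Or.inl (by
    refine (cmHom_eq_one h).2 ((mem_center_iff.1 ?_ t).symm)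
    have hk : χ (y'⁻¹ * y) = 1 := by rw [map_mul, map_inv, he, inv_mul_cancel]
    exact hker _ (congrArg Prod.fst hk) (congrArg Prod.snd hk)))
  have hvu : v ∈ zpowers u := by
    have := mul_mem hy' hd
    rwa [mul_inv_cancel_left, mem_comap, hy] at this
  obtain ⟨k, hk⟩ := mem_zpowers_iff.1 hvu
  have hu2 : u ^ (2 : ℤ) = 1 := by
    rw [show (2 : ℤ) = ((2 : ℕ) : ℤ) from rfl, zpow_natCast, pow_two]
    exact Subtype.ext (h.exp u u.2)
  rcases Int.even_or_odd' k with ⟨j, rfl | rfl⟩
  · rw [zpow_mul, hu2, one_zpow] at hk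
    exact hv hk.symm
  · rw [zpow_add, zpow_mul, hu2, one_zpow, one_mul, zpow_one] at hk
    exact huv hk

/-- An automorphism fixing the centre whose cube is trivial modulo the centre is trivial modulo the centre. -/
theorem trivial_of_cube (h : Shape T) (α : MulAut T) (hα : ∀ z ∈ center T, α z = z)
    (h3 : ∀ t, α (α (α t)) * t⁻¹ ∈ center T) (t : T) : α t * t⁻¹ ∈ center T := by
  by_contra ht
  have hpres : ∀ {x : T}, α x ∈ center T → x ∈ center T := fun {x} hx => (mem_center_map α).1 hx
  have hsq : ∀ x, α x * α x = x * x := fun x => by rw [← map_mul, hα _ (h.sq x)]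
  set a := t * α t with ha
  set b := α a with hb
  have haZ : a ∉ center T := fun hc => ht (by
    have e : α t * t⁻¹ = t⁻¹ * a * t⁻¹ := by rw [ha]; group
    rw [e, mem_center_iff.1 hc t⁻¹, mul_assoc, ← mul_inv_rev]
    exact mul_mem hc (inv_mem (h.sq t)))
  have hbZ : b ∉ center T := fun hc => haZ (hpres hc)
  refine no_line h haZ hbZ (hsq a).symm ?_
  -- `a * b ≡ α b` modulo the centre
  set z₃ := α (α (α t)) * t⁻¹ with hz₃
  have e1 : a * b = t * (α t * α t) * α (α t) := by rw [hb, ha, map_mul]; group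
  have e2 : α b = α (α t) * z₃ * t := by rw [hb, ha, map_mul, map_mul, hz₃]; group
  set q := α (α t)
  have hc2 : α t * α t ∈ center T := h.sq _
  have hc3 : z₃ ∈ center T := h3 t
  have e3 : sqc h (α b) = sqc h (a * b) := by
    rw [e1, e2, show t * (α t * α t) * q = t * q * (α t * α t) by
        rw [mul_assoc t, ← mem_center_iff.1 hc2 q, ← mul_assoc],
      show q * z₃ * t = q * t * z₃ by rw [mul_assoc, ← mem_center_iff.1 hc3 t, ← mul_assoc],
      sqc_mul_center h _ hc2, sqc_mul_center h _ hc3]
    exact sqc_swap h _ _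
  rw [← sqc_coe h (a * b), ← e3, sqc_coe, hsq, hb, hsq]

/-- An automorphism of order dividing two modulo the automorphisms trivial on the cosets. -/
theorem sq_fixed (h : Shape T) (α : MulAut T) (hα : ∀ z ∈ center T, α z = z) {t : T}
    (ht : α t * t⁻¹ ∈ center T) : α (α t) = t := by
  set δ := α t * t⁻¹ with hδ
  have e : α t = δ * t := by rw [hδ, inv_mul_cancel_right]
  rw [e, map_mul, hα δ ht, e, ← mul_assoc, h.exp δ ht, one_mul]

section Classes

variable (h : Shape T)

/-- The square of a coset. -/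
def sqV (w : T ⧸ center T) : center T :=
  Quotient.liftOn' w (sqc h) fun a b hab => by
    have h1 : a⁻¹ * b ∈ center T := QuotientGroup.leftRel_apply.1 hab
    rw [← sqc_mul_center h a h1, mul_inv_cancel_left]

theorem sqV_mk (t : T) : sqV h (t : T ⧸ center T) = sqc h t := rfl

/-- The cosets of a given square. -/
abbrev Cl (v : center T) : Type _ := {w : T ⧸ center T // sqV h w = v}

theorem mk_eq {a b : T} : (a : T ⧸ center T) = b ↔ a⁻¹ * b ∈ center T := QuotientGroup.eq

theorem not_center_of_sqc {v : center T} (hv : v ≠ 1) {t : T} (ht : sqc h t = v) : t ∉ center T :=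
  fun e => hv (ht.symm.trans ((sqc_eq_one h).2 e))

include h in
theorem card_Cl {v : center T} (hv : v ≠ 1) : Nat.card (Cl h v) = 5 := by
  classical
  haveI := Fintype.ofFinite T
  have hle : ∀ u w : center T, u ≠ 1 → w ≠ 1 → Nat.card (Cl h u) ≤ Nat.card (Cl h w) := by
    intro u w hu hw
    have key : ∀ x : Cl h u, ∃ y : Cl h w, ∃ a b : T, (a : T ⧸ center T) = x.1 ∧ (b : T ⧸ center T) = y.1 ∧
        a * b = b * a := by
      intro x
      obtain ⟨a, ha⟩ := QuotientGroup.mk_surjective x.1
      have hua : sqc h a = u := by rw [← sqV_mk, ha]; exact x.2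
      obtain ⟨b, hb, hbw⟩ := exists_comm_sq h (not_center_of_sqc h hu hua) w
      exact ⟨⟨b, hbw⟩, a, b, ha, rfl, hb.symm⟩
    choose f a b ha hb hab using key
    refine Nat.card_le_card_of_injective f fun x y e => Subtype.ext ?_
    rw [← ha x, ← ha y]
    have hbb : (b x : T ⧸ center T) = b y := by rw [hb x, hb y, e]
    have hbx : sqc h (b x) = w := by rw [← sqV_mk, hb x]; exact (f x).2
    have hax : sqc h (a x) = u := by rw [← sqV_mk, ha x]; exact x.2
    have hay : sqc h (a y) = u := by rw [← sqV_mk, ha y]; exact y.2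
    have hxy : a y * b x = b x * a y := by
      obtain ⟨z, hz, e1⟩ : ∃ z ∈ center T, b y = b x * z :=
        ⟨_, mk_eq.1 hbb, (mul_inv_cancel_left _ _).symm⟩
      have h1 := hab y
      rw [e1, ← mul_assoc, mul_assoc (b x) _ (a y), ← mem_center_iff.1 hz (a y), ← mul_assoc] at h1
      exact mul_right_cancel h1
    exact mk_eq.2 (congr_of_comm h (comm_of_comm h (not_center_of_sqc h hw hbx) (hab x) hxy)
      (congrArg Subtype.val (hax.trans hay.symm)))
  have hone : Nat.card (Cl h (1 : center T)) = 1 := by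
    refine Nat.card_eq_one_iff_unique.2 ⟨⟨fun x y => Subtype.ext ?_⟩, ⟨⟨(1 : T), (sqc_eq_one h).2 (one_mem _)⟩⟩⟩
    obtain ⟨a, ha⟩ := QuotientGroup.mk_surjective x.1
    obtain ⟨b, hb⟩ := QuotientGroup.mk_surjective y.1
    rw [← ha, ← hb]
    refine mk_eq.2 (mul_mem (inv_mem ((sqc_eq_one h).1 ?_)) ((sqc_eq_one h).1 ?_))
    · rw [← sqV_mk, ha]; exact x.2
    · rw [← sqV_mk, hb]; exact y.2
  have hsum : Nat.card (T ⧸ center T) = ∑ u : center T, Nat.card (Cl h u) := by
    rw [← Nat.card_sigma]
    exact Nat.card_congr (Equiv.sigmaFiberEquiv (sqV h)).symm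
  have h16 : Nat.card (T ⧸ center T) = 16 := by
    have := (center T).card_mul_index
    rw [h.centre, h.card, index_eq_card] at this
    omega
  rw [h16, Fintype.sum_eq_add_sum_compl (1 : center T), hone,
    Finset.sum_congr rfl (fun u hu => le_antisymm
      (hle u v (by simpa using hu) hv) (hle v u hv (by simpa using hu))),
    Finset.sum_const, Finset.card_compl, Finset.card_singleton, ← Nat.card_eq_fintype_card, h.centre,
    smul_eq_mul] at hsum
  omega

variable {E : Type*} [Group E] [Finite E] (φ : E →* MulAut T) (hφ : ∀ g, ∀ z ∈ center T, φ g z = z)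

include h hφ in
theorem map_mk_eq (g : E) {a b : T} (hab : (a : T ⧸ center T) = b) :
    (φ g a : T ⧸ center T) = φ g b := by
  refine mk_eq.2 ?_
  rw [← map_inv, ← map_mul]
  exact (mem_center_map (φ g)).2 (mk_eq.1 hab)

/-- The permutation of the cosets of square `v`. -/
def clMap (v : center T) (g : E) (x : Cl h v) : Cl h v :=
  ⟨Quotient.liftOn' x.1 (fun t => ((φ g t : T) : T ⧸ center T))
    (fun _ _ hab => map_mk_eq h φ hφ g (QuotientGroup.eq.2 (QuotientGroup.leftRel_apply.1 hab))), by
    obtain ⟨⟨t⟩, ht⟩ := x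
    refine Subtype.ext ?_
    show φ g t * φ g t = (v : T)
    rw [← map_mul]
    exact (hφ g _ (h.sq t)).trans (congrArg Subtype.val ht)⟩

theorem clMap_mk (v : center T) (g : E) {t : T} (ht : sqV h (t : T ⧸ center T) = v) :
    (clMap h φ hφ v g ⟨t, ht⟩).1 = (φ g t : T) := rfl

/-- The action on the cosets of square `v`. -/
def clHom (v : center T) : E →* Equiv.Perm (Cl h v) :=
  MonoidHom.mk'
    (fun g =>
      { toFun := clMap h φ hφ v g
        invFun := clMap h φ hφ v g⁻¹
        left_inv := by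
          rintro ⟨⟨t⟩, ht⟩
          refine Subtype.ext ?_
          show ((φ g⁻¹ (φ g t) : T) : T ⧸ center T) = t
          rw [← MulAut.mul_apply, ← map_mul, inv_mul_cancel, map_one, MulAut.one_apply]
        right_inv := by
          rintro ⟨⟨t⟩, ht⟩
          refine Subtype.ext ?_
          show ((φ g (φ g⁻¹ t) : T) : T ⧸ center T) = t
          rw [← MulAut.mul_apply, ← map_mul, mul_inv_cancel, map_one, MulAut.one_apply] })
    (fun g g' => by
      refine Equiv.ext ?_
      rintro ⟨⟨t⟩, ht⟩
      refine Subtype.ext ?_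
      show ((φ (g * g') t : T) : T ⧸ center T) = φ g (φ g' t)
      rw [map_mul, MulAut.mul_apply])

/-- The elements trivial on the cosets. -/
def TrivMod (g : E) : Prop := ∀ t, φ g t * t⁻¹ ∈ center T

include h hφ in
theorem trivMod_iff {v : center T} (hv : v ≠ 1) (g : E) : TrivMod φ g ↔ clHom h φ hφ v g = 1 := by
  constructor
  · intro hg
    refine Equiv.ext ?_
    rintro ⟨⟨t⟩, ht⟩
    refine Subtype.ext ?_
    show ((φ g t : T) : T ⧸ center T) = t
    refine mk_eq.2 ?_
    have e : (φ g t)⁻¹ * t = t⁻¹ * (φ g t * t⁻¹)⁻¹ * t := by group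
    rw [e, mem_center_iff.1 (inv_mem (hg t)) t⁻¹, inv_mul_cancel_right]
    exact inv_mem (hg t)
  · intro hg t
    by_cases htc : t ∈ center T
    · rw [hφ g t htc, mul_inv_cancel]
      exact one_mem _
    obtain ⟨p, hp, hpv⟩ := exists_comm_sq h htc v
    have h1 : ((φ g p : T) : T ⧸ center T) = p :=
      congrArg Subtype.val (Equiv.congr_fun hg ⟨(p : T ⧸ center T), hpv⟩)
    have hz := mk_eq.1 h1
    have hpc := not_center_of_sqc h hv hpv
    have hcp : φ g t * p = p * φ g t := by
      have h2 : φ g p * φ g t = φ g t * φ g p := by rw [← map_mul, hp, map_mul]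
      obtain ⟨z, hzc, e⟩ : ∃ z ∈ center T, p = φ g p * z := ⟨_, hz, (mul_inv_cancel_left _ _).symm⟩
      conv_lhs => rw [e, ← mul_assoc, ← h2, mul_assoc, mem_center_iff.1 hzc (φ g t), ← mul_assoc, ← e]
    have h3 := congr_of_comm h (comm_of_comm h hpc hp.symm hcp)
      (show t * t = φ g t * φ g t by rw [← map_mul, hφ g _ (h.sq t)])
    rw [show φ g t * t⁻¹ = t * (t⁻¹ * φ g t) * t⁻¹ by group, mem_center_iff.1 h3 t, mul_inv_cancel_right]
    exact h3

include h hφ in
/-- An odd automiser is trivial on the cosets or cyclic of order five without fixed point. -/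
theorem automiser (K : Subgroup E) (hK : ∀ g, g ∈ K ↔ TrivMod φ g) (hodd : Odd K.index) :
    K = ⊤ ∨ K.index = 5 ∧ ∀ g ∉ K, ∀ t, φ g t * t⁻¹ ∈ center T → t ∈ center T := by
  classical
  haveI := Fintype.ofFinite T
  obtain ⟨a, ha⟩ : ∃ a : T, a ∉ center T := by
    by_contra hno
    push Not at hno
    have h1 := h.centre
    rw [show center T = ⊤ from eq_top_iff.2 fun x _ => hno x, Subgroup.card_top, h.card] at h1
    omega
  set v := sqc h a
  have hv : v ≠ 1 := fun e => ha ((sqc_eq_one h).1 e)
  have hker : (clHom h φ hφ v).ker = K := by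
    ext g
    rw [MonoidHom.mem_ker, ← trivMod_iff h φ hφ hv, hK]
  have hr : K.index = Nat.card (clHom h φ hφ v).range := by rw [← hker, index_ker]
  have h120 : K.index ∣ 120 := by
    have h1 := Subgroup.card_subgroup_dvd_card (clHom h φ hφ v).range
    rw [← hr, Nat.card_perm, card_Cl h hv] at h1
    exact h1
  have h3 : ¬ 3 ∣ K.index := by
    intro hd
    haveI : Fact (Nat.Prime 3) := ⟨Nat.prime_three⟩
    rw [hr] at hd
    obtain ⟨⟨_, g, rfl⟩, hg'⟩ := exists_prime_orderOf_dvd_card' 3 hd
    have hg : orderOf (clHom h φ hφ v g) = 3 := (Subgroup.orderOf_coe _).trans hg'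
    have hgK : g ^ 3 ∈ K := by
      rw [← hker, MonoidHom.mem_ker, map_pow, ← hg, pow_orderOf_eq_one]
    have h1 : g ∈ K := by
      refine (hK g).2 (trivial_of_cube h (φ g) (hφ g) fun t => ?_)
      have := (hK _).1 hgK t
      rwa [pow_succ, pow_two, map_mul, map_mul, MulAut.mul_apply, MulAut.mul_apply] at this
    rw [← hker, MonoidHom.mem_ker] at h1
    rw [h1, orderOf_one] at hg
    omega
  have h15 : K.index = 1 ∨ K.index = 5 := by
    have hle : K.index ≤ 120 := Nat.le_of_dvd (by norm_num) h120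
    obtain ⟨j, hj⟩ := hodd
    interval_cases hi : K.index <;> omega
  rcases h15 with h1 | h5
  · exact Or.inl (index_eq_one.1 h1)
  refine Or.inr ⟨h5, fun g hg t ht => ?_⟩
  by_contra htc
  set w := sqc h t
  have hw : w ≠ 1 := fun e => htc ((sqc_eq_one h).1 e)
  have hkw : (clHom h φ hφ w).ker = K := by
    ext g
    rw [MonoidHom.mem_ker, ← trivMod_iff h φ hφ hw, hK]
  haveI : Fact (Nat.Prime 5) := ⟨by norm_num⟩
  set σ := clHom h φ hφ w g
  have hσ : σ ^ 5 ^ 1 = 1 := by
    rw [pow_one]
    have h5' : Nat.card (clHom h φ hφ w).range = 5 := by rw [← index_ker, hkw, h5]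
    have := pow_card_eq_one' (G := (clHom h φ hφ w).range) (x := ⟨σ, g, rfl⟩)
    rw [h5'] at this
    exact congrArg Subtype.val this
  have h1 := Equiv.Perm.card_compl_support_modEq hσ
  rw [← Nat.card_eq_fintype_card, card_Cl h hw] at h1
  have hfix : (⟨(t : T ⧸ center T), rfl⟩ : Cl h w) ∈ σ.supportᶜ := by
    rw [Finset.mem_compl, Equiv.Perm.mem_support, not_not]
    refine Subtype.ext ?_
    show ((φ g t : T) : T ⧸ center T) = t
    refine mk_eq.2 ?_
    have e : (φ g t)⁻¹ * t = t⁻¹ * (φ g t * t⁻¹)⁻¹ * t := by group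
    rw [e, mem_center_iff.1 (inv_mem ht) t⁻¹, inv_mul_cancel_right]
    exact inv_mem ht
  have hne : σ.supportᶜ.card ≠ 5 := fun e => hg (by
    rw [← hkw, MonoidHom.mem_ker, ← Equiv.Perm.support_eq_empty_iff]
    refine Finset.compl_eq_univ_iff _ |>.1 (Finset.eq_univ_of_card _ ?_)
    rw [e, ← Nat.card_eq_fintype_card, card_Cl h hw])
  have hle : σ.supportᶜ.card ≤ 5 := by
    have := Finset.card_le_univ σ.supportᶜ
    rwa [← Nat.card_eq_fintype_card, card_Cl h hw] at this
  have hpos : 0 < σ.supportᶜ.card := Finset.card_pos.2 ⟨_, hfix⟩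
  unfold Nat.ModEq at h1
  omega

end Classes

end Cfsg.Agent.Transfer.UFLyons.Lines
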